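import Cfsg.Agent.Sporadic96.TwoRad.Five

/-!
# A complement of the 2-radical over `SU_5(2)`
-/

set_option autoImplicit false

namespace Cfsg.Agent.Sporadic96.TwoRad

open Cfsg.Agent

variable {F : Type*} [Field F] [Fintype F]

/-- The multiplier of `τ_o`. -/
def tmul (ω : F) (o i : Fin 5) : F := if i = o then ω ^ 2 else ω

/-- The diagonal elements. -/
def Diag (g : Cfsg.SU 5 F 2) : Prop := ∃ μ : Fin 5 → F, ∀ (x : Fin 5 → F) i, (g • x) i = μ i * x i

theorem five_ne : ∀ o : Fin 5, o + 1 ≠ o ∧ o + 2 ≠ o ∧ o + 3 ≠ o ∧ o + 4 ≠ o := by decide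

theorem five_dist : ∀ o : Fin 5, o + 1 ≠ o + 2 ∧ o + 1 ≠ o + 3 ∧ o + 1 ≠ o + 4 ∧ o + 2 ≠ o + 3 ∧
    o + 2 ≠ o + 4 ∧ o + 3 ≠ o + 4 := by decide

theorem five_cases : ∀ i o : Fin 5, i = o ∨ i = o + 1 ∨ i = o + 2 ∨ i = o + 3 ∨ i = o + 4 := by decide

variable {G : Type*} [Group G] [Finite G]

namespace Setup

variable (S : Setup G F 5)

include S

theorem toX_eq_of_π {g h : G} (e : S.π g = S.π h) : S.toX g = S.toX h := by
  have hq : g⁻¹ * h ∈ Cfsg.pCore 2 G := by
    rw [← S.π_eq_one, map_mul, map_inv, e, inv_mul_cancel]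
  have h1 : S.toX (g⁻¹ * h) = 1 := Subtype.ext (MulEquiv.ext fun v => Subtype.ext (by
    show ((S.X.subtype (S.toX (g⁻¹ * h)) v : S.N) : G) = v
    rw [S.toX_val, S.centralizes (by decide) hq v.2, mul_inv_cancel_right]))
  rwa [map_mul, map_inv, inv_mul_eq_one] at h1

theorem exists_pair {ω : F} (hω0 : ω ≠ 0) (hω : ω ^ 2 = ω + 1) {k o : Fin 5} (hko : k ≠ o) :
    ∃ h : G, (∀ x : Fin 5 → F, S.π h • x = dg ω k o x) ∧ S.toX h = xe S.pt ω k o := by
  obtain ⟨d, hd, hdu⟩ := S.exists_lift (iso_pv S.hF hko (one_ne_zero (α := F)))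
  obtain ⟨e, he, heu⟩ := S.exists_lift (iso_pv S.hF hko hω0)
  refine ⟨d * e, fun x => ?_, ?_⟩
  · rw [map_mul, hdu, heu, mul_smul, tr1_smul, tr1_smul, tvv_dg S.hF hω hko]
  · rw [map_mul, S.toX_pt hd (iso_pv S.hF hko one_ne_zero) hdu, S.toX_pt he (iso_pv S.hF hko hω0) heu]; rfl

theorem exists_tau {ω : F} (hω0 : ω ≠ 0) (hω : ω ^ 2 = ω + 1) (o : Fin 5) :
    ∃ h : G, (∀ (x : Fin 5 → F) i, (S.π h • x) i = tmul ω o i * x i) ∧
      S.toX h = xe S.pt ω (o + 1) o * xe S.pt ω (o + 2) o *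
        (xe S.pt ω (o + 3) o * xe S.pt ω (o + 4) o) := by
  have hne := five_ne o
  obtain ⟨a, a1, a2⟩ := S.exists_pair hω0 hω hne.1
  obtain ⟨b, b1, b2⟩ := S.exists_pair hω0 hω hne.2.1
  obtain ⟨c, c1, c2⟩ := S.exists_pair hω0 hω hne.2.2.1
  obtain ⟨d, d1, d2⟩ := S.exists_pair hω0 hω hne.2.2.2
  refine ⟨a * b * (c * d), fun x i => ?_, by simp only [map_mul, a2, b2, c2, d2]⟩
  simp only [map_mul, mul_smul, a1, b1, c1, d1, dg, tmul]
  have h3 : ω ^ 3 = 1 := cube_one S.hF hω0
  have hdist := five_dist o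
  have hcases := five_cases i o
  obtain ⟨n1, n2, n3, n4⟩ := hne
  obtain ⟨m12, m13, m14, m23, m24, m34⟩ := hdist
  rcases hcases with rfl | rfl | rfl | rfl | rfl
  · simp only [if_neg n1.symm, if_neg n2.symm, if_neg n3.symm, if_neg n4.symm, if_true]
    linear_combination (ω ^ 2 * x i * (ω ^ 3 + 1)) * h3
  · simp [n1, m12, m13, m14]
  · simp [n2, m12.symm, m23, m24]
  · simp [n3, m13.symm, m23.symm, m34]
  · simp [n4, m14.symm, m24.symm, m34.symm]

theorem fpf {ω : F} (hω0 : ω ≠ 0) (hω1 : ω ≠ 1) (hω : ω ^ 2 = ω + 1) {o : Fin 5} {g : G}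
    (hg : ∀ (x : Fin 5 → F) i, (S.π g • x) i = tmul ω o i * x i) {v : G} (hv : v ∈ S.N)
    (h : g * v = v * g) : v = 1 := by
  obtain ⟨g', h1, h2⟩ := S.exists_tau hω0 hω o
  have hπ : S.π g = S.π g' := Unitary.eq_of_smul_eq_SU fun x => funext fun i => by rw [hg, h1]
  have hfix : S.X.subtype (S.toX g) ⟨v, hv⟩ = ⟨v, hv⟩ :=
    Subtype.ext (by rw [S.toX_val, h, mul_inv_cancel_right])
  rw [S.toX_eq_of_π hπ, h2] at hfix
  have H : Frame S.X.subtype S.pt ω := ⟨S.rep, hω0, hω1, hω, le_refl 5⟩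
  letI := H.module (by decide : Odd 5)
  have hJ := H.module_omega (by decide : Odd 5)
  obtain ⟨c, hc⟩ := H.psi_surj (by decide : Odd 5) ⟨v, hv⟩
  have hne := five_ne o
  obtain ⟨n1, n2, n3, n4⟩ := hne
  rw [← hc, ← TwoModule.act_act, ← TwoModule.act_act, ← TwoModule.act_act, H.xe_psi hJ n4,
    H.xe_psi hJ n3, H.xe_psi hJ n2, H.xe_psi hJ n1] at hfix
  have hdist := five_dist o
  obtain ⟨m12, m13, m14, m23, m24, m34⟩ := hdist
  have hzero : c = 0 := by
    funext i
    have hi := congrFun (H.psi_inj (by decide : Odd 5) hfix) i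
    simp only [smul_smul] at hi
    have hcases := five_cases i o
    have h3 : ω ^ 3 = 1 := cube_one S.hF hω0
    have hmul : (tmul ω o i) • c i = c i := by
      refine Eq.trans ?_ hi
      congr 1
      rcases hcases with rfl | rfl | rfl | rfl | rfl
      · simp only [tmul, if_neg n1.symm, if_neg n2.symm, if_neg n3.symm, if_neg n4.symm, if_true]
        linear_combination -(ω ^ 2 * (ω ^ 3 + 1)) * h3
      · simp [tmul, n1, m12, m13, m14]
      · simp [tmul, n2, m12.symm, m23, m24]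
      · simp [tmul, n3, m13.symm, m23.symm, m34]
      · simp [tmul, n4, m14.symm, m24.symm, m34.symm]
    have h4 : (tmul ω o i - 1) • c i = 0 := by rw [sub_smul, one_smul, hmul, sub_self]
    refine (smul_eq_zero.1 h4).resolve_left ?_
    rw [sub_eq_zero, tmul]
    split_ifs
    · rw [hω]
      intro e; exact hω0 (by linear_combination e)
    · exact hω1
  rw [hzero, H.psi_zero] at hc
  exact (congrArg Subtype.val hc).symm

/-- A member over `u` with trivial commutator with the elements `t o`, `u o = 0`. -/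
def Can (t : Fin 5 → G) (d : G) (u : Fin 5 → F) : Prop :=
  d ∈ S.D ∧ ∃ hu : Iso u, S.π d = tr1 S.hF u hu.2 ∧ ∀ o, u o = 0 → Commute (t o) d

/-- Lifts of the torus elements. -/
structure Torus (ω : F) (t : Fin 5 → G) : Prop where
  h0 : ω ≠ 0
  h1 : ω ≠ 1
  h2 : ω ^ 2 = ω + 1
  act : ∀ o (x : Fin 5 → F) i, (S.π (t o) • x) i = tmul ω o i * x i
  comm : ∀ o o', Commute (t o) (t o')
  cube : ∀ o, t o ^ 3 = 1

theorem exists_torus : ∃ (ω : F) (t : Fin 5 → G), S.Torus ω t := by
  classical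
  obtain ⟨ω, h0, h1, h2⟩ := exists_omega S.hF
  choose g hg _ using S.exists_tau h0 h2
  have hcube : ∀ {a : Cfsg.SU 5 F 2}, Diag a → a ^ 3 = 1 := by
    rintro a ⟨μ, hμ⟩
    have hμ0 : ∀ i, μ i ≠ 0 := fun i e => by
      have h : (Unitary.eI i : Fin 5 → F) i = 0 := by
        rw [← smul_inv_smul a (Unitary.eI i : Fin 5 → F), hμ, e, zero_mul]
      simp [Unitary.eI] at h
    refine Unitary.eq_of_smul_eq_SU fun x => funext fun i => ?_
    rw [pow_succ, pow_two, mul_smul, mul_smul, hμ, hμ, hμ, one_smul, ← mul_assoc, ← mul_assoc,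
      ← pow_two, ← pow_succ, cube_one S.hF (hμ0 i), one_mul]
  have hone : Diag (1 : Cfsg.SU 5 F 2) := ⟨fun _ => 1, fun x i => by rw [one_smul, one_mul]⟩
  have hmul : ∀ {a b : Cfsg.SU 5 F 2}, Diag a → Diag b → Diag (a * b) := by
    rintro a b ⟨μ, hμ⟩ ⟨ν, hν⟩
    exact ⟨fun i => μ i * ν i, fun x i => by rw [mul_smul, hμ, hν, mul_assoc]⟩
  let A : Subgroup (Cfsg.SU 5 F 2) :=
    { carrier := {a | Diag a}
      one_mem' := hone
      mul_mem' := hmul
      inv_mem' := fun {a} ha => by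
        have e : a⁻¹ = a * a := inv_eq_of_mul_eq_one_left (by rw [← hcube ha, pow_succ, pow_two])
        show Diag a⁻¹
        rw [e]; exact hmul ha ha }
  have hA : IsPGroup 3 A := fun a => ⟨1, Subtype.ext (by
    rw [pow_one, SubgroupClass.coe_pow]; exact hcube a.2)⟩
  haveI : Fact (Nat.Prime 3) := ⟨Nat.prime_three⟩
  haveI : Fact (Nat.Prime 2) := ⟨Nat.prime_two⟩
  set B := A.comap S.π with hB
  set K := (Cfsg.pCore 2 G).subgroupOf B with hK
  haveI : K.Normal := Subgroup.normal_subgroupOf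
  have hKer : (S.π.comp B.subtype).ker = K := by
    ext b
    rw [MonoidHom.mem_ker, MonoidHom.comp_apply, hK, Subgroup.mem_subgroupOf, ← S.π_eq_one]
    rfl
  have hcop : Nat.Coprime (Nat.card K) K.index := by
    obtain ⟨k, hk⟩ := IsPGroup.iff_card.1 hA
    obtain ⟨l, hl⟩ := IsPGroup.iff_card.1 ((Thompson.isPGroup_pCore (G := G) (p := 2)).comap_subtype
      (K := B))
    have hdvd : K.index ∣ 3 ^ k := by
      rw [← hKer, Subgroup.index_ker, ← hk]
      refine Subgroup.card_dvd_of_le ?_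
      rintro _ ⟨b, rfl⟩
      exact b.2
    rw [show Nat.card K = 2 ^ l from hl]
    exact Nat.Coprime.coprime_dvd_right hdvd ((by norm_num : Nat.Coprime 2 3).pow l k)
  obtain ⟨P, hP⟩ := Subgroup.exists_right_complement'_of_coprime hcop
  have hinj : ∀ a ∈ P, S.π (a : G) = 1 → a = 1 := fun a ha h1 => by
    have hK' : a ∈ K := Subgroup.mem_subgroupOf.2 (S.π_eq_one.1 h1)
    exact Subgroup.mem_bot.1 (hP.disjoint.le_bot ⟨hK', ha⟩)
  have hex : ∀ o, ∃ t : G, S.π t = S.π (g o) ∧ ∃ p : B, p ∈ P ∧ (p : G) = t := by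
    intro o
    have hgB : g o ∈ B := show Diag (S.π (g o)) from ⟨tmul ω o, hg o⟩
    obtain ⟨⟨⟨k, hk⟩, ⟨p, hp⟩⟩, hkp, -⟩ :=
      (Subgroup.isComplement_iff_existsUnique.1 hP) ⟨g o, hgB⟩
    refine ⟨p, ?_, p, hp, rfl⟩
    have h := congrArg (fun b : B => S.π (b : G)) hkp
    simp only [Subgroup.coe_mul, map_mul] at h
    rw [← h, S.π_eq_one.2 (Subgroup.mem_subgroupOf.1 hk), one_mul]
  choose t ht p hp hpt using hex
  refine ⟨ω, t, h0, h1, h2, fun o x i => by rw [ht]; exact hg o x i, fun o o' => ?_, fun o => ?_⟩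
  · have hc : p o * p o' * (p o)⁻¹ * (p o')⁻¹ = 1 := by
      refine hinj _ (mul_mem (mul_mem (mul_mem (hp o) (hp o')) (inv_mem (hp o))) (inv_mem (hp o'))) ?_
      simp only [Subgroup.coe_mul, Subgroup.coe_inv, map_mul, map_inv, hpt, ht]
      refine mul_inv_eq_one.2 (mul_inv_eq_iff_eq_mul.2 ?_)
      exact Unitary.eq_of_smul_eq_SU fun x => funext fun i => by
        simp only [mul_smul, hg]; ring
    rw [← hpt o, ← hpt o']
    show ((p o : G) * p o') = p o' * p o
    exact congrArg Subtype.val (mul_inv_eq_iff_eq_mul.1 (mul_inv_eq_one.1 hc))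
  · have hc : p o ^ 3 = 1 := hinj _ (pow_mem (hp o) 3) (by
      rw [SubgroupClass.coe_pow, map_pow, hpt, ht]; exact hcube ⟨tmul ω o, hg o⟩)
    rw [← hpt o, ← SubgroupClass.coe_pow, hc]
    rfl

variable {ω : F} {t : Fin 5 → G} (T : S.Torus ω t)

include T

theorem tau_fix {o : Fin 5} {u : Fin 5 → F} (hu : u o = 0) : S.π (t o) • u = ω • u := by
  funext i
  rw [T.act, Pi.smul_apply, smul_eq_mul, tmul]
  by_cases h : i = o
  · subst h; simp [hu]
  · rw [if_neg h]

theorem conj_lift {o : Fin 5} {u : Fin 5 → F} (hu : Iso u) (huo : u o = 0) {d : G}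
    (hdu : S.π d = tr1 S.hF u hu.2) : S.π (t o * d * (t o)⁻¹) = tr1 S.hF u hu.2 := by
  rw [map_mul, map_mul, map_inv, hdu, S.conj_tr1 _ hu]
  exact Unitary.eq_of_smul_eq_SU fun x => by
    rw [tr1_smul, tr1_smul, S.tau_fix T huo, tvv_smul_center S.hF _ _ T.h0]

theorem eq_of_commute {o : Fin 5} {d e : G} (hd : d ∈ S.D) (he : e ∈ S.D) (h : S.π d = S.π e)
    (c1 : Commute (t o) d) (c2 : Commute (t o) e) : d = e := by
  have h1 : d * e = 1 := S.fpf T.h0 T.h1 T.h2 (T.act o) (S.pair_mem hd he h) (c1.mul_right c2).eq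
  rw [← FischerSpace.inv_eq S.set' he]
  exact eq_inv_of_mul_eq_one_left h1

theorem exists_can {u : Fin 5 → F} (hu : Iso u) : ∃ d, S.Can t d u := by
  classical
  obtain ⟨o, huo⟩ := exists_zero S.hF hu
  obtain ⟨d₀, hd₀, hdu⟩ := S.exists_lift hu
  let L := {d : G // d ∈ S.D ∧ S.π d = tr1 S.hF u hu.2}
  let f : L → L := fun d => ⟨t o * d.1 * (t o)⁻¹, S.inv' _ _ d.2.1, S.conj_lift T hu huo d.2.2⟩
  -- `d ↦ d (τ d τ⁻¹) d₀` is injective, hence takes the value `d₀`
  let g : L → L := fun d => ⟨d.1 * ((f d).1 * d₀), by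
    refine ⟨(S.triple d.2.1 (f d).2.1 hd₀ (d.2.2.trans (f d).2.2.symm) ((f d).2.2.trans hdu.symm)).1,
      ?_⟩
    rw [map_mul, map_mul, d.2.2, (f d).2.2, hdu]
    refine Unitary.eq_of_smul_eq_SU fun x => ?_
    simp only [mul_smul, tr1_smul, tvv_tvv S.hF hu.2]⟩
  have hginj : Function.Injective g := by
    rintro ⟨a, ha, hau⟩ ⟨b, hb, hbu⟩ h
    have h' : a * (t o * a * (t o)⁻¹ * d₀) = b * (t o * b * (t o)⁻¹ * d₀) := congrArg Subtype.val h
    rw [← mul_assoc, ← mul_assoc b, mul_left_inj] at h'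
    have hab := hau.trans hbu.symm
    set ta := t o * a * (t o)⁻¹ with hta
    set tb := t o * b * (t o)⁻¹ with htb
    have e1 : b * a = tb * ta := by
      calc b * a = b * (a * ta) * ta := by
            rw [mul_assoc, mul_assoc, FischerSpace.mul_self S.set' (S.inv' _ a ha), mul_one]
        _ = b * (b * tb) * ta := by rw [h']
        _ = tb * ta := by rw [← mul_assoc b b, FischerSpace.mul_self S.set' hb, one_mul]
    have hc : t o * (b * a) = b * a * t o := by
      rw [← mul_inv_eq_iff_eq_mul]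
      calc t o * (b * a) * (t o)⁻¹ = tb * ta := by rw [hta, htb]; group
        _ = b * a := e1.symm
    have h1 := S.fpf T.h0 T.h1 T.h2 (T.act o) (S.pair_mem hb ha hab.symm) hc
    refine Subtype.ext ?_
    show a = b
    rw [← FischerSpace.inv_eq S.set' hb]
    exact eq_inv_of_mul_eq_one_right h1
  obtain ⟨⟨d, hd, hdu'⟩, hdg⟩ := (Finite.injective_iff_surjective.1 hginj) ⟨d₀, hd₀, hdu⟩
  have hfix : d * (t o * d * (t o)⁻¹) = 1 := by
    have := congrArg Subtype.val hdg
    exact mul_right_cancel (b := d₀) (by rw [one_mul, mul_assoc]; exact this)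
  have hto : Commute (t o) d := by
    have h1 := eq_inv_of_mul_eq_one_right hfix
    rw [FischerSpace.inv_eq S.set' hd] at h1
    exact mul_inv_eq_iff_eq_mul.1 h1
  refine ⟨d, hd, hu, hdu', fun o' huo' => ?_⟩
  have e : t o' * d * (t o')⁻¹ = d := by
    refine S.eq_of_commute T (o := o) (S.inv' _ d hd) hd ?_ ?_ hto
    · rw [S.conj_lift T hu huo' hdu', hdu']
    · exact ((T.comm o o').mul_right hto).mul_right (T.comm o o').inv_right
  exact mul_inv_eq_iff_eq_mul.1 e

theorem can_unique {d e : G} {u : Fin 5 → F} (hd : S.Can t d u) (he : S.Can t e u) : d = e := by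
  obtain ⟨hd1, hu, hd2, hd3⟩ := hd
  obtain ⟨he1, _, he2, he3⟩ := he
  obtain ⟨o, ho⟩ := exists_zero S.hF hu
  exact S.eq_of_commute T hd1 he1 (hd2.trans he2.symm) (hd3 o ho) (he3 o ho)

/-- A member commuting with one of the torus elements is canonical. -/
theorem can_of {d : G} {w : Fin 5 → F} (hd : d ∈ S.D) (hw : Iso w) (hdw : S.π d = tr1 S.hF w hw.2)
    {o : Fin 5} (ho : w o = 0) (hc : Commute (t o) d) : S.Can t d w := by
  obtain ⟨f, hf⟩ := S.exists_can T hw
  obtain ⟨hf1, _, hf2, hf3⟩ := id hf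
  rwa [S.eq_of_commute T hd hf1 (hdw.trans hf2.symm) hc (hf3 o ho)]

theorem can_smul {d : G} {u : Fin 5 → F} {a : F} (ha : a ≠ 0) (h : S.Can t d u) :
    S.Can t d (a • u) := by
  obtain ⟨h1, hu, h2, h3⟩ := h
  refine ⟨h1, iso_smul S.hF hu ha, ?_, fun o ho => h3 o ?_⟩
  · rw [h2]
    exact Unitary.eq_of_smul_eq_SU fun x => by rw [tr1_smul, tr1_smul, tvv_smul_center S.hF _ _ ha]
  · exact (mul_eq_zero.1 ho).resolve_left ha

/-- A monomial member permutes the torus elements. -/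
theorem perm {i j : Fin 5} (hij : i ≠ j) {a : F} (ha : a ≠ 0) {d : G}
    (hd : S.Can t d (pv i j a)) : d * t i * d = t j ∧ d * t j * d = t i := by
  obtain ⟨hd1, hu, hd2, hd3⟩ := hd
  have hdd := FischerSpace.mul_self S.set' hd1
  suffices h : d * t i * d = t j by
    refine ⟨h, ?_⟩
    rw [← h]
    calc d * (d * t i * d) * d = (d * d) * t i * (d * d) := by simp only [mul_assoc]
      _ = t i := by rw [hdd, one_mul, mul_one]
  obtain ⟨k, hk⟩ := exists_avoid ({i, j} : Finset (Fin 5))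
    (Nat.lt_of_le_of_lt Finset.card_le_two (by norm_num))
  simp only [Finset.mem_insert, Finset.mem_singleton, not_or] at hk
  have hkd : Commute (t k) d := hd3 k (by simp [pv_apply, hk.1, hk.2])
  set c := d * t i * d with hc
  have hck : Commute (t k) c := (hkd.mul_right (T.comm k i)).mul_right hkd
  have hπ : S.π c = S.π (t j) := by
    refine Unitary.eq_of_smul_eq_SU fun x => funext fun m => ?_
    rw [hc, map_mul, map_mul, hd2, mul_smul, mul_smul, tr1_smul, tr1_smul, T.act, tvv, Pi.add_apply,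
      Pi.smul_apply, smul_eq_mul, T.act, herm_pv S.hF, T.act, T.act]
    simp only [tvv, Pi.add_apply, Pi.smul_apply, smul_eq_mul, herm_pv S.hF, pv_apply, tmul,
      if_neg hij, if_neg hij.symm, if_true, add_zero, zero_add]
    have h3 : a ^ 3 = 1 := cube_one S.hF ha
    have h2 := two_zero S.hF
    by_cases hmi : m = i
    · subst hmi
      simp only [if_true, if_neg hij, add_zero]
      linear_combination (ω + ω ^ 2) * (x m + a ^ 2 * x j) * h2 + (x m + a ^ 2 * x j) * ω * h3 +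
        ω ^ 2 * x m * h2 - ω * x m * h2
    by_cases hmj : m = j
    · subst hmj
      simp only [if_true, if_neg hmi, zero_add]
      linear_combination (ω + ω ^ 2) * a * (x i + a ^ 2 * x m) * h2 +
        a * (x i + a ^ 2 * x m) * ω * h3 + ω * x m * h2 + ω * x m * h3 - ω ^ 2 * x m * h3 -
        ω ^ 2 * x m * h2
    · simp only [if_neg hmi, if_neg hmj, add_zero, mul_zero]
  have hq : c * (t j)⁻¹ ∈ Cfsg.pCore 2 G := by
    rw [← S.π_eq_one, map_mul, map_inv, hπ, mul_inv_cancel]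
  have hqk : Commute (t k) (c * (t j)⁻¹) := hck.mul_right (T.comm k j).inv_right
  set q := c * (t j)⁻¹ with hqdef
  have hqj : Commute (t j) q := by
    have h1 : q * t j * q⁻¹ * (t j)⁻¹ = 1 := S.fpf T.h0 T.h1 T.h2 (T.act k)
      (S.commutator_mem hq (t j))
      (((hqk.mul_right (T.comm k j)).mul_right hqk.inv_right).mul_right (T.comm k j).inv_right).eq
    exact (mul_inv_eq_iff_eq_mul.1 (mul_inv_eq_one.1 h1)).symm
  have hcq : c = q * t j := by rw [hqdef, inv_mul_cancel_right]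
  have h3 : c ^ 3 = 1 := by
    have := conj_pow (a := d) (b := t i) (i := 3)
    rw [FischerSpace.inv_eq S.set' hd1] at this
    rw [hc, this, T.cube, mul_one, hdd]
  rw [hcq, hqj.symm.mul_pow, T.cube, mul_one] at h3
  obtain ⟨r, hr⟩ := FischerSpace.order_dvd_of_mem_pCore hq
  rw [hcq, FischerSpace.eq_one_of_pow h3 hr (by norm_num), one_mul]

/-- Conjugation of canonical members gives canonical members. -/
theorem closed {d e : G} {u v : Fin 5 → F} (hd : S.Can t d u) (he : S.Can t e v) :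
    S.Can t (d * e * d) (tvv u v) := by
  have hlift : ∀ {d e : G} {u v : Fin 5 → F} (hd : S.Can t d u) (he : S.Can t e v),
      d * e * d ∈ S.D ∧ ∃ hw : Iso (tvv u v), S.π (d * e * d) = tr1 S.hF (tvv u v) hw.2 := by
    rintro d e u v ⟨hd1, hu, hd2, -⟩ ⟨he1, hv, he2, -⟩
    refine ⟨FischerSpace.conj_mem S.set' S.inv' hd1 he1, iso_tvv S.hF hu.2 hv, ?_⟩
    rw [map_mul, map_mul, hd2, he2]
    refine Unitary.eq_of_smul_eq_SU fun x => ?_
    rw [mul_smul, mul_smul, tr1_smul, tr1_smul, tr1_smul, tr1_smul]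
    have hs := smul_tvv S.hF (tr1 S.hF u hu.2) v (tvv u x)
    simp only [tr1_smul, tvv_tvv S.hF hu.2] at hs
    exact hs
  have hcommon : ∀ {d e : G} {u v : Fin 5 → F}, S.Can t d u → S.Can t e v →
      ∀ o, u o = 0 → v o = 0 → S.Can t (d * e * d) (tvv u v) := by
    intro d e u v hd he o hu hv
    obtain ⟨h1, hw, h2⟩ := hlift hd he
    obtain ⟨-, -, -, hd3⟩ := hd
    obtain ⟨-, -, -, he3⟩ := he
    exact S.can_of T h1 hw h2 (by simp [tvv, hu, hv])
      (((hd3 o hu).mul_right (he3 o hv)).mul_right (hd3 o hu))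
  have hperp : ∀ {d e : G} {u v : Fin 5 → F}, S.Can t d u → S.Can t e v →
      Unitary.herm 2 v u = 0 → S.Can t (d * e * d) (tvv u v) := by
    intro d e u v hd he h
    obtain ⟨h1, hu, h2, -⟩ := id hd
    obtain ⟨h1', hv, h2', -⟩ := id he
    have hc : Commute e d := (S.commute_vec h1' h1 hv hu h2' h2).2 h
    rw [← hc.eq, mul_assoc, FischerSpace.mul_self S.set' h1, mul_one, tvv, h, zero_smul, add_zero]
    exact he
  have hmono : ∀ {d e : G} {u v : Fin 5 → F}, S2 u → S.Can t d u → S.Can t e v →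
      S.Can t (d * e * d) (tvv u v) := by
    intro d e u v hs hd he
    obtain ⟨i, j, a, c, hij, ha, hc, rfl⟩ := hs
    rw [tvv_smul_center S.hF _ _ hc]
    have hd' : S.Can t d (pv i j a) := by
      have := S.can_smul T (inv_ne_zero hc) hd
      rwa [smul_smul, inv_mul_cancel₀ hc, one_smul] at this
    obtain ⟨h1, hw, h2⟩ := hlift hd' he
    obtain ⟨hd1, hu, -, hd3⟩ := id hd'
    obtain ⟨he1, hv, -, he3⟩ := id he
    obtain ⟨o, ho⟩ := exists_zero S.hF hv
    have hdd := FischerSpace.mul_self S.set' hd1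
    obtain ⟨z1, z2, z3⟩ := tvv_pv_zero S.hF hij ha (u := v)
    obtain ⟨p1, p2⟩ := S.perm T hij ha hd'
    have hmove : ∀ o o', d * t o * d = t o' → Commute (t o) e → Commute (t o') (d * e * d) := by
      intro o o' h hc
      rw [← h]
      have := (FischerSpace.commute_conj_iff d (t o) e).2 hc
      rwa [FischerSpace.inv_eq S.set' hd1] at this
    by_cases hoi : o = i
    · subst hoi; exact S.can_of T h1 hw h2 (z1 ho) (hmove _ _ p1 (he3 _ ho))
    by_cases hoj : o = j
    · subst hoj; exact S.can_of T h1 hw h2 (z2 ho) (hmove _ _ p2 (he3 _ ho))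
    · exact hcommon hd' he o (by simp [pv_apply, hoi, hoj]) ho
  obtain ⟨hd1, hu, hd2, hd3⟩ := id hd
  obtain ⟨he1, hv, he2, he3⟩ := id he
  by_cases h0 : Unitary.herm 2 v u = 0
  · exact hperp hd he h0
  have hnc : ∀ {d e : G} {u v : Fin 5 → F}, S.Can t d u → S.Can t e v → Unitary.herm 2 v u ≠ 0 →
      e * d * e = d * e * d ∧ ∃ a : F, a ≠ 0 ∧ tvv v u = a • tvv u v := by
    rintro d e u v ⟨a1, au, a2, -⟩ ⟨b1, bv, b2, -⟩ h
    refine ⟨FischerSpace.braid S.set' b1 a1 fun hc => h ((S.commute_vec b1 a1 bv au b2 a2).1 hc),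
      Unitary.herm 2 u v, fun e => h (by rw [herm_swap S.hF u v, e, zero_pow two_ne_zero]), ?_⟩
    rw [tvv, tvv, herm_swap S.hF u v, smul_add, smul_smul,
      norm_one S.hF fun e => h (by rw [herm_swap S.hF u v, e, zero_pow two_ne_zero]), one_smul, add_comm]
  -- symmetry
  have hsym : ∀ {d e : G} {u v : Fin 5 → F}, S.Can t d u → S.Can t e v → Unitary.herm 2 v u ≠ 0 →
      S.Can t (e * d * e) (tvv v u) → S.Can t (d * e * d) (tvv u v) := by
    intro d e u v hd he h hres
    obtain ⟨e1, a, ha, e2⟩ := hnc hd he h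
    rw [e1, e2] at hres
    have := S.can_smul T (inv_ne_zero ha) hres
    rwa [smul_smul, inv_mul_cancel₀ ha, one_smul] at this
  rcases shape S.hF hu with hsu | ⟨p, hup, hu'⟩
  · exact hmono hsu hd he
  rcases shape S.hF hv with hsv | ⟨q, hvq, hv'⟩
  · exact hsym hd he h0 (hmono hsv he hd)
  rcases eq_or_ne p q with rfl | hpq
  · exact hcommon hd he p hup hvq
  obtain ⟨x, hx, hxu, hxv⟩ := witness S.hF hup hu' hvq hv' hpq h0
  obtain ⟨f, hf⟩ := S.exists_can T hx
  obtain ⟨hf1, -, -, -⟩ := id hf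
  have hff := FischerSpace.mul_self S.set' hf1
  -- the conjugates of `d`, `e` by `f` are monomial
  have hconj : ∀ {d : G} {u : Fin 5 → F}, S.Can t d u → S2 (tvv x u) →
      S.Can t (f * d * f) (tvv x u) := by
    intro d u hd hs
    obtain ⟨g, hg⟩ := S.exists_can T (s2_iso S.hF hs)
    by_cases h : Unitary.herm 2 u x = 0
    · exact hperp hf hd h
    -- `g f g` lies over `u`
    have h' : Unitary.herm 2 x (tvv x u) ≠ 0 := by
      rw [herm_swap S.hF (tvv x u) x, tvv, Unitary.herm_add_left, Unitary.herm_smul_left, hx.2, mul_zero,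
        add_zero]
      exact pow_ne_zero _ h
    have h'' : Unitary.herm 2 (tvv x u) x ≠ 0 := fun e => h' (by
      rw [herm_swap S.hF, e, zero_pow two_ne_zero])
    have hres := hsym hf hg h'' (hmono hs hg hf)
    rw [tvv_tvv S.hF hx.2] at hres
    rw [S.can_unique T hd hres]
    have : f * (f * g * f) * f = g := by
      calc f * (f * g * f) * f = (f * f) * g * (f * f) := by simp only [mul_assoc]
        _ = g := by rw [hff, one_mul, mul_one]
    rw [this]
    exact hg
  have hd' := hconj hd hxu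
  have he' := hconj he hxv
  have hw' := hmono hxu hd' he'
  have hs' := s2_tvv S.hF hxu hxv
  obtain ⟨hgD, hwiso, -⟩ := id hw'
  -- conjugate back
  have hback : S.Can t (f * (f * d * f * (f * e * f) * (f * d * f)) * f) (tvv x (tvv (tvv x u) (tvv x v))) := by
    by_cases h : Unitary.herm 2 (tvv (tvv x u) (tvv x v)) x = 0
    · exact hperp hf hw' h
    · exact hsym hf hw' h (hmono hs' hw' hf)
  have e1 : f * (f * d * f * (f * e * f) * (f * d * f)) * f = d * e * d := by
    simp only [mul_assoc, FischerSpace.mul_left_cancel_self S.set' hf1, hff, mul_one]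
  have e2 : tvv x (tvv (tvv x u) (tvv x v)) = tvv u v := by
    have hs := smul_tvv S.hF (tr1 S.hF x hx.2) (tvv x u) (tvv x v)
    simp only [tr1_smul, tvv_tvv S.hF hx.2] at hs
    exact hs
  rwa [e1, e2] at hback

theorem complement : ∃ K : Subgroup G, (Cfsg.pCore 2 G).IsComplement' K := by
  classical
  set K := Subgroup.closure {d | ∃ u, S.Can t d u} with hK
  have hequiv : ∀ k ∈ K, ∀ d u, S.Can t d u → S.Can t (k * d * k⁻¹) (S.π k • u) := by
    intro k hk
    rw [hK, ← Subgroup.mem_toSubmonoid, Subgroup.closure_toSubmonoid_of_finite] at hk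
    induction hk using Submonoid.closure_induction with
    | mem e he =>
      obtain ⟨v, hv⟩ := he
      intro d u hd
      obtain ⟨he1, hv', he2, -⟩ := id hv
      rw [he2, tr1_smul, FischerSpace.inv_eq S.set' he1]
      exact S.closed T hv hd
    | one => intro d u hd; rw [one_mul, inv_one, mul_one, map_one, one_smul]; exact hd
    | mul a b _ _ iha ihb =>
      intro d u hd
      have := iha _ _ (ihb d u hd)
      rw [← mul_smul, ← map_mul] at this
      rwa [mul_inv_rev, show a * b * d * (b⁻¹ * a⁻¹) = a * (b * d * b⁻¹) * a⁻¹ by simp only [mul_assoc]]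
  have hD : ∀ d ∈ S.D, ∃ v ∈ S.N, ∃ c ∈ K, d = v * c := by
    intro d hd
    obtain ⟨u, hu, hdu⟩ := S.cls hd
    obtain ⟨c, hc⟩ := S.exists_can T hu
    obtain ⟨hc1, _, hc2, -⟩ := id hc
    exact ⟨d * c, S.pair_mem hd hc1 (hdu.trans hc2.symm), c, Subgroup.subset_closure ⟨u, hc⟩,
      by rw [FischerSpace.mul_right_cancel_self S.set' hc1]⟩
  have hsup : (Cfsg.pCore 2 G) ⊔ K = ⊤ := by
    rw [eq_top_iff, ← S.hD.2.2, Subgroup.closure_le]
    intro d hd
    obtain ⟨v, hv, c, hc, rfl⟩ := hD d hd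
    exact mul_mem (Subgroup.mem_sup_left (S.N_le hv)) (Subgroup.mem_sup_right hc)
  have hdisj : Disjoint (Cfsg.pCore 2 G) K := by
    rw [disjoint_iff, eq_bot_iff]
    rintro k ⟨hkQ, hkK⟩
    have hle : Subgroup.closure S.D ≤ Subgroup.centralizer {k} := by
      refine (Subgroup.closure_le _).2 fun d hd => ?_
      obtain ⟨v, hv, c, hc, rfl⟩ := hD d hd
      have hcen : K ≤ Subgroup.centralizer {k} := (Subgroup.closure_le _).2 fun e ⟨u, he⟩ => by
        have h := hequiv k hkK e u he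
        rw [S.π_eq_one.2 hkQ, one_smul] at h
        exact Subgroup.mem_centralizer_singleton_iff.2
          (mul_inv_eq_iff_eq_mul.1 (S.can_unique T h he)).symm
      exact mul_mem (Subgroup.mem_centralizer_singleton_iff.2 (S.centralizes (by decide) hkQ hv).symm)
        (hcen hc)
    have : k ∈ Subgroup.center G := Subgroup.mem_center_iff.2 fun g =>
      Subgroup.mem_centralizer_singleton_iff.1 (hle (by rw [S.hD.2.2]; exact Subgroup.mem_top g))
    rwa [S.hZ] at this
  refine ⟨K, Subgroup.isComplement'_of_disjoint_and_mul_eq_univ hdisj ?_⟩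
  rw [← Subgroup.normal_mul, hsup]
  rfl

end Setup

end Cfsg.Agent.Sporadic96.TwoRad
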