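import Cfsg.Agent.Sporadic96.TwoRad.Model

/-!
# The compatibility of the module with the natural representation
-/

set_option autoImplicit false

namespace Cfsg.Agent.Sporadic96.TwoRad

open Cfsg.Agent Cfsg.Agent.Sporadic96.TwoModule

variable {F : Type*} [Field F] [Fintype F] {n : ℕ}
variable {X V : Type*} [Group X] [CommGroup V]

theorem Rep.exists_compat {ρ : X →* MulAut V} {pt : (Fin n → F) → X} (R : Rep ρ pt) (hn : 5 ≤ n)
    (hodd : Odd n) :
    ∃ C : X → Cfsg.SU n F 2 → Prop, C 1 1 ∧ (∀ x y g h, C x g → C y h → C (x * y) (g * h)) ∧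
      (∀ (u : Fin n → F) (hu : Iso u), C (pt u) (tr1 R.hF u hu.2)) ∧
      ∀ x, C x 1 → (∀ u, Iso u → Commute x (pt u)) → ρ x = 1 := by
  classical
  obtain ⟨ω, hω0, hω1, hω⟩ := exists_omega R.hF
  have H : Frame ρ pt ω := ⟨R, hω0, hω1, hω, hn⟩
  letI := H.module hodd
  have hJ : ∀ w : H.W, ω • w = H.J w := H.module_omega hodd
  obtain ⟨e, he, hee, hp4⟩ := H.exists_e hodd hJ
  have he_lm : ∀ (M : Matrix (Fin n) (Fin n) F) (c : Fin n → H.W),
      (fun i => e (lm M c i)) = lm (M.map (· ^ 2)) (fun i => e (c i)) := fun M c => by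
    funext i
    simp only [lm, map_sum, he, Matrix.map_apply]
  obtain ⟨C, hC⟩ : ∃ C : X → Cfsg.SU n F 2 → Prop, ∀ x g, C x g ↔
      ∃ β : Matrix (Fin n) (Fin n) F, ∀ c : Fin n → H.W,
        ρ x (H.psi c) = H.psi (lm (mat g) c + lm β (fun i => e (c i))) := ⟨_, fun _ _ => Iff.rfl⟩
  have h1 : C 1 1 := (hC 1 1).2 ⟨0, fun c => by
    rw [act_one, zero_lm, add_zero]
    congr 1
    exact (one_lm c).symm⟩
  have hmul : ∀ x y g h, C x g → C y h → C (x * y) (g * h) := by
    intro x y g h hx hy
    obtain ⟨β, hβ⟩ := (hC x g).1 hx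
    obtain ⟨β', hβ'⟩ := (hC y h).1 hy
    refine (hC _ _).2 ⟨mat g * β' + β * (mat h).map (· ^ 2), fun c => ?_⟩
    rw [← act_act, hβ', hβ]
    congr 1
    have e1 : (fun i => e ((lm (mat h) c + lm β' fun i => e (c i)) i)) =
        lm ((mat h).map (· ^ 2)) (fun i => e (c i)) := by
      funext i
      rw [Pi.add_apply, map_add, congrFun (he_lm (mat h) c) i, congrFun (he_lm β' fun i => e (c i)) i]
      simp [lm, hee]
    have hmat : mat (g * h) = mat g * mat h := rfl
    rw [e1, lm_add, hmat, mul_lm, add_lm, mul_lm, mul_lm, add_assoc]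
  have hsingle : ∀ (x : X) (g : Cfsg.SU n F 2) (β : Matrix (Fin n) (Fin n) F),
      (∀ k w, ρ x (H.ι k w) = H.psi (fun j => (g • (Unitary.eI k : Fin n → F)) j • w + β j k • e w)) →
      C x g := by
    intro x g β h
    refine (hC x g).2 ⟨β, fun c => ?_⟩
    have hgen : ∀ s : Finset (Fin n), ∏ k ∈ s, ρ x (H.ι k (c k)) =
        H.psi (fun j => ∑ k ∈ s, (mat g j k • c k + β j k • e (c k))) := by
      intro s
      induction s using Finset.induction_on with
      | empty =>
        simp only [Finset.prod_empty, Finset.sum_empty]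
        exact H.psi_zero.symm
      | insert a s ha ih =>
        rw [Finset.prod_insert ha, ih, h, ← H.psi_add]
        congr 1
        funext j
        rw [Pi.add_apply, Finset.sum_insert ha, mat_apply]
    rw [Frame.psi, map_prod, hgen]
    congr 1
    funext j
    simp only [Pi.add_apply, lm, Finset.sum_add_distrib]
  have hF := R.hF
  have h2 := two_zero hF
  set P : (Fin n → F) → Prop := fun u => ∀ hu : Iso u, C (pt u) (tr1 hF u hu.2) with hP
  have hsmul : ∀ u, Iso u → ∀ a : F, a ≠ 0 → P u → P (a • u) := by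
    intro u hu a ha h _
    rw [R.smul u hu a ha]
    convert h hu using 1
    exact Unitary.eq_of_smul_eq_SU fun x => by rw [tr1_smul, tr1_smul, tvv_smul_center hF _ _ ha]
  have hcl : ∀ u v, Iso u → Iso v → P u → P v → P (tvv u v) := by
    intro u v hu hv h h' _
    rw [← R.conj u v hu hv]
    convert hmul _ _ _ _ (hmul _ _ _ _ (h hu) (h' hv)) (h hu) using 1
    refine Unitary.eq_of_smul_eq_SU fun x => ?_
    rw [mul_smul, mul_smul, tr1_smul, tr1_smul, tr1_smul, tr1_smul]
    have hs := smul_tvv hF (tr1 hF u hu.2) v (tvv u x)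
    simp only [tr1_smul, tvv_tvv hF hu.2] at hs
    exact hs.symm
  have heI : ∀ (k l : Fin n), (Unitary.eI k : Fin n → F) l = if l = k then 1 else 0 := fun k l => by
    simp [Unitary.eI, Pi.single_apply]
  have hscal : ∀ (k l : Fin n) (a : F) (w : H.W),
      (fun j => (if j = l then a else 0) • w + (0 : Matrix (Fin n) (Fin n) F) j k • e w) =
        Pi.single l (a • w) := fun k l a w => by
    funext j
    by_cases hj : j = l
    · subst hj; simp
    · simp [hj]
  have h1pts : ∀ i j, i ≠ j → P (pv i j 1) := by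
    intro i j hij hu
    refine hsingle _ _ 0 fun k w => ?_
    rw [H.swap_ι hij, ← H.psi_single, tr1_smul, tvv_swap hF hij]
    have hl : ∀ l, ((Unitary.eI k : Fin n → F) ∘ ⇑(Equiv.swap i j)) l =
        if l = Equiv.swap i j k then 1 else 0 := fun l => by
      rw [Function.comp_apply, heI]
      simp only [Equiv.swap_apply_eq_iff]
    simp only [hl, hscal, one_smul]
  have hωpts : ∀ i j, i ≠ j → P (pv i j ω) := by
    intro i j hij hu
    refine hsingle _ _ 0 fun k w => ?_
    have hd := H.iso i j hij (one_ne_zero (α := F))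
    have hsplit : pt (pv i j ω) = pt (pv i j 1) * xe pt ω i j := by
      rw [xe, ← mul_assoc, H.sq_pt hd, one_mul]
    rw [hsplit, ← act_act, ← H.psi_single k w, H.xe_psi hJ hij, H.psi_swap hij]
    congr 1
    funext l
    rw [tr1_smul, tvv, herm_pv hF, Pi.add_apply, Pi.smul_apply, smul_eq_mul, heI, heI, heI, pv_apply,
      Function.comp_apply]
    simp only [Matrix.zero_apply, zero_smul, add_zero]
    have hσ : ∀ m, Pi.single (M := fun _ : Fin n => H.W) k w m = if m = k then w else 0 :=
      fun m => Pi.single_apply k w m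
    rw [hσ]
    by_cases hli : l = i
    · subst hli
      rw [Equiv.swap_apply_left]
      by_cases hjk : j = k
      · subst hjk
        simp [hij, hij.symm]
      · by_cases hlk : l = k
        · subst hlk
          simp [hij, hij.symm, h2, add_self hF]
        · simp [hij, hij.symm, hjk, hlk, Ne.symm hjk, Ne.symm hlk]
    by_cases hlj : l = j
    · subst hlj
      rw [Equiv.swap_apply_right]
      by_cases hik : i = k
      · subst hik
        simp [hij, hij.symm]
      · by_cases hlk : l = k
        · subst hlk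
          have h3 : ω ^ 2 * ω = 1 := by rw [mul_comm]; exact norm_one hF hω0
          simp [hij, hij.symm, hik, Ne.symm hik, h3, add_self hF]
        · simp [hij, hij.symm, hik, hlk, Ne.symm hik, Ne.symm hlk]
    rw [Equiv.swap_apply_of_ne_of_ne hli hlj, if_neg hli, if_neg hlj, if_neg hli, if_neg hlj,
      show (0 : F) + 0 = 0 by ring, mul_zero, add_zero, one_smul]
    split_ifs <;> simp
  have h2pts : ∀ i j, i ≠ j → ∀ a : F, a ≠ 0 → P (pv i j a) := by
    intro i j hij a ha
    rcases four hF hω0 hω1 a with rfl | rfl | rfl | rfl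
    · exact absurd rfl ha
    · exact h1pts i j hij
    · exact hωpts i j hij
    · have h := hcl _ _ (H.iso i j hij one_ne_zero) (H.iso i j hij hω0) (h1pts i j hij) (hωpts i j hij)
      have hv : tvv (pv i j 1) (pv i j ω) = ω • pv i j (ω ^ 2) := by
        rw [tvv_swap hF hij]
        funext l
        rw [Function.comp_apply, Pi.smul_apply, smul_eq_mul, pv_apply, pv_apply]
        by_cases hli : l = i
        · subst hli; simp [hij, hij.symm]
        by_cases hlj : l = j
        · subst hlj
          simp only [Equiv.swap_apply_right, if_neg hij, if_neg hli, if_pos rfl, zero_add, add_zero]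
          exact (norm_one hF hω0).symm
        · simp [Equiv.swap_apply_of_ne_of_ne hli hlj, hli, hlj]
      have h' := hsmul _ (iso_tvv hF (H.iso i j hij one_ne_zero).2 (H.iso i j hij hω0)) (ω ^ 2)
        (pow_ne_zero _ hω0) h
      rwa [hv, smul_smul, mul_comm, norm_one hF hω0, one_smul] at h'
  have hpP : P p4 := by
    intro hu
    refine hsingle _ _ (Matrix.of fun j k => (if j.val = 4 ∧ k.val < 4 then (1 : F) else 0) +
      if j.val < 4 ∧ k.val = 4 then 1 else 0) fun k w => ?_
    rw [hp4]
    congr 1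
    funext j
    rw [Matrix.of_apply]
    congr 2
    rw [tr1_smul, tvv, Pi.add_apply, Pi.smul_apply, smul_eq_mul, heI, herm_swap hF,
      Unitary.herm_eI_right (hF2 hF)]
    congr 1
    simp only [p4]
    by_cases hk : k.val < 4 <;> by_cases hj : j.val < 4 <;> simp [hk, hj]
  refine ⟨C, h1, hmul, fun u hu =>
    reach hF hω0 hω1 hω hn hodd P hsmul h2pts hpP hcl hu hu, fun x hx hcomm => ?_⟩
  obtain ⟨β, hβ⟩ := (hC x 1).1 hx
  have hι : ∀ k w, ρ x (H.ι k w) = H.psi (Pi.single k w + fun j => β j k • e w) := fun k w => by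
    rw [← H.psi_single, hβ]
    congr 1
    rw [show mat (1 : Cfsg.SU n F 2) = 1 from rfl, one_lm]
    congr 1
    funext j
    simp only [lm]
    rw [Finset.sum_eq_single k (fun i _ hi => by simp [Pi.single_eq_of_ne hi])
      (fun h => absurd (Finset.mem_univ k) h), Pi.single_eq_same]
  have hxe : ∀ i j : Fin n, i ≠ j → ∀ v, ρ x (ρ (xe pt ω i j) v) = ρ (xe pt ω i j) (ρ x v) :=
    fun i j hij v => by
      rw [act_act, act_act, (show Commute x (xe pt ω i j) from
        (hcomm _ (H.iso i j hij one_ne_zero)).mul_right (hcomm _ (H.iso i j hij hω0))).eq]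
  have hzero : ∀ (k j : Fin n) (w : H.W), β j k • e w = 0 := by
    intro k j w
    by_cases hjk : j = k
    · subst hjk
      obtain ⟨m, hm⟩ := exists_avoid ({j} : Finset (Fin n)) (by simpa using (by omega : 1 < n))
      simp only [Finset.mem_singleton] at hm
      have h := hxe j m (Ne.symm hm) (H.ι j w)
      rw [H.xe_ι (Ne.symm hm), hι, hι, H.xe_psi hJ (Ne.symm hm)] at h
      have hh := congrFun (H.psi_inj hodd h) j
      simp only [Pi.add_apply, Pi.single_eq_same, if_true, ← hJ, he, smul_add, add_right_inj,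
        smul_smul] at hh
      have h0 : (β j j * ω ^ 2 - ω * β j j) • e w = 0 := by rw [sub_smul, hh, sub_self]
      rcases smul_eq_zero.1 h0 with h0 | h0
      · have : β j j = 0 := by linear_combination h0 - β j j * hω
        rw [this, zero_smul]
      · rw [h0, smul_zero]
    · obtain ⟨m, hm⟩ := exists_avoid ({j, k} : Finset (Fin n))
        (Nat.lt_of_le_of_lt Finset.card_le_two (by omega))
      simp only [Finset.mem_insert, Finset.mem_singleton, not_or] at hm
      have h := hxe j m (Ne.symm hm.1) (H.ι k w)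
      rw [H.ι_mem k w j m hjk hm.2 (Ne.symm hm.1), hι, H.xe_psi hJ (Ne.symm hm.1)] at h
      have hh := congrFun (H.psi_inj hodd h) j
      simp only [Pi.add_apply, Pi.single_eq_of_ne hjk, zero_add, if_true] at hh
      have h0 : (ω - 1) • (β j k • e w) = 0 := by rw [sub_smul, one_smul, ← hh, sub_self]
      exact (smul_eq_zero.1 h0).resolve_left (sub_ne_zero.2 hω1)
  refine MulEquiv.ext fun v => ?_
  obtain ⟨c, rfl⟩ := H.psi_surj hodd v
  rw [MulAut.one_apply, Frame.psi, map_prod]
  refine Finset.prod_congr rfl fun k _ => ?_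
  rw [hι, ← H.psi_single]
  congr 1
  funext j
  simp [hzero]

end Cfsg.Agent.Sporadic96.TwoRad
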