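import Cfsg.Agent.Sporadic96.TwoRad.Base
import Cfsg.Agent.Sporadic96.TwoRad.Compat

/-!
# The 2-radical over `SU_n(2)`, `n` odd, is elementary abelian
-/

set_option autoImplicit false

namespace Cfsg.Agent.Sporadic96.TwoRad

open Cfsg.Agent

variable {G : Type*} [Group G] [Finite G] {F : Type*} [Field F] [Fintype F] {n : ℕ}

namespace Setup

variable (S : Setup G F n)

theorem centralizes (hodd : Odd n) {q : G} (hq : q ∈ Cfsg.pCore 2 G) {v : G} (hv : v ∈ S.N) :
    q * v = v * q := by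
  classical
  obtain ⟨C, h1, hmul, hpt, hC⟩ := S.rep.exists_compat S.hn hodd
  let K : Submonoid G :=
    { carrier := {g | C (S.toX g) (S.π g)}
      one_mem' := by show C (S.toX 1) (S.π 1); rw [map_one, map_one]; exact h1
      mul_mem' := fun {a b} ha hb => by
        show C (S.toX (a * b)) (S.π (a * b)); rw [map_mul, map_mul]; exact hmul _ _ _ _ ha hb }
  have hK : ∀ g, g ∈ K := by
    intro g
    have hg : g ∈ Subgroup.closure S.D := by rw [S.hD.2.2]; exact Subgroup.mem_top g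
    rw [← Subgroup.mem_toSubmonoid, Subgroup.closure_toSubmonoid_of_finite] at hg
    refine (Submonoid.closure_le.2 fun d hd => ?_) hg
    obtain ⟨u, hu, hdu⟩ := S.cls hd
    show C (S.toX d) (S.π d)
    rw [S.toX_pt hd hu hdu, hdu]
    exact hpt u hu
  have hπ : S.π q = 1 := S.π_eq_one.2 hq
  have hCq : C (S.toX q) 1 := by
    have : C (S.toX q) (S.π q) := hK q
    rwa [hπ] at this
  have h := hC _ hCq fun u hu => by
    have h2 := S.toX_conj q hu
    rw [hπ, one_smul, mul_inv_eq_iff_eq_mul] at h2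
    exact h2
  have h3 := congrArg Subtype.val (DFunLike.congr_fun h ⟨v, hv⟩)
  rw [MulAut.one_apply, S.toX_val] at h3
  exact mul_inv_eq_iff_eq_mul.1 h3

include S in
theorem radical (hodd : Odd n) : Cfsg.IsElementaryAbelian 2 (Cfsg.pCore 2 G) := by
  have hcen : ∀ x : G, (∀ d ∈ S.D, x * d = d * x) → x = 1 := fun x hx => by
    have hle : Subgroup.closure S.D ≤ Subgroup.centralizer {x} :=
      (Subgroup.closure_le _).2 fun d hd => Subgroup.mem_centralizer_singleton_iff.2 (hx d hd).symm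
    have : x ∈ Subgroup.center G := Subgroup.mem_center_iff.2 fun g =>
      Subgroup.mem_centralizer_singleton_iff.1 (hle (by rw [S.hD.2.2]; exact Subgroup.mem_top g))
    rwa [S.hZ, Subgroup.mem_bot] at this
  -- `q d q⁻¹ = c d` with `c` in `N`
  have hconj : ∀ q ∈ Cfsg.pCore 2 G, ∀ d ∈ S.D, ∃ c ∈ S.N, q * d * q⁻¹ = c * d := fun q hq d _ =>
    ⟨_, S.commutator_mem hq d, by group⟩
  have hfixN : ∀ q ∈ Cfsg.pCore 2 G, ∀ c ∈ S.N, q * c * q⁻¹ = c := fun q hq c hc => by
    rw [S.centralizes hodd hq hc, mul_inv_cancel_right]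
  have hsq : ∀ q ∈ Cfsg.pCore 2 G, q * q = 1 := fun q hq => hcen _ fun d hd => by
    obtain ⟨c, hc, e⟩ := hconj q hq d hd
    refine mul_inv_eq_iff_eq_mul.1 ?_
    calc q * q * d * (q * q)⁻¹ = q * (q * d * q⁻¹) * q⁻¹ := by group
      _ = q * (c * d) * q⁻¹ := by rw [e]
      _ = (q * c * q⁻¹) * (q * d * q⁻¹) := by group
      _ = c * (c * d) := by rw [hfixN q hq c hc, e]
      _ = d := by rw [← mul_assoc, S.N_sq hc, one_mul]
  have hcomm : ∀ a ∈ Cfsg.pCore 2 G, ∀ b ∈ Cfsg.pCore 2 G, a * b = b * a := by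
    intro a ha b hb
    have h : a * b * (a * b) = 1 := hsq _ (mul_mem ha hb)
    calc a * b = a * (a * b * (a * b)) * b := by rw [h, mul_one]
      _ = (a * a) * (b * a) * (b * b) := by simp only [mul_assoc]
      _ = b * a := by rw [hsq a ha, hsq b hb, one_mul, mul_one]
  refine ⟨⟨⟨fun a b => Subtype.ext (hcomm a a.2 b b.2)⟩⟩, fun a ha => ?_⟩
  rw [pow_two, hsq a ha]

end Setup

/-- The hypotheses give a setup. -/
theorem exists_setup {D : Set G} (hD : Cfsg.IsThreeTranspositionClass D)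
    (hZ : Subgroup.center G = ⊥) (hFit : Cfsg.generalizedFittingSubgroup G = Cfsg.pCore 2 G)
    (hF : Fintype.card F = 4) (hn : 5 ≤ n) (e : G ⧸ Cfsg.pCore 2 G ≃* ↥(Cfsg.SU n F 2)) :
    ∃ S : Setup G F n, S.D = D :=
  ⟨{ D := D, hD := hD, hZ := hZ, hFit := hFit
     π := e.toMonoidHom.comp (QuotientGroup.mk' (Cfsg.pCore 2 G))
     surj := e.surjective.comp (QuotientGroup.mk'_surjective _)
     ker := by
      ext g
      rw [MonoidHom.mem_ker, MonoidHom.comp_apply, MulEquiv.coe_toMonoidHom, e.map_eq_one_iff]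
      exact QuotientGroup.eq_one_iff g
     hF := hF, hn := hn }, rfl⟩

end Cfsg.Agent.Sporadic96.TwoRad
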