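import Cfsg.Agent.Sporadic96.TwoRad.Geom

/-!
# A class of 3-transpositions of `SU_n(2)` consists of transvections
-/

set_option autoImplicit false

namespace Cfsg.Agent.Sporadic96.TwoRad

open Cfsg.Agent

variable {F : Type*} [Field F] [Fintype F] {n : ℕ} (hF : Fintype.card F = 4)

include hF

/-- A non-zero self-adjoint semisquare-zero map has a vector of norm one. -/
theorem exists_norm (A : (Fin n → F) → (Fin n → F))
    (hadd : ∀ x y, A (x + y) = A x + A y) (hsmul : ∀ (a : F) x, A (a • x) = a • A x)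
    (hadj : ∀ x y, Unitary.herm 2 (A x) y = Unitary.herm 2 x (A y)) {z : Fin n → F} (hz : A z ≠ 0) :
    ∃ v, Unitary.herm 2 (A v) v = 1 := by
  by_contra hcon
  push Not at hcon
  have hdiag : ∀ v, Unitary.herm 2 (A v) v = 0 := fun v => by
    have h1 : Unitary.herm 2 (A v) v ^ 2 = Unitary.herm 2 (A v) v := by
      rw [← herm_swap hF, hadj]
    have : Unitary.herm 2 (A v) v * (Unitary.herm 2 (A v) v - 1) = 0 := by linear_combination h1
    exact (mul_eq_zero.1 this).resolve_right fun e => hcon v (sub_eq_zero.1 e)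
  apply hz
  refine Unitary.eq_zero_of_herm (hF2 hF) fun y => ?_
  obtain ⟨ω, -, -, hω⟩ := exists_omega hF
  have e : ∀ a : F, a * Unitary.herm 2 (A z) y + (a * Unitary.herm 2 (A z) y) ^ 2 = 0 := by
    intro a
    have h := hdiag (a • z + y)
    rw [hadd, hsmul, Unitary.herm_add_left, herm_right_add hF, herm_right_add hF,
      Unitary.herm_smul_left, Unitary.herm_smul_left, herm_right_smul hF, herm_right_smul hF, hdiag,
      hdiag, hadj y z, herm_swap hF (A z) y] at h
    linear_combination h
  have e1 := e 1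
  have e2 := e ω
  rw [one_mul] at e1
  rw [mul_pow, hω] at e2
  have : Unitary.herm 2 (A z) y ^ 2 = 0 := by linear_combination e2 - ω * e1
  exact pow_eq_zero_iff (n := 2) (by norm_num) |>.1 this

theorem class_transvection {C : Set (Cfsg.SU n F 2)} (hC : Cfsg.IsThreeTranspositionSet C)
    (hinv : FischerSpace.Invariant C) {g : Cfsg.SU n F 2} (hg : g ∈ C) :
    ∃ u : Fin n → F, Iso u ∧ ∀ x : Fin n → F, g • x = tvv u x := by
  have hgg : ∀ x : Fin n → F, g • g • x = x := fun x => by
    rw [smul_smul, FischerSpace.mul_self hC hg, one_smul]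
  obtain ⟨A, hA⟩ : ∃ A : (Fin n → F) → (Fin n → F), ∀ x, A x = g • x + x := ⟨_, fun _ => rfl⟩
  have hgA : ∀ x, g • x = x + A x := fun x => by
    rw [hA, add_left_comm, vadd_self hF, add_zero]
  have hadd : ∀ x y, A (x + y) = A x + A y := fun x y => by rw [hA, hA, hA, smul_add]; abel
  have hsmul : ∀ (a : F) x, A (a • x) = a • A x := fun a x => by
    rw [hA, hA, smul_comm g, smul_add]
  have hadj : ∀ x y, Unitary.herm 2 (A x) y = Unitary.herm 2 x (A y) := fun x y => by
    rw [hA, hA, Unitary.herm_add_left, herm_right_add hF]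
    congr 1
    rw [← Unitary.herm_smul_SU g x (g • y), hgg]
  have hAA : ∀ x, A (A x) = 0 := fun x => by
    rw [hA, hA, smul_add, hgg, add_comm x, vadd_self hF]
  have hA0 : A 0 = 0 := by simpa using hsmul 0 0
  obtain ⟨z, hz⟩ : ∃ z, A z ≠ 0 := by
    by_contra hcon
    push Not at hcon
    exact FischerSpace.ne_one hC hg (Unitary.eq_of_smul_eq_SU fun x => by
      rw [hgA, hcon, add_zero, one_smul])
  obtain ⟨v, hv⟩ := exists_norm hF A hadd hsmul hadj hz
  set u := A v with hu
  have huu : Unitary.herm 2 u u = 0 := by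
    rw [hu, hadj, hAA, Unitary.herm_zero_right (hF2 hF)]
  have hu0 : u ≠ 0 := fun e => one_ne_zero (by rw [← hv, e]; simp)
  have hvu : Unitary.herm 2 v u = 1 := by rw [herm_swap hF u v, hv, one_pow]
  have hAu : A u = 0 := hAA v
  obtain ⟨A1, hA1⟩ : ∃ A1 : (Fin n → F) → (Fin n → F),
      ∀ x, A1 x = A x + Unitary.herm 2 x u • u := ⟨_, fun _ => rfl⟩
  by_cases hone : ∀ x, A1 x = 0
  · refine ⟨u, ⟨hu0, huu⟩, fun x => ?_⟩
    have h := hone x
    rw [hA1] at h
    rw [hgA, tvv]
    congr 1
    have h' : A x + (Unitary.herm 2 x u • u + Unitary.herm 2 x u • u) = Unitary.herm 2 x u • u := by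
      rw [← add_assoc, h, zero_add]
    rwa [vadd_self hF, add_zero] at h'
  exfalso
  push Not at hone
  obtain ⟨z1, hz1⟩ := hone
  have h1add : ∀ x y, A1 (x + y) = A1 x + A1 y := fun x y => by
    rw [hA1, hA1, hA1, hadd, Unitary.herm_add_left, add_smul]; abel
  have h1smul : ∀ (a : F) x, A1 (a • x) = a • A1 x := fun a x => by
    rw [hA1, hA1, hsmul, Unitary.herm_smul_left, smul_add, smul_smul]
  have h1adj : ∀ x y, Unitary.herm 2 (A1 x) y = Unitary.herm 2 x (A1 y) := fun x y => by
    rw [hA1, hA1, Unitary.herm_add_left, herm_right_add hF, Unitary.herm_smul_left,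
      herm_right_smul hF, hadj, herm_swap hF y u, mul_comm (Unitary.herm 2 x u)]
  obtain ⟨v2, hv2⟩ := exists_norm hF A1 h1add h1smul h1adj hz1
  have h1v : A1 v = 0 := by rw [hA1, hvu, one_smul, ← hu, vadd_self hF]
  have h1u : A1 u = 0 := by rw [hA1, hAu, huu, zero_smul, add_zero]
  set u2 := A1 v2 with hu2
  have hu2u : Unitary.herm 2 u2 u = 0 := by
    rw [hu2, h1adj, h1u, Unitary.herm_zero_right (hF2 hF)]
  have hu2v : Unitary.herm 2 u2 v = 0 := by
    rw [hu2, h1adj, h1v, Unitary.herm_zero_right (hF2 hF)]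
  have hu2u2 : Unitary.herm 2 u2 u2 = 0 := by
    have e : A1 u2 = 0 := by
      rw [hu2, hA1 v2, h1add, h1smul, h1u, smul_zero, add_zero, hA1 (A v2), hAA, hadj v2 u, hAu,
        Unitary.herm_zero_right (hF2 hF), zero_smul, add_zero]
    conv_lhs => arg 3; rw [hu2]
    rw [h1adj, e, Unitary.herm_zero_right (hF2 hF)]
  have hu20 : u2 ≠ 0 := fun e => one_ne_zero (by rw [← hv2, e]; simp)
  obtain ⟨ω, -, -, hω⟩ := exists_omega hF
  have fixnorm : ∀ (r y : Fin n → F), Unitary.herm 2 r r = 0 → Unitary.herm 2 r y = 1 →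
      ∃ β : F, Unitary.herm 2 (y + β • r) (y + β • r) = 0 := by
    intro r y hr hry
    have hyr : Unitary.herm 2 y r = 1 := by rw [herm_swap hF r y, hry, one_pow]
    rcases trace_norm hF y with h | h
    · exact ⟨0, by rw [zero_smul, add_zero, h]⟩
    · refine ⟨ω, ?_⟩
      rw [Unitary.herm_add_left, herm_right_add hF, herm_right_add hF, Unitary.herm_smul_left,
        Unitary.herm_smul_left, herm_right_smul hF, herm_right_smul hF, h, hyr, hry, hr]
      linear_combination hω + (ω + 1) * two_zero hF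
  obtain ⟨β, hβ⟩ := fixnorm u v huu hv
  set p := v + β • u with hp
  have hup : Unitary.herm 2 u p = 1 := by
    rw [hp, herm_right_add hF, herm_right_smul hF, hv, huu, mul_zero, add_zero]
  have hu2p : Unitary.herm 2 u2 p = 0 := by
    rw [hp, herm_right_add hF, herm_right_smul hF, hu2v, hu2u, mul_zero, add_zero]
  have hAp : A p = u := by rw [hp, hadd, hsmul, hAu, smul_zero, add_zero]
  clear_value p
  set v2' := v2 + Unitary.herm 2 v2 u • v with hv2'
  have hv2'u : Unitary.herm 2 v2' u = 0 := by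
    rw [hv2', Unitary.herm_add_left, Unitary.herm_smul_left, hvu, mul_one, add_self hF]
  have hu2v2' : Unitary.herm 2 u2 v2' = 1 := by
    rw [hv2', herm_right_add hF, herm_right_smul hF, hv2, hu2v, mul_zero, add_zero]
  have hAv2' : A v2' = u2 := by
    have : A1 v2' = u2 := by rw [hv2', h1add, h1smul, h1v, smul_zero, add_zero]
    rwa [hA1, hv2'u, zero_smul, add_zero] at this
  obtain ⟨γ, hγ⟩ := fixnorm u2 v2' hu2u2 hu2v2'
  have huu2 : Unitary.herm 2 u u2 = 0 := by rw [herm_swap hF u2 u, hu2u]; ring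
  have huv2' : Unitary.herm 2 u v2' = 0 := by rw [herm_swap hF v2' u, hv2'u]; ring
  set q0 := v2' + γ • u2 with hq0
  have huq0 : Unitary.herm 2 u q0 = 0 := by
    rw [hq0, herm_right_add hF, herm_right_smul hF, huv2', huu2, mul_zero, add_zero]
  set q := q0 + Unitary.herm 2 p q0 ^ 2 • u with hq
  have hq0u : Unitary.herm 2 q0 u = 0 := by rw [herm_swap hF u q0, huq0]; ring
  have hu2q : Unitary.herm 2 u2 q = 1 := by
    rw [hq, herm_right_add hF, herm_right_smul hF, hu2u, hq0, herm_right_add hF, herm_right_smul hF,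
      hu2v2', hu2u2]
    ring
  have huq : Unitary.herm 2 u q = 0 := by
    rw [hq, herm_right_add hF, herm_right_smul hF, huu, huq0, mul_zero, add_zero]
  have hqu : Unitary.herm 2 q u = 0 := by rw [herm_swap hF u q, huq]; ring
  clear_value q0
  have hqq : Unitary.herm 2 q q = 0 := by
    rw [hq, Unitary.herm_add_left, herm_right_add hF, herm_right_add hF, Unitary.herm_smul_left,
      Unitary.herm_smul_left, herm_right_smul hF, herm_right_smul hF, huu, hq0u, huq0, hγ]
    ring
  have hpu : Unitary.herm 2 p u = 1 := by rw [herm_swap hF u p, hup, one_pow]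
  have hpq : Unitary.herm 2 p q = 0 := by
    rw [hq, herm_right_add hF, herm_right_smul hF, hpu, sq_sq hF, mul_one, add_self hF]
  have hqp : Unitary.herm 2 q p = 0 := by rw [herm_swap hF p q, hpq]; ring
  have hpu2 : Unitary.herm 2 p u2 = 0 := by rw [herm_swap hF u2 p, hu2p]; ring
  have hqu2 : Unitary.herm 2 q u2 = 1 := by rw [herm_swap hF u2 q, hu2q, one_pow]
  have hAq : A q = u2 := by
    rw [hq, hadd, hsmul, hAu, smul_zero, add_zero, hq0, hadd, hsmul, hAv2', hu2, ← hu2]
    have : A u2 = 0 := by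
      have h := hA1 v2
      rw [← hu2] at h
      rw [h, hadd, hAA, hsmul, hAu, smul_zero, add_zero]
    rw [this, smul_zero, add_zero]
  have hAu2 : A u2 = 0 := by
    rw [← hAq]; exact hAA q
  clear_value q
  -- the witnesses
  have hw : Unitary.herm 2 (p + q) (p + q) = 0 := by
    rw [Unitary.herm_add_left, herm_right_add hF, herm_right_add hF, hβ, hqq, hpq, hqp]; ring
  have hx : Unitary.herm 2 (q + u) (q + u) = 0 := by
    rw [Unitary.herm_add_left, herm_right_add hF, herm_right_add hF, hqq, huu, hqu, huq]; ring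
  set h := tr1 hF (p + q) hw * tr1 hF (q + u) hx with hh
  have hinvh : h⁻¹ = tr1 hF (q + u) hx * tr1 hF (p + q) hw := by
    refine inv_eq_of_mul_eq_one_right (Unitary.eq_of_smul_eq_SU fun y => ?_)
    rw [hh, mul_smul, mul_smul, mul_smul, tr1_smul, tr1_smul, tr1_smul, tr1_smul, tvv_tvv hF hx,
      tvv_tvv hF hw, one_smul]
  set P := g * (h * g * h⁻¹) with hPdef
  have act : ∀ y : Fin n → F, P • y =
      g • tvv (p + q) (tvv (q + u) (g • tvv (q + u) (tvv (p + q) y))) := fun y => by
    rw [hPdef, hinvh, hh]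
    simp only [mul_smul, tr1_smul hF]
  have gu : g • u = u := by rw [hgA, hAu, add_zero]
  have gp : g • p = p + u := by rw [hgA, hAp]
  have gq : g • q = q + u2 := by rw [hgA, hAq]
  have gu2 : g • u2 = u2 := by rw [hgA, hAu2, add_zero]
  have h2 : (1 : F) + 1 = 0 := add_self hF 1
  have vneg : ∀ x y : Fin n → F, x + (x + y) = y := fun x y => by
    rw [← add_assoc, vadd_self hF, zero_add]
  have s1 : P • p = u2 := by
    rw [act]
    simp only [tvv, Unitary.herm_add_left, herm_right_add hF, smul_add, gu, gp, gq, gu2, hβ, hqq, huu,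
      hu2u2, hup, hpu, hu2p, hpu2, hu2q, hqu2, hu2u, huu2, huq, hqu, hpq, hqp, add_zero, zero_add,
      h2, zero_smul, one_smul, add_assoc, add_left_comm, add_comm, vneg, vadd_self hF]
  have s2 : P • u2 = p + u := by
    rw [act]
    simp only [tvv, Unitary.herm_add_left, herm_right_add hF, smul_add, gu, gp, gq, gu2, hβ, hqq, huu,
      hu2u2, hup, hpu, hu2p, hpu2, hu2q, hqu2, hu2u, huu2, huq, hqu, hpq, hqp, add_zero, zero_add,
      h2, zero_smul, one_smul, add_assoc, add_left_comm, add_comm, vneg, vadd_self hF]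
  have s3 : P • (p + u) = p + (q + u) := by
    rw [act]
    simp only [tvv, Unitary.herm_add_left, herm_right_add hF, smul_add, gu, gp, gq, gu2, hβ, hqq, huu,
      hu2u2, hup, hpu, hu2p, hpu2, hu2q, hqu2, hu2u, huu2, huq, hqu, hpq, hqp, add_zero, zero_add,
      h2, zero_smul, one_smul, add_assoc, add_left_comm, add_comm, vneg, vadd_self hF]
  have hgC : h * g * h⁻¹ ∈ C := hinv h g hg
  rcases hC.2 g hg _ hgC with h' | h'
  · rw [← hPdef] at h'
    have : P • P • p = p := by rw [smul_smul, ← pow_two, h', one_smul]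
    rw [s1, s2] at this
    exact hu0 (by simpa using this)
  · rw [← hPdef] at h'
    have : P • P • P • p = p := by
      rw [smul_smul, smul_smul, ← pow_two, ← pow_succ, h', one_smul]
    rw [s1, s2, s3] at this
    have hqu0 : q + u = 0 := by simpa using this
    have := congrArg (fun z => Unitary.herm 2 z u2) hqu0
    rw [Unitary.herm_add_left, hqu2, huu2, add_zero, Unitary.herm_zero_left] at this
    exact one_ne_zero this

end Cfsg.Agent.Sporadic96.TwoRad
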