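import Cfsg.Agent.Sporadic96.TwoRad.Geom
import Cfsg.Agent.Sporadic96.TwoRadicalModule

/-!
# Modules for the transvections of `SU_n(2)`
-/

set_option autoImplicit false

namespace Cfsg.Agent.Sporadic96.TwoRad

open Cfsg.Agent

/-- A module for a group generated by points indexed by isotropic vectors. -/
structure Rep {X V : Type*} [Group X] [CommGroup V] (ρ : X →* MulAut V) {F : Type*} [Field F]
    [Fintype F] {n : ℕ} (pt : (Fin n → F) → X) : Prop where
  hF : Fintype.card F = 4
  mod : TwoModule.Mod ρ (pt '' {u | Iso u})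
  smul : ∀ u, Iso u → ∀ a : F, a ≠ 0 → pt (a • u) = pt u
  conj : ∀ u v, Iso u → Iso v → pt u * pt v * pt u = pt (tvv u v)
  comm : ∀ u v, Iso u → Iso v → (Commute (pt u) (pt v) ↔ Unitary.herm 2 u v = 0)
  fix_one : ∀ v, (∀ u, Iso u → ρ (pt u) v = v) → v = 1

end Cfsg.Agent.Sporadic96.TwoRad
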