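import Cfsg.Agent.Sporadic96.TwoRad.GoodGen
import Cfsg.Agent.Sporadic96.TwoRad.ClassTransvection
import Cfsg.Agent.Sporadic96.TwoRad.Rep
import Cfsg.Agent.Sporadic96.UniqueClass

/-!
# Extensions of `SU_n(2)` by a 2-group generated by 3-transpositions: the module

If `G / O₂(G) ≅ SU_n(2)` with `n ≥ 5`, the subgroup generated by the products of two members of the class
with the same image is elementary abelian and faithful for the odd part of `G`.
-/

set_option autoImplicit false

namespace Cfsg.Agent.Sporadic96.TwoRad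

open Cfsg.Agent

/-- A group generated by 3-transpositions with quotient `SU_n(2)` by its 2-radical. -/
structure Setup (G : Type*) [Group G] [Finite G] (F : Type*) [Field F] [Fintype F] (n : ℕ) where
  D : Set G
  hD : Cfsg.IsThreeTranspositionClass D
  hZ : Subgroup.center G = ⊥
  hFit : Cfsg.generalizedFittingSubgroup G = Cfsg.pCore 2 G
  π : G →* Cfsg.SU n F 2
  surj : Function.Surjective π
  ker : π.ker = Cfsg.pCore 2 G
  hF : Fintype.card F = 4
  hn : 5 ≤ n

variable {G : Type*} [Group G] [Finite G] {F : Type*} [Field F] [Fintype F] {n : ℕ}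

namespace Setup

variable (S : Setup G F n)

theorem inv' : FischerSpace.Invariant S.D := FischerSpace.class_invariant S.hD

theorem set' : Cfsg.IsThreeTranspositionSet S.D := S.hD.1

theorem π_eq_one {g : G} : S.π g = 1 ↔ g ∈ Cfsg.pCore 2 G := by
  rw [← S.ker, MonoidHom.mem_ker]

theorem π_ne_one {d : G} (hd : d ∈ S.D) : S.π d ≠ 1 := fun h =>
  UniqueClass.not_mem_core S.hD S.hZ hd (S.π_eq_one.1 h)

theorem commute_iff {d e : G} (hd : d ∈ S.D) (he : e ∈ S.D) :
    Commute (S.π d) (S.π e) ↔ Commute d e := by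
  refine ⟨fun h => (UniqueClass.image_commute S.hD hd he).1 ?_, fun h => h.map S.π⟩
  show ((d : G ⧸ Cfsg.pCore 2 G) * e) = e * d
  rw [← QuotientGroup.mk_mul, ← QuotientGroup.mk_mul, QuotientGroup.eq, ← S.π_eq_one, map_mul, map_inv,
    map_mul, map_mul, h.eq, inv_mul_cancel]

theorem commute_same {d e : G} (hd : d ∈ S.D) (he : e ∈ S.D) (h : S.π d = S.π e) : Commute d e :=
  (S.commute_iff hd he).1 (h ▸ Commute.refl _)

theorem cls {d : G} (hd : d ∈ S.D) :
    ∃ (u : Fin n → F) (hu : Iso u), S.π d = tr1 S.hF u hu.2 := by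
  have hC := FischerSpace.set_image S.set' S.π fun e he => S.π_ne_one he
  have hinv : FischerSpace.Invariant (S.π '' S.D) := by
    rintro g _ ⟨e, he, rfl⟩
    obtain ⟨g, rfl⟩ := S.surj g
    exact ⟨g * e * g⁻¹, S.inv' g e he, by simp⟩
  obtain ⟨u, hu, h⟩ := class_transvection S.hF hC hinv ⟨d, hd, rfl⟩
  exact ⟨u, hu, Unitary.eq_of_smul_eq_SU fun x => by rw [h, tr1_smul]⟩

theorem conj_tr1 (g : Cfsg.SU n F 2) {u : Fin n → F} (hu : Iso u) :
    g * tr1 S.hF u hu.2 * g⁻¹ = tr1 S.hF (g • u) (iso_smul_SU S.hF g hu).2 := by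
  refine Unitary.eq_of_smul_eq_SU fun x => ?_
  rw [mul_smul, mul_smul, tr1_smul, tr1_smul, smul_tvv S.hF, smul_inv_smul]

theorem exists_lift {u : Fin n → F} (hu : Iso u) : ∃ d ∈ S.D, S.π d = tr1 S.hF u hu.2 := by
  obtain ⟨a, ha, -⟩ := UniqueClass.two_members S.hD S.hZ
  obtain ⟨u₀, hu₀, h₀⟩ := S.cls ha
  obtain ⟨g, hg⟩ := exists_move S.hF (by have := S.hn; omega) hu₀ hu
  obtain ⟨g, rfl⟩ := S.surj g
  refine ⟨g * a * g⁻¹, S.inv' g a ha, ?_⟩
  rw [map_mul, map_mul, map_inv, h₀, S.conj_tr1 _ hu₀]
  congr 1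

theorem tr1_commute {u v : Fin n → F} (hu : Iso u) (hv : Iso v) :
    Commute (tr1 S.hF u hu.2) (tr1 S.hF v hv.2) ↔ Unitary.herm 2 u v = 0 := by
  refine ⟨fun h => ?_, fun h => ?_⟩
  · have e : ∀ x, tvv (tvv u v) x = tvv v x := fun x => by
      have h1 := congrArg (fun g : Cfsg.SU n F 2 => g • tvv u x) h.eq
      simp only [mul_smul, tr1_smul, tvv_tvv S.hF hu.2] at h1
      have h2 := smul_tvv S.hF (tr1 S.hF u hu.2) v (tvv u x)
      simp only [tr1_smul, tvv_tvv S.hF hu.2] at h2
      rw [← h2, h1]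
    obtain ⟨a, ha⟩ := center_unique S.hF (iso_tvv S.hF hu.2 hv).1 e
    rw [herm_swap S.hF v u]
    suffices Unitary.herm 2 v u = 0 by rw [this, zero_pow two_ne_zero]
    by_contra hne
    have h3 := congrArg (fun z => Unitary.herm 2 z v) ha
    simp only [tvv, Unitary.herm_add_left, Unitary.herm_smul_left, hv.2, zero_add, mul_zero] at h3
    rcases mul_eq_zero.1 h3 with h3 | h3
    · exact hne h3
    · exact hne (by rw [herm_swap S.hF u v, h3, zero_pow two_ne_zero])
  · refine Unitary.eq_of_smul_eq_SU fun x => ?_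
    simp only [mul_smul, tr1_smul]
    have hvu : Unitary.herm 2 v u = 0 := by rw [herm_swap S.hF u v, h, zero_pow two_ne_zero]
    simp only [tvv, Unitary.herm_add_left, Unitary.herm_smul_left, h, hvu, mul_zero, add_zero]
    abel

theorem commute_vec {d e : G} (hd : d ∈ S.D) (he : e ∈ S.D) {u v : Fin n → F} (hu : Iso u)
    (hv : Iso v) (h1 : S.π d = tr1 S.hF u hu.2) (h2 : S.π e = tr1 S.hF v hv.2) :
    Commute d e ↔ Unitary.herm 2 u v = 0 := by
  rw [← S.commute_iff hd he, h1, h2, S.tr1_commute hu hv]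

/-- A subgroup containing all members which commute with a point of a fixed line is everything. -/
theorem all_mem {u u' : Fin n → F} (hu : Iso u) (hu' : Iso u') (h : Unitary.herm 2 u u' ≠ 0)
    (K : Subgroup G) (hK : ∀ d ∈ S.D, ∀ (w : Fin n → F) (hw : Iso w), S.π d = tr1 S.hF w hw.2 →
      (Unitary.herm 2 w u = 0 ∨ Unitary.herm 2 w u' = 0 ∨ Unitary.herm 2 w (tvv u u') = 0) → d ∈ K) :
    K = ⊤ := by
  have hmap : K.map S.π = ⊤ := good_gen S.hF S.hn hu hu' h fun w hw hor => by
    obtain ⟨d, hd, hdw⟩ := S.exists_lift hw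
    exact ⟨d, hK d hd w hw hdw hor, hdw⟩
  rw [eq_top_iff, ← S.hD.2.2, Subgroup.closure_le]
  intro d hd
  obtain ⟨w, hw, hdw⟩ := S.cls hd
  obtain ⟨g, hg⟩ := exists_move S.hF (by have := S.hn; omega) hu hw
  obtain ⟨k, hk, rfl⟩ : g ∈ K.map S.π := hmap ▸ Subgroup.mem_top g
  have hk' : k⁻¹ * d * k⁻¹⁻¹ ∈ K := by
    refine hK _ (S.inv' k⁻¹ d hd) u hu ?_ (Or.inl hu.2)
    rw [map_mul, map_mul, map_inv S.π k⁻¹, hdw, S.conj_tr1 _ hw]
    congr 1
    rw [map_inv, inv_smul_eq_iff, hg]
  simpa [mul_assoc] using mul_mem (mul_mem hk hk') (inv_mem hk)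

/-- Products of two members with the same image. -/
def gens : Set G := {t | ∃ d ∈ S.D, ∃ e ∈ S.D, S.π d = S.π e ∧ t = d * e}

/-- The subgroup generated by them. -/
def N : Subgroup G := Subgroup.closure S.gens

/-- Conjugating a pair product by a member not commuting with it. -/
theorem swap {d d' h : G} (hd : d ∈ S.D) (hd' : d' ∈ S.D) (hdd : S.π d = S.π d') (hh : h ∈ S.D)
    (hnc : ¬ Commute d h) :
    ∃ c ∈ S.D, ∃ c' ∈ S.D, S.π c = S.π h ∧ S.π c' = S.π h ∧
      h * (d * d') * h = d * d' * (c * c') ∧ d * (h * (d * d') * h) * d = c * c' ∧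
      Commute (d * d') (c * c') := by
  have hc := S.commute_same hd hd' hdd
  have hnc' : ¬ Commute d' h := fun e => hnc ((S.commute_iff hd hh).1 (hdd ▸ e.map S.π))
  have hA := FischerSpace.mul_self S.set' hd
  have hA' := FischerSpace.mul_self S.set' hd'
  have hB := FischerSpace.mul_self S.set' hh
  have br := FischerSpace.braid S.set' hh hd fun e => hnc e.symm
  have br' := FischerSpace.braid S.set' hh hd' fun e => hnc' e.symm
  set g := d * h * d with hg
  have hgD : g ∈ S.D := FischerSpace.conj_mem S.set' S.inv' hd hh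
  have hgg : g * g = 1 := FischerSpace.mul_self S.set' hgD
  have hc' : g * d * g = h := by
    calc g * d * g = d * h * (d * d) * d * h * d := by rw [hg]; simp only [mul_assoc]
      _ = d * (h * d * h) * d := by rw [hA, mul_one]; simp only [mul_assoc]
      _ = d * (d * h * d) * d := by rw [br]
      _ = (d * d) * h * (d * d) := by simp only [mul_assoc]
      _ = h := by rw [hA, one_mul, mul_one]
  set c' := g * d' * g with hc'def
  have hc'D : c' ∈ S.D := FischerSpace.conj_mem S.set' S.inv' hgD hd'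
  have hπc' : S.π c' = S.π h := by
    rw [hc'def, map_mul, map_mul, ← hdd, ← map_mul, ← map_mul, hc']
  set t := d * d' with ht
  have htt : t * t = 1 := by
    rw [ht]; exact (pow_two _).symm.trans ((FischerSpace.commute_iff_sq S.set' hd hd').1 hc)
  -- the Klein identity
  have key : d * (h * t * h) * d = t * (h * t * h) := by
    have hyy : h * t * h * (h * t * h) = 1 := by
      calc h * t * h * (h * t * h) = h * t * (h * h) * t * h := by simp only [mul_assoc]
        _ = h * (t * t) * h := by rw [hB, mul_one]; simp only [mul_assoc]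
        _ = 1 := by rw [htt, mul_one, hB]
    have cl : ∀ x y : G, x * x = 1 → x * (x * y) = y := fun x y hx => by
      rw [← mul_assoc, hx, one_mul]
    have e1 : t * (d * (h * t * h) * d) * (h * t * h) = 1 := by
      have e : d * (h * t * h) * d = h * d * (h * d' * h * d) := by
        calc d * (h * t * h) * d = (d * h * d) * (d' * (h * d)) := by rw [ht]; simp only [mul_assoc]
          _ = (h * d * h) * (d' * (h * d)) := by rw [br]
          _ = _ := by simp only [mul_assoc]
      rw [e]
      calc t * (h * d * (h * d' * h * d)) * (h * t * h)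
          = t * (h * d * ((h * d' * h) * (d * h * d) * (d' * h))) := by
            rw [ht]; simp only [mul_assoc]
        _ = t * (h * d * ((d' * h * d') * (h * d * h) * (d' * h))) := by rw [br, br']
        _ = t * h * d * d' * h * (d' * h * d) * (h * d' * h) := by simp only [mul_assoc]
        _ = t * h * d * d' * h * (d' * h * d) * (d' * h * d') := by rw [br']
        _ = t * h * d * d' * h * d' * h * (d * d') * h * d' := by simp only [mul_assoc]
        _ = t * h * d * d' * h * d' * h * (d' * d) * h * d' := by rw [hc.eq]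
        _ = t * h * d * d' * h * (d' * h * d') * d * h * d' := by simp only [mul_assoc]
        _ = t * h * d * d' * h * (h * d' * h) * d * h * d' := by rw [br']
        _ = t * h * d * (d' * (h * (h * (d' * (h * (d * (h * d'))))))) := by simp only [mul_assoc]
        _ = t * h * d * (h * (d * (h * d'))) := by rw [cl h _ hB, cl d' _ hA']
        _ = t * (h * d * h) * (d * (h * d')) := by simp only [mul_assoc]
        _ = t * (d * h * d) * (d * (h * d')) := by rw [br]
        _ = t * d * (h * (d * (d * (h * d')))) := by simp only [mul_assoc]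
        _ = t * d * d' := by rw [cl d _ hA, cl h _ hB]
        _ = t * t := by rw [ht, mul_assoc]
        _ = 1 := htt
    have e2 := eq_inv_of_mul_eq_one_left e1
    rw [inv_eq_of_mul_eq_one_left hyy] at e2
    calc d * (h * t * h) * d = t * (t * (d * (h * t * h) * d)) := (cl t _ htt).symm
      _ = t * (h * t * h) := by rw [e2]
  have hu : h * c' = d * (h * t * h) * d := by
    calc h * c' = g * d * g * (g * d' * g) := by rw [hc', hc'def]
      _ = g * (d * d') * g := by
        simp only [mul_assoc]; rw [← mul_assoc g g, hgg, one_mul]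
      _ = d * h * (d * t * d) * h * d := by rw [hg, ht]; simp only [mul_assoc]
      _ = d * (h * t * h) * d := by
        have : d * t * d = t := by
          rw [ht, ← mul_assoc d d, hA, one_mul, ← hc.eq]
        rw [this]; simp only [mul_assoc]
  refine ⟨h, hh, c', hc'D, rfl, hπc', ?_, hu.symm, ?_⟩
  · rw [hu, key, ← mul_assoc t t, htt, one_mul]
  · have hinv : (h * c') * (h * c') = 1 := by
      rw [← pow_two]
      exact (FischerSpace.commute_iff_sq S.set' hh hc'D).1 (S.commute_same hh hc'D hπc'.symm)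
    show t * (h * c') = h * c' * t
    have hyy : (h * t * h) * (h * t * h) = 1 := by
      calc h * t * h * (h * t * h) = h * t * (h * h) * t * h := by simp only [mul_assoc]
        _ = h * (t * t) * h := by rw [hB, mul_one]; simp only [mul_assoc]
        _ = 1 := by rw [htt, mul_one, hB]
    -- both sides are `h t h`
    rw [hu, key, ← mul_assoc t t, htt, one_mul]
    rw [hu, key] at hinv
    calc h * t * h = t * (h * t * h) * (t * (h * t * h)) * (h * t * h) := by rw [hinv, one_mul]
      _ = t * (h * t * h) * t * ((h * t * h) * (h * t * h)) := by simp only [mul_assoc]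
      _ = t * (h * t * h) * t := by rw [hyy, mul_one]

theorem sq_pair {d d' : G} (hd : d ∈ S.D) (hd' : d' ∈ S.D) (h : S.π d = S.π d') :
    d * d' * (d * d') = 1 := by
  rw [← pow_two]
  exact (FischerSpace.commute_iff_sq S.set' hd hd').1 (S.commute_same hd hd' h)

theorem commute_pairs {d d' e e' : G} (hd : d ∈ S.D) (hd' : d' ∈ S.D) (he : e ∈ S.D) (he' : e' ∈ S.D)
    (hdd : S.π d = S.π d') (hee : S.π e = S.π e') (h : Commute (S.π d) (S.π e)) :
    Commute (d * d') (e * e') :=
  ((S.commute_iff hd he).1 h).mul_right ((S.commute_iff hd he').1 (hee ▸ h)) |>.mul_left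
    (((S.commute_iff hd' he).1 (hdd ▸ h)).mul_right ((S.commute_iff hd' he').1 (hdd ▸ hee ▸ h)))

/-- A member commuting with `e` fixes the commutator of two pair products. -/
theorem fix_z {d d' e e' h : G} (hd : d ∈ S.D) (hd' : d' ∈ S.D) (he : e ∈ S.D) (he' : e' ∈ S.D)
    (hdd : S.π d = S.π d') (hee : S.π e = S.π e') (hh : h ∈ S.D) (heh : Commute e h) :
    h * (d * d' * (e * e') * (d * d') * (e * e')) * h = d * d' * (e * e') * (d * d') * (e * e') := by
  set t := d * d' with ht
  set s := e * e' with hs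
  have hB := FischerSpace.mul_self S.set' hh
  have he'h : Commute e' h := (S.commute_iff he' hh).1 (hee ▸ heh.map S.π)
  have hsh : Commute s h := heh.mul_left he'h
  have e0 : h * (t * s * t * s) * h = (h * t * h) * s * (h * t * h) * s := by
    calc h * (t * s * t * s) * h = h * t * s * t * (s * h) := by simp only [mul_assoc]
      _ = h * t * (h * h) * s * t * (h * s) := by rw [hsh.eq, hB, mul_one]
      _ = h * t * h * (h * s) * t * h * s := by simp only [mul_assoc]
      _ = h * t * h * (s * h) * t * h * s := by rw [hsh.eq]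
      _ = _ := by simp only [mul_assoc]
  rw [e0]
  by_cases hc : Commute d h
  · have hd'h : Commute d' h := (S.commute_iff hd' hh).1 (hdd ▸ hc.map S.π)
    rw [show h * t * h = t by
      rw [← (hc.mul_left hd'h).eq, mul_assoc, hB, mul_one]]
  obtain ⟨c, hc1, c', hc', hπc, hπc', e1, -, hcomm⟩ := S.swap hd hd' hdd hh hc
  rw [e1]
  have hus : Commute (c * c') s := S.commute_pairs hc1 hc' he he' (hπc.trans hπc'.symm) hee
    (hπc ▸ heh.symm.map S.π)
  calc t * (c * c') * s * (t * (c * c')) * s
      = t * ((c * c') * s) * (t * (c * c')) * s := by simp only [mul_assoc]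
    _ = t * (s * (c * c')) * ((c * c') * t) * s := by rw [hus.eq, hcomm.eq]
    _ = t * s * ((c * c') * (c * c')) * t * s := by simp only [mul_assoc]
    _ = t * s * t * s := by rw [S.sq_pair hc1 hc' (hπc.trans hπc'.symm), mul_one]

theorem commute_gens {a b : G} (ha : a ∈ S.gens) (hb : b ∈ S.gens) : Commute a b := by
  obtain ⟨d, hd, d', hd', hdd, rfl⟩ := ha
  obtain ⟨e, he, e', he', hee, rfl⟩ := hb
  by_cases hde : Commute d e
  · exact S.commute_pairs hd hd' he he' hdd hee (hde.map S.π)
  set t := d * d' with ht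
  set s := e * e' with hs
  have htt : t * t = 1 := S.sq_pair hd hd' hdd
  have hss : s * s = 1 := S.sq_pair he he' hee
  set z := t * s * t * s with hz
  have hA := FischerSpace.mul_self S.set' hd
  have htd : Commute t d := (Commute.refl d).mul_left (S.commute_same hd' hd hdd.symm)
  set f := d * e * d with hf
  set f' := d * e' * d with hf'
  have hfD : f ∈ S.D := FischerSpace.conj_mem S.set' S.inv' hd he
  have hf'D : f' ∈ S.D := FischerSpace.conj_mem S.set' S.inv' hd he'
  have hff : S.π f = S.π f' := by rw [hf, hf']; simp only [map_mul, hee]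
  have hsf : d * s * d = f * f' := by
    rw [hs, hf, hf']; simp only [mul_assoc]; rw [← mul_assoc d d, hA, one_mul]
  obtain ⟨c, hc, c', hc', hπc, hπc', e1, -, hcomm⟩ := S.swap he he' hee hd fun h => hde h.symm
  have hz1 : t * (f * f') * t * (f * f') = z := by
    rw [← hsf, e1]
    have hut : Commute (c * c') t := S.commute_pairs hc hc' hd hd' (hπc.trans hπc'.symm) hdd
      (hπc ▸ Commute.refl _)
    calc t * (s * (c * c')) * t * (s * (c * c'))
        = t * s * ((c * c') * t) * (s * (c * c')) := by simp only [mul_assoc]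
      _ = t * s * (t * (c * c')) * ((c * c') * s) := by rw [hut.eq, hcomm.eq]
      _ = t * s * t * ((c * c') * (c * c')) * s := by simp only [mul_assoc]
      _ = z := by rw [S.sq_pair hc hc' (hπc.trans hπc'.symm), mul_one]
  obtain ⟨u, hu, hdu⟩ := S.cls hd
  obtain ⟨u', hu', heu⟩ := S.cls he
  have hne : Unitary.herm 2 u u' ≠ 0 := fun h => hde ((S.commute_vec hd he hu hu' hdu heu).2 h)
  have hfu : S.π f = tr1 S.hF (tvv u u') (iso_tvv S.hF hu.2 hu').2 := by
    have h1 := S.conj_tr1 (tr1 S.hF u hu.2) hu'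
    rw [← hdu, ← map_inv, FischerSpace.inv_eq S.set' hd] at h1
    rw [hf, map_mul, map_mul, heu, h1]
    congr 1
    rw [hdu, tr1_smul]
  have hfix : ∀ h ∈ S.D, h * z * h = z → h ∈ Subgroup.centralizer {z} := fun h hh e => by
    refine Subgroup.mem_centralizer_singleton_iff.2 ?_
    conv_rhs => rw [← e]
    rw [mul_assoc, mul_assoc, FischerSpace.mul_self S.set' hh, mul_one]
  have htop : Subgroup.centralizer {z} = ⊤ := by
    refine S.all_mem hu hu' hne _ fun h hh w hw hhw hor => hfix h hh ?_
    rcases hor with h0 | h0 | h0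
    · have hdh : Commute d h := ((S.commute_vec hh hd hw hu hhw hdu).2 h0).symm
      have h1 := S.fix_z he he' hd hd' hee hdd hh hdh
      have hzi : z⁻¹ = s * t * s * t := inv_eq_of_mul_eq_one_right (by
        calc z * (s * t * s * t) = t * s * t * (s * s) * t * s * t := by rw [hz]; simp only [mul_assoc]
          _ = t * s * (t * t) * s * t := by rw [hss, mul_one]; simp only [mul_assoc]
          _ = t * (s * s) * t := by rw [htt, mul_one]; simp only [mul_assoc]
          _ = 1 := by rw [hss, mul_one, htt])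
      rw [← hzi] at h1
      have h2 := congrArg (·⁻¹) h1
      simp only [mul_inv_rev, inv_inv, FischerSpace.inv_eq S.set' hh, ← mul_assoc] at h2
      exact h2
    · exact S.fix_z hd hd' he he' hdd hee hh
        ((S.commute_vec hh he hw hu' hhw heu).2 h0).symm
    · have h1 := S.fix_z hd hd' hfD hf'D hdd hff hh
        ((S.commute_vec hh hfD hw (iso_tvv S.hF hu.2 hu') hhw hfu).2 h0).symm
      rwa [hz1] at h1
  have hzc : z ∈ Subgroup.center G := Subgroup.mem_center_iff.2 fun g =>
    Subgroup.mem_centralizer_singleton_iff.1 (htop ▸ Subgroup.mem_top g)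
  rw [S.hZ, Subgroup.mem_bot, hz] at hzc
  show t * s = s * t
  calc t * s = t * s * t * s * (s * t) := by
        simp only [mul_assoc]; rw [← mul_assoc s s, hss, one_mul, htt, mul_one]
    _ = s * t := by rw [hzc, one_mul]

theorem N_comm {a b : G} (ha : a ∈ S.N) (hb : b ∈ S.N) : Commute a b := by
  induction ha using Subgroup.closure_induction with
  | mem x hx =>
    induction hb using Subgroup.closure_induction with
    | mem y hy => exact S.commute_gens hx hy
    | one => exact Commute.one_right _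
    | mul y z _ _ ihy ihz => exact ihy.mul_right ihz
    | inv y _ ih => exact ih.inv_right
  | one => exact Commute.one_left _
  | mul x y _ _ ihx ihy => exact ihx.mul_left ihy
  | inv x _ ih => exact ih.inv_left

theorem N_sq {a : G} (ha : a ∈ S.N) : a * a = 1 := by
  induction ha using Subgroup.closure_induction with
  | mem x hx => obtain ⟨d, hd, d', hd', hdd, rfl⟩ := hx; exact S.sq_pair hd hd' hdd
  | one => rw [mul_one]
  | mul x y hx hy ihx ihy =>
    calc x * y * (x * y) = x * (y * x) * y := by simp only [mul_assoc]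
      _ = x * (x * y) * y := by rw [(S.N_comm hy hx).eq]
      _ = x * x * (y * y) := by simp only [mul_assoc]
      _ = 1 := by rw [ihx, ihy, mul_one]
  | inv x _ ih => rw [← mul_inv_rev, ih, inv_one]

theorem pair_mem {d e : G} (hd : d ∈ S.D) (he : e ∈ S.D) (h : S.π d = S.π e) : d * e ∈ S.N :=
  Subgroup.subset_closure ⟨d, hd, e, he, h, rfl⟩

theorem N_le : S.N ≤ Cfsg.pCore 2 G := (Subgroup.closure_le _).2 fun t ht => by
  obtain ⟨d, hd, e, he, h, rfl⟩ := ht
  show d * e ∈ Cfsg.pCore 2 G
  rw [← S.π_eq_one, map_mul, ← h, ← map_mul, FischerSpace.mul_self S.set' hd, map_one]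

instance N_normal : S.N.Normal := by
  refine ⟨fun a ha g => ?_⟩
  induction ha using Subgroup.closure_induction with
  | mem x hx =>
    obtain ⟨d, hd, e, he, h, rfl⟩ := hx
    rw [← conj_mul]
    exact S.pair_mem (S.inv' g d hd) (S.inv' g e he) (by simp only [map_mul, h])
  | one => simp
  | mul x y _ _ ihx ihy => rw [← conj_mul]; exact mul_mem ihx ihy
  | inv x _ ih => rw [← conj_inv]; exact inv_mem ih

/-- The product of three members with the same image is a member. -/
theorem triple {a b c : G} (ha : a ∈ S.D) (hb : b ∈ S.D) (hc : c ∈ S.D) (hab : S.π a = S.π b)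
    (hbc : S.π b = S.π c) : a * (b * c) ∈ S.D ∧ ∃ s ∈ S.N, a * s * a * s = b * c := by
  obtain ⟨h, hh, hnc⟩ := FischerSpace.exists_not_commute S.hD (UniqueClass.two_members S.hD S.hZ) hb
  obtain ⟨x, hx, y, hy, hπx, hπy, e1, e2, -⟩ := S.swap hb hc hbc hh hnc
  set t := b * c with ht
  have htN : t ∈ S.N := S.pair_mem hb hc hbc
  set s := h * t * h with hs
  have hsN : s ∈ S.N := by
    have := (S.N_normal).conj_mem t htN h
    rwa [FischerSpace.inv_eq S.set' hh] at this
  have hbs : b * s * b = t * s := by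
    rw [e2, e1, ← mul_assoc t t, S.N_sq htN, one_mul]
  have hA := FischerSpace.mul_self S.set' hb
  have haa := FischerSpace.mul_self S.set' ha
  have hba : Commute b a := S.commute_same hb ha hab.symm
  have hw : Commute (b * a) s := S.N_comm (S.pair_mem hb ha hab.symm) hsN
  have has : a * s * a = t * s := by
    calc a * s * a = b * ((b * a) * s) * a := by
          simp only [mul_assoc]; rw [← mul_assoc b b, hA, one_mul]
      _ = b * (s * (b * a)) * a := by rw [hw.eq]
      _ = b * s * b * (a * a) := by simp only [mul_assoc]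
      _ = t * s := by rw [haa, mul_one, hbs]
  refine ⟨?_, s, hsN, by rw [has, mul_assoc, S.N_sq hsN, mul_one]⟩
  have : a * t = s * a * s⁻¹ := by
    rw [inv_eq_of_mul_eq_one_left (S.N_sq hsN)]
    calc a * t = a * (t * s * s) := by rw [mul_assoc t, S.N_sq hsN, mul_one]
      _ = a * (a * s * a * s) := by rw [has]
      _ = s * a * s := by simp only [mul_assoc]; rw [← mul_assoc a a, haa, one_mul]
  rw [this]
  exact S.inv' s a ha

theorem commutator_mem {q : G} (hq : q ∈ Cfsg.pCore 2 G) (g : G) : q * g * q⁻¹ * g⁻¹ ∈ S.N := by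
  have hg : g ∈ Subgroup.closure S.D := by rw [S.hD.2.2]; exact Subgroup.mem_top g
  induction hg using Subgroup.closure_induction with
  | mem d hd =>
    rw [FischerSpace.inv_eq S.set' hd]
    refine S.pair_mem (S.inv' q d hd) hd ?_
    rw [map_mul, map_mul, map_inv, S.π_eq_one.2 hq, one_mul, inv_one, mul_one]
  | one => simp
  | mul x y _ _ ihx ihy =>
    have := mul_mem ihx ((S.N_normal).conj_mem _ ihy x)
    convert this using 1; group
  | inv x _ ih =>
    have := inv_mem ((S.N_normal).conj_mem _ ih x⁻¹)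
    convert this using 1; group

theorem centralizer_N_le : Subgroup.centralizer (S.N : Set G) ≤ Cfsg.pCore 2 G := by
  haveI : Fact (Nat.Prime 2) := ⟨Nat.prime_two⟩
  refine Thompson.le_pCore inferInstance ?_
  intro g
  obtain ⟨a, r, hr, hmr⟩ := Nat.exists_eq_two_pow_mul_odd (orderOf_pos g).ne'
  refine ⟨a, Subtype.ext ?_⟩
  set c := (g : G) ^ 2 ^ a with hcdef
  show c = 1
  have hodd : c ^ r = 1 := by
    rw [hcdef, ← pow_mul, ← hmr, ← SubmonoidClass.coe_pow, pow_orderOf_eq_one, OneMemClass.coe_one]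
  have hcN : ∀ v ∈ S.N, c * v = v * c := fun v hv =>
    ((Subgroup.mem_centralizer_iff.1 (pow_mem g.2 (2 ^ a)) v hv)).symm
  have hcQ : ∀ q ∈ Cfsg.pCore 2 G, q * c = c * q := by
    intro q hq
    obtain ⟨v, hv⟩ : ∃ v, v = q * c * q⁻¹ * c⁻¹ := ⟨_, rfl⟩
    have hvN : v ∈ S.N := hv ▸ S.commutator_mem hq c
    have hpow : ∀ k : ℕ, q * c ^ k * q⁻¹ = v ^ k * c ^ k := fun k => by
      induction k with
      | zero => simp
      | succ k ih =>
        calc q * c ^ (k + 1) * q⁻¹ = (q * c ^ k * q⁻¹) * (q * c * q⁻¹) := by rw [pow_succ]; group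
          _ = v ^ k * (c ^ k * v) * c := by rw [ih, hv]; group
          _ = v ^ k * (v * c ^ k) * c := by rw [((show Commute c v from hcN v hvN).pow_left k).eq]
          _ = v ^ (k + 1) * c ^ (k + 1) := by rw [pow_succ, pow_succ]; simp only [mul_assoc]
    have h1 := hpow r
    rw [hodd, mul_one, mul_inv_cancel, mul_one] at h1
    obtain ⟨k, rfl⟩ := hr
    rw [pow_succ, pow_mul, pow_two, S.N_sq hvN, one_pow, one_mul] at h1
    rw [hv] at h1
    exact (mul_inv_eq_iff_eq_mul.1 (mul_inv_eq_one.1 h1.symm))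
  have hQc : c ∈ Cfsg.pCore 2 G := S.hFit ▸ Components.centralizer_generalizedFitting_le
    (by rw [S.hFit]; exact Subgroup.mem_centralizer_iff.2 fun q hq => hcQ q hq)
  obtain ⟨i, hi⟩ := FischerSpace.order_dvd_of_mem_pCore hQc
  exact FischerSpace.eq_one_of_pow hodd hi (Nat.coprime_two_right.2 hr)

noncomputable instance N_commGroup : CommGroup S.N :=
  { (inferInstance : Group S.N) with mul_comm := fun a b => Subtype.ext (S.N_comm a.2 b.2).eq }

/-- The action on the module. -/
noncomputable def act : G →* MulAut S.N := MulAut.conjNormal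

/-- The acting group. -/
noncomputable abbrev X : Subgroup (MulAut S.N) := S.act.range

/-- Projection onto the acting group. -/
noncomputable def toX : G →* S.X := S.act.rangeRestrict

theorem toX_val (g : G) (v : S.N) : ((S.X.subtype (S.toX g) v : S.N) : G) = g * v * g⁻¹ :=
  MulAut.conjNormal_apply g v

theorem toX_π {g h : G} (e : S.toX g = S.toX h) : S.π g = S.π h := by
  have h1 : S.toX (g⁻¹ * h) = 1 := by rw [map_mul, map_inv, e, inv_mul_cancel]
  have h2 : g⁻¹ * h ∈ Cfsg.pCore 2 G := S.centralizer_N_le (Subgroup.mem_centralizer_iff.2 fun v hv => by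
    have h3 := congrArg Subtype.val (DFunLike.congr_fun (congrArg S.X.subtype h1) ⟨v, hv⟩)
    rw [S.toX_val, map_one, MulAut.one_apply] at h3
    exact (mul_inv_eq_iff_eq_mul.1 h3).symm)
  rw [← S.π_eq_one, map_mul, map_inv, inv_mul_eq_one] at h2
  exact h2

theorem toX_eq {d e : G} (hd : d ∈ S.D) (he : e ∈ S.D) (h : S.π d = S.π e) : S.toX d = S.toX e := by
  have hN := S.pair_mem hd he h
  have h1 : S.toX (d * e) = 1 := Subtype.ext (MulEquiv.ext fun v => Subtype.ext (by
    show ((S.X.subtype (S.toX (d * e)) v : S.N) : G) = v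
    rw [S.toX_val, (S.N_comm hN v.2).eq, mul_inv_cancel_right]))
  rw [map_mul] at h1
  rw [eq_inv_of_mul_eq_one_left h1, ← map_inv, FischerSpace.inv_eq S.set' he]

theorem toX_commute {d e : G} (hd : d ∈ S.D) (he : e ∈ S.D) :
    Commute (S.toX d) (S.toX e) ↔ Commute d e := by
  refine ⟨fun h => (S.commute_iff hd he).1 ?_, fun h => h.map S.toX⟩
  show S.π d * S.π e = S.π e * S.π d
  rw [← map_mul, ← map_mul]
  exact S.toX_π (by rw [map_mul, map_mul]; exact h.eq)

theorem exists_pt : ∃ pt : (Fin n → F) → S.X,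
    ∀ d ∈ S.D, ∀ (u : Fin n → F) (hu : Iso u), S.π d = tr1 S.hF u hu.2 → S.toX d = pt u := by
  classical
  refine ⟨fun u => if hu : Iso u then S.toX (S.exists_lift hu).choose else 1, fun d hd u hu h => ?_⟩
  simp only [dif_pos hu]
  obtain ⟨h1, h2⟩ := (S.exists_lift hu).choose_spec
  exact S.toX_eq hd h1 (h.trans h2.symm)

/-- The point of the acting group belonging to a vector. -/
noncomputable def pt : (Fin n → F) → S.X := S.exists_pt.choose

theorem toX_pt {d : G} (hd : d ∈ S.D) {u : Fin n → F} (hu : Iso u) (h : S.π d = tr1 S.hF u hu.2) :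
    S.toX d = S.pt u := S.exists_pt.choose_spec d hd u hu h

/-- Equivariance. -/
theorem toX_conj (g : G) {u : Fin n → F} (hu : Iso u) :
    S.toX g * S.pt u * (S.toX g)⁻¹ = S.pt (S.π g • u) := by
  obtain ⟨d, hd, h⟩ := S.exists_lift hu
  rw [← S.toX_pt hd hu h, ← map_inv, ← map_mul, ← map_mul]
  refine S.toX_pt (S.inv' g d hd) (iso_smul_SU S.hF _ hu) ?_
  rw [map_mul, map_mul, map_inv, h, S.conj_tr1 _ hu]

open TwoModule in
theorem mod : Mod S.X.subtype (S.pt '' {u | Iso u}) := by
  have himg : S.pt '' {u | Iso u} = S.toX '' S.D := by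
    ext x
    constructor
    · rintro ⟨u, hu, rfl⟩
      obtain ⟨d, hd, h⟩ := S.exists_lift hu
      exact ⟨d, hd, S.toX_pt hd hu h⟩
    · rintro ⟨d, hd, rfl⟩
      obtain ⟨u, hu, h⟩ := S.cls hd
      exact ⟨u, hu, (S.toX_pt hd hu h).symm⟩
  rw [himg]
  refine ⟨FischerSpace.set_image S.set' S.toX fun e he h => S.π_ne_one he ?_, ?_, ?_,
    Subtype.val_injective, fun v => Subtype.ext (S.N_sq v.2), ?_, ?_, ?_⟩
  · have := S.toX_π (h.trans (map_one S.toX).symm)
    rwa [map_one] at this
  · rintro g _ ⟨e, he, rfl⟩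
    obtain ⟨g, rfl⟩ := S.act.rangeRestrict_surjective g
    refine ⟨g * e * g⁻¹, S.inv' g e he, ?_⟩
    rw [map_mul, map_mul, map_inv]; rfl
  · rw [← MonoidHom.map_closure, S.hD.2.2,
      Subgroup.map_top_of_surjective S.toX S.act.rangeRestrict_surjective]
  · rintro _ ⟨d, hd, rfl⟩ _ ⟨f, hf, rfl⟩ hc v
    have hdf := (S.toX_commute hd hf).1 hc
    set d' := (v : G) * d * (v : G)⁻¹ with hd'
    have hd'D : d' ∈ S.D := S.inv' _ d hd
    have hπd' : S.π d' = S.π d := by
      rw [hd', map_mul, map_mul, map_inv, S.π_eq_one.2 (S.N_le v.2)]; simp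
    have hval : ((A S.X.subtype (S.toX d) v : S.N) : G) = d * d' := by
      rw [A_apply, Subgroup.coe_mul, S.toX_val, hd', FischerSpace.inv_eq S.set' hd,
        inv_eq_of_mul_eq_one_left (S.N_sq v.2)]
      have hdv : d * v * d ∈ S.N := by
        have := (S.N_normal).conj_mem _ v.2 d
        rwa [FischerSpace.inv_eq S.set' hd] at this
      rw [(S.N_comm hdv v.2).eq]
      have e2 : (v : G) * (d * v * d) = v * d * v * d := by simp only [mul_assoc]
      rw [e2]
      have hcm : Commute ((v : G) * d * v) d := by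
        have := S.commute_same hd'D hd hπd'
        rwa [hd', inv_eq_of_mul_eq_one_left (S.N_sq v.2)] at this
      exact hcm.eq
    refine Subtype.ext ?_
    rw [S.toX_val, hval]
    have h2 : Commute (d * d') f := hdf.mul_left ((S.commute_iff hd'D hf).1 (hπd' ▸ hdf.map S.π))
    rw [← h2.eq, mul_inv_cancel_right]
  · rintro _ ⟨d, hd, rfl⟩ _ ⟨f, hf, rfl⟩ hnc v hv
    have hdf : ¬ Commute d f := fun h => hnc ((S.toX_commute hd hf).2 h)
    have hvx : Commute (v : G) (d * f) := by
      have h := congrArg Subtype.val hv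
      rw [← map_mul, S.toX_val] at h
      exact (mul_inv_eq_iff_eq_mul.1 h).symm
    have dd := FischerSpace.mul_self S.set' hd
    have hxd : d * (d * f) * d = (d * f)⁻¹ := by
      rw [mul_inv_rev, FischerSpace.inv_eq S.set' hd, FischerSpace.inv_eq S.set' hf, ← mul_assoc, dd,
        one_mul]
    have hdvd : Commute (d * v * d) (d * f) := by
      have h := ((SemiconjBy.conj_mk (d * f)⁻¹ d).eq)
      show d * (v : G) * d * (d * f) = d * f * (d * v * d)
      calc d * (v : G) * d * (d * f) = d * v * (d * (d * f) * d) * d := by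
            simp only [mul_assoc]; rw [dd, mul_one]
        _ = d * ((v : G) * (d * f)⁻¹) * d := by rw [hxd]; simp only [mul_assoc]
        _ = d * ((d * f)⁻¹ * v) * d := by rw [hvx.inv_right.eq]
        _ = d * (d * (d * f) * d * v) * d := by rw [hxd]
        _ = d * f * (d * v * d) := by simp only [mul_assoc]; rw [← mul_assoc d d, dd, one_mul]
    obtain ⟨t, ht⟩ : ∃ t : G, t = d * v * d * v := ⟨_, rfl⟩
    have hdvN : d * v * d ∈ S.N := by
      have := (S.N_normal).conj_mem _ v.2 d
      rwa [FischerSpace.inv_eq S.set' hd] at this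
    have htN : t ∈ S.N := ht ▸ mul_mem hdvN v.2
    have hD' : t * d ∈ S.D := by
      have := S.inv' v d hd
      rw [inv_eq_of_mul_eq_one_left (S.N_sq v.2)] at this
      rw [ht, (S.N_comm hdvN v.2).eq]
      simpa only [mul_assoc, dd, mul_one] using this
    have hnc' : ¬ Commute (t * d) f := fun h => hdf ((S.commute_iff hd hf).1 (by
      have h' := h.map S.π
      rwa [map_mul, S.π_eq_one.2 (S.N_le htN), one_mul] at h'))
    have h3 := FischerSpace.cube_eq_one S.set' hD' hf hnc'
    rw [mul_assoc, (ht ▸ hdvd.mul_left hvx : Commute t (d * f)).mul_pow,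
      FischerSpace.cube_eq_one S.set' hd hf hdf, mul_one, pow_succ, pow_two, S.N_sq htN, one_mul, ht,
      ] at h3
    refine Subtype.ext ?_
    rw [S.toX_val, FischerSpace.inv_eq S.set' hd]
    rw [eq_inv_of_mul_eq_one_left h3, inv_eq_of_mul_eq_one_left (S.N_sq v.2)]
  · rintro _ ⟨d, hd, rfl⟩ _ ⟨f, hf, rfl⟩ hne
    by_contra hall
    push Not at hall
    refine hne (S.toX_eq hd hf ?_)
    have hv : FischerSpace.VRel S.D d f := ⟨hf, fun e he => by
      have h := hall (S.toX e) ⟨e, he, rfl⟩
      rw [S.toX_commute hd he, S.toX_commute hf he] at h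
      exact h.symm⟩
    have h1 := S.π_eq_one.2 (FischerSpace.vRel_mul_mem_pCore S.set' S.inv' hd hv)
    rw [map_mul] at h1
    rw [eq_inv_of_mul_eq_one_left h1, ← map_inv, FischerSpace.inv_eq S.set' hf]

theorem fix_one (v : S.N) (h : ∀ u : Fin n → F, Iso u → S.X.subtype (S.pt u) v = v) : v = 1 := by
  have hle : Subgroup.closure S.D ≤ Subgroup.centralizer {(v : G)} :=
    (Subgroup.closure_le _).2 fun d hd => by
      obtain ⟨u, hu, hdu⟩ := S.cls hd
      have h1 := congrArg Subtype.val (h u hu)
      rw [← S.toX_pt hd hu hdu, S.toX_val] at h1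
      exact Subgroup.mem_centralizer_singleton_iff.2 (mul_inv_eq_iff_eq_mul.1 h1)
  have : (v : G) ∈ Subgroup.center G := Subgroup.mem_center_iff.2 fun g =>
    Subgroup.mem_centralizer_singleton_iff.1 (hle (by rw [S.hD.2.2]; exact Subgroup.mem_top g))
  rw [S.hZ, Subgroup.mem_bot] at this
  exact Subtype.ext this

theorem rep : Rep S.X.subtype S.pt where
  hF := S.hF
  mod := S.mod
  smul := fun u hu a ha => by
    obtain ⟨d, hd, h⟩ := S.exists_lift hu
    rw [← S.toX_pt hd hu h]
    refine (S.toX_pt hd (iso_smul S.hF hu ha) ?_).symm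
    rw [h]
    exact Unitary.eq_of_smul_eq_SU fun x => by
      rw [tr1_smul, tr1_smul, tvv_smul_center S.hF _ _ ha]
  conj := fun u v hu hv => by
    obtain ⟨d, hd, h⟩ := S.exists_lift hu
    have h1 := S.toX_conj d hv
    rw [S.toX_pt hd hu h, h, tr1_smul] at h1
    have h2 : (S.pt u)⁻¹ = S.pt u := by
      rw [← S.toX_pt hd hu h, ← map_inv, FischerSpace.inv_eq S.set' hd]
    rwa [h2] at h1
  comm := fun u v hu hv => by
    obtain ⟨d, hd, h⟩ := S.exists_lift hu
    obtain ⟨e, he, h'⟩ := S.exists_lift hv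
    rw [← S.toX_pt hd hu h, ← S.toX_pt he hv h', S.toX_commute hd he, S.commute_vec hd he hu hv h h']
  fix_one := S.fix_one

end Setup

end Cfsg.Agent.Sporadic96.TwoRad
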