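import Cfsg.Agent.Sporadic96.TwoRad.Span

/-!
# Coordinates: the module is `W^n` for a vector space `W` over the field of four elements
-/

set_option autoImplicit false

namespace Cfsg.Agent.Sporadic96.TwoRad

open Cfsg.Agent Cfsg.Agent.Sporadic96.TwoModule

variable {F : Type*} [Field F] [Fintype F] {n : ℕ}
variable {X V : Type*} [Group X] [CommGroup V]

namespace Frame

variable {ρ : X →* MulAut V} {pt : (Fin n → F) → X} {ω : F} (H : Frame ρ pt ω)

include H

/-- The first index. -/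
def o : Fin n := ⟨0, by have := H.hn; omega⟩

theorem conj_swap {i j k l : Fin n} (hij : i ≠ j) (hkl : k ≠ l) :
    pt (pv i j 1) * xe pt ω k l * pt (pv i j 1) =
      xe pt ω (Equiv.swap i j k) (Equiv.swap i j l) := by
  have hcomp : ∀ (s t : Fin n) (c : F),
      pv s t c ∘ ⇑(Equiv.swap i j) = pv (Equiv.swap i j s) (Equiv.swap i j t) c := fun s t c => by
    funext m
    simp only [Function.comp_apply, pv_apply, ← Equiv.symm_apply_eq, Equiv.symm_swap]
  have hd := H.iso i j hij one_ne_zero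
  calc pt (pv i j 1) * xe pt ω k l * pt (pv i j 1)
      = (pt (pv i j 1) * pt (pv k l 1) * pt (pv i j 1)) *
          (pt (pv i j 1) * pt (pv k l ω) * pt (pv i j 1)) := by
        simp only [xe, mul_assoc]; rw [← mul_assoc (pt (pv i j 1)) (pt (pv i j 1)), H.sq_pt hd, one_mul]
    _ = xe pt ω (Equiv.swap i j k) (Equiv.swap i j l) := by
        rw [H.rep.conj _ _ hd (H.iso k l hkl one_ne_zero), H.rep.conj _ _ hd (H.iso k l hkl H.ω0),
          tvv_swap H.hF hij, tvv_swap H.hF hij, hcomp, hcomp]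
        rfl

theorem swap_wgt {i j m : Fin n} (hij : i ≠ j) {v : V} (hv : v ∈ Wgt ρ pt ω m) :
    ρ (pt (pv i j 1)) v ∈ Wgt ρ pt ω (Equiv.swap i j m) := by
  intro k l hk hl hkl
  set σ := Equiv.swap i j with hσ
  have hk' : σ k ≠ m := fun e => hk (by rw [← e, hσ, Equiv.swap_apply_self])
  have hl' : σ l ≠ m := fun e => hl (by rw [← e, hσ, Equiv.swap_apply_self])
  have hkl' : σ k ≠ σ l := fun e => hkl (σ.injective e)
  have := H.conj_swap hij hkl'
  rw [← hσ, hσ, Equiv.swap_apply_self, Equiv.swap_apply_self, ← hσ] at this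
  rw [act_act, ← this]
  conv_lhs => rw [mul_assoc _ (pt (pv i j 1)), H.sq_pt (H.iso i j hij one_ne_zero), mul_one]
  rw [← act_act, hv _ _ hk' hl' hkl']

theorem xe_wgt {i j m : Fin n} (hij : i ≠ j) {v : V} (hv : v ∈ Wgt ρ pt ω m) :
    ρ (xe pt ω i j) v ∈ Wgt ρ pt ω m := fun k l hk hl hkl => by
  rw [H.fix_xe_of_commute (H.xe_commute hij hkl) (hv k l hk hl hkl)]

theorem xe_indep {i j k : Fin n} (hij : i ≠ j) (hik : i ≠ k) {v : V} (hv : v ∈ Wgt ρ pt ω i) :
    ρ (xe pt ω i j) v = ρ (xe pt ω i k) v := by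
  by_cases hjk : j = k
  · rw [hjk]
  rw [← H.cocycle hij hjk hik, ← act_act, hv j k hij.symm hik.symm hjk]

theorem tr_wgt (hodd : Odd n) {i j : Fin n} (hij : i ≠ j) {v : V} (hv : v ∈ Wgt ρ pt ω i) :
    tr3 ρ (xe pt ω i j) v = 1 := by
  set T := tr3 ρ (xe pt ω i j) v with hT
  have hT1 : ∀ k l, k ≠ i → l ≠ i → k ≠ l → ρ (xe pt ω k l) T = T := fun k l hk hl hkl =>
    H.fix_tr3_of_commute (H.xe_commute hij hkl) (hv k l hk hl hkl)
  have hT2 : ∀ l, l ≠ i → ρ (xe pt ω i l) T = T := fun l hl => by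
    rw [H.xe_indep (Ne.symm hl) hij hT1]
    exact H.fix_tr3 (H.xe_cube hij) v
  refine H.fix_all hodd fun k l hkl => ?_
  by_cases hk : k = i
  · subst hk; exact hT2 l hkl.symm
  by_cases hl : l = i
  · subst hl
    rw [H.xe_symm (Ne.symm hkl)]
    conv_lhs => rw [← hT2 k hk, act_act, inv_mul_cancel, act_one]
  exact hT1 k l hk hl hkl

/-- The vector space `W`. -/
abbrev W : Type _ := Additive ↥(Wgt ρ pt ω H.o)

/-- The underlying element of `V`. -/
def val (w : H.W) : V := ((Additive.toMul w : ↥(Wgt ρ pt ω H.o)) : V)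

theorem val_add (w w' : H.W) : H.val (w + w') = H.val w * H.val w' := rfl

theorem val_zero : H.val 0 = 1 := rfl

theorem val_mem (w : H.W) : H.val w ∈ Wgt ρ pt ω H.o := (Additive.toMul w).2

theorem val_inj {w w' : H.W} (h : H.val w = H.val w') : w = w' :=
  Additive.toMul.injective (Subtype.ext h)

/-- Another index. -/
def o1 : Fin n := ⟨1, by have := H.hn; omega⟩

theorem o_ne : H.o ≠ H.o1 := fun e => absurd (congrArg Fin.val e) (by simp [o, o1])

/-- Multiplication by `ω`. -/
def J : H.W →+ H.W where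
  toFun w := Additive.ofMul ⟨ρ (xe pt ω H.o H.o1) (H.val w), H.xe_wgt H.o_ne (H.val_mem w)⟩
  map_zero' := H.val_inj (map_one _)
  map_add' w w' := H.val_inj (map_mul _ _ _)

theorem val_J (w : H.W) : H.val (H.J w) = ρ (xe pt ω H.o H.o1) (H.val w) := rfl

theorem char_two (w : H.W) : w + w = 0 := H.val_inj (by rw [val_add, val_zero, H.rep.mod.sq])

theorem J_sq (hodd : Odd n) (w : H.W) : H.J (H.J w) = H.J w + w := by
  refine H.val_inj ?_
  rw [val_add, val_J, val_J, act_act]
  have h := H.tr_wgt hodd H.o_ne (H.val_mem w)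
  rw [tr3, mul_eq_one_iff_eq_inv, H.rep.mod.inv_self] at h
  rw [← h, mul_comm]

theorem J_cube (hodd : Odd n) (w : H.W) : H.J (H.J (H.J w)) = w := by
  rw [H.J_sq hodd (H.J w), H.J_sq hodd, add_assoc, add_comm w, ← add_assoc, H.char_two, zero_add]

open Classical in
/-- The scalar action. -/
@[reducible] noncomputable def module (hodd : Odd n) : Module F H.W where
  smul a w := if a = 0 then 0 else if a = 1 then w else if a = ω then H.J w else H.J (H.J w)
  one_smul w := by
    show (if (1 : F) = 0 then (0 : H.W) else _) = w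
    simp
  mul_smul a b w := by
    obtain ⟨f, hf⟩ : ∃ f : F → H.W → H.W, f = fun a w =>
        if a = 0 then (0 : H.W) else if a = 1 then w else if a = ω then H.J w else H.J (H.J w) :=
      ⟨_, rfl⟩
    suffices f (a * b) w = f a (f b w) by rw [hf] at this; exact this
    have h10 : ω ^ 2 ≠ 0 := pow_ne_zero _ H.ω0
    have h11 : ω ^ 2 ≠ 1 := fun e => H.ω0 (by linear_combination e - H.ω2)
    have h12 : ω ^ 2 ≠ ω := fun e => one_ne_zero (α := F) (by linear_combination e - H.ω2)
    have hωω : ω * ω = ω ^ 2 := (pow_two ω).symm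
    have hω3 : ω * ω ^ 2 = 1 := norm_one H.hF H.ω0
    have hω3' : ω ^ 2 * ω = 1 := by rw [mul_comm, hω3]
    have hω4 : ω ^ 2 * ω ^ 2 = ω := by rw [← pow_two]; exact sq_sq H.hF ω
    rcases four H.hF H.ω0 H.ω1 a with rfl | rfl | rfl | rfl <;>
      rcases four H.hF H.ω0 H.ω1 b with rfl | rfl | rfl | rfl <;>
      simp [hf, hωω, hω3, hω3', hω4, h10, h11, h12, H.J_cube hodd, H.ω0, H.ω1]
  smul_zero a := by
    show (if a = 0 then (0 : H.W) else _) = 0
    split_ifs <;> simp
  smul_add a w w' := by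
    show (if a = 0 then (0 : H.W) else _) = (if a = 0 then (0 : H.W) else _) + (if a = 0 then (0 : H.W) else _)
    split_ifs <;> simp
  add_smul a b w := by
    show (if a + b = 0 then (0 : H.W) else _) =
      (if a = 0 then (0 : H.W) else _) + (if b = 0 then (0 : H.W) else _)
    have h10 : ω ^ 2 ≠ 0 := pow_ne_zero _ H.ω0
    have h11 : ω ^ 2 ≠ 1 := fun e => H.ω0 (by linear_combination e - H.ω2)
    have h12 : ω ^ 2 ≠ ω := fun e => one_ne_zero (α := F) (by linear_combination e - H.ω2)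
    have a00 : ∀ x : F, x + x = 0 := add_self H.hF
    have a1w : (1 : F) + ω = ω ^ 2 := by linear_combination -H.ω2
    have aw1 : ω + 1 = ω ^ 2 := H.ω2.symm
    have a12 : (1 : F) + ω ^ 2 = ω := by linear_combination H.ω2 + two_zero H.hF
    have a21 : ω ^ 2 + 1 = ω := by linear_combination H.ω2 + two_zero H.hF
    have aw2 : ω + ω ^ 2 = 1 := by linear_combination H.ω2 + ω * two_zero H.hF
    have a2w : ω ^ 2 + ω = 1 := by linear_combination H.ω2 + ω * two_zero H.hF
    have hs : ∀ w : H.W, w + H.J w = H.J (H.J w) := fun w => by rw [H.J_sq hodd, add_comm]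
    have hs1 : ∀ w : H.W, w + H.J (H.J w) = H.J w := fun w => by
      rw [← hs, ← add_assoc, H.char_two, zero_add]
    have hs2 : ∀ w : H.W, H.J w + H.J (H.J w) = w := fun w => by
      rw [← hs, add_comm w, ← add_assoc, H.char_two, zero_add]
    rcases four H.hF H.ω0 H.ω1 a with rfl | rfl | rfl | rfl <;>
      rcases four H.hF H.ω0 H.ω1 b with rfl | rfl | rfl | rfl <;>
      simp [H.J_cube hodd, a00, a1w, aw1, a12, a21, aw2, a2w, h10, h11, h12, H.ω0, H.ω1, H.char_two, hs, hs1, hs2,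
        add_comm (H.J w) w, add_comm (H.J (H.J w)) w, add_comm (H.J (H.J w)) (H.J w)]
  zero_smul w := by
    show (if (0 : F) = 0 then (0 : H.W) else _) = 0
    simp

open Classical in
theorem module_omega (hodd : Odd n) (w : H.W) : letI := H.module hodd; ω • w = H.J w := by
  show (if ω = 0 then (0 : H.W) else if ω = 1 then w else if ω = ω then H.J w else _) = H.J w
  rw [if_neg H.ω0, if_neg H.ω1, if_pos rfl]

/-- The element carrying the first weight space to the `i`-th. -/
def sw (i : Fin n) : X := if i = H.o then 1 else pt (pv H.o i 1)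

/-- The embedding of `W` as the `i`-th weight space. -/
def ι (i : Fin n) (w : H.W) : V := ρ (H.sw i) (H.val w)

theorem ι_add (i : Fin n) (w w' : H.W) : H.ι i (w + w') = H.ι i w * H.ι i w' := by
  rw [ι, val_add, map_mul]; rfl

theorem ι_zero (i : Fin n) : H.ι i 0 = 1 := by rw [ι, val_zero, map_one]

theorem ι_o (w : H.W) : H.ι H.o w = H.val w := by rw [ι, sw, if_pos rfl, act_one]

theorem ι_mem (i : Fin n) (w : H.W) : H.ι i w ∈ Wgt ρ pt ω i := by
  by_cases hi : i = H.o
  · rw [hi, ι_o]; exact H.val_mem w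
  · rw [ι, sw, if_neg hi]
    have := H.swap_wgt (Ne.symm hi) (H.val_mem w)
    rwa [Equiv.swap_apply_left] at this

theorem ι_inj (i : Fin n) {w w' : H.W} (h : H.ι i w = H.ι i w') : w = w' :=
  H.val_inj ((ρ (H.sw i)).injective h)

theorem ι_surj (i : Fin n) {v : V} (hv : v ∈ Wgt ρ pt ω i) : ∃ w, H.ι i w = v := by
  by_cases hi : i = H.o
  · subst hi; exact ⟨Additive.ofMul ⟨v, hv⟩, H.ι_o _⟩
  · have h := H.swap_wgt (Ne.symm hi) hv
    rw [Equiv.swap_apply_right] at h
    refine ⟨Additive.ofMul ⟨_, h⟩, ?_⟩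
    rw [ι, sw, if_neg hi]
    show ρ (pt (pv H.o i 1)) (ρ (pt (pv H.o i 1)) v) = v
    rw [act_act, H.sq_pt (H.iso _ _ (Ne.symm hi) one_ne_zero), act_one]

theorem swap_ι {i j : Fin n} (hij : i ≠ j) (k : Fin n) (w : H.W) :
    ρ (pt (pv i j 1)) (H.ι k w) = H.ι (Equiv.swap i j k) w := by
  have h1 := H.iso i j hij (one_ne_zero (α := F))
  have hmove : ∀ i j : Fin n, i ≠ j → ρ (pt (pv i j 1)) (H.ι i w) = H.ι j w := by
    intro i j hij
    have hi1 := H.iso i j hij (one_ne_zero (α := F))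
    by_cases hi : i = H.o
    · subst hi
      rw [ι_o, ι, sw, if_neg hij.symm]
    by_cases hj : j = H.o
    · subst hj
      rw [ι_o, ι, sw, if_neg hi, H.pt_symm (Ne.symm hij) one_ne_zero, one_pow, act_act,
        H.sq_pt (H.iso _ _ (Ne.symm hij) one_ne_zero), act_one]
    have h2 := H.iso H.o i (Ne.symm hi) (one_ne_zero (α := F))
    have e : pt (pv i j 1) * pt (pv H.o i 1) = pt (pv H.o j 1) * pt (pv i j 1) := by
      rw [← mul_inv_eq_iff_eq_mul, H.conj_inv hi1 h2, tvv_swap H.hF hij]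
      congr 1
      funext m
      simp only [Function.comp_apply, pv_apply, Equiv.swap_apply_def]
      split_ifs <;> simp_all
    rw [ι, ι, sw, sw, if_neg hi, if_neg hj, act_act, e, ← act_act,
      H.wgt_fix_pts (H.val_mem w) hi hj hij one_ne_zero]
  by_cases hki : k = i
  · rw [hki, Equiv.swap_apply_left]; exact hmove i j hij
  by_cases hkj : k = j
  · rw [hkj, Equiv.swap_apply_right, H.pt_symm (Ne.symm hij) one_ne_zero, one_pow]
    exact hmove j i (Ne.symm hij)
  rw [Equiv.swap_apply_of_ne_of_ne hki hkj,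
    H.wgt_fix_pts (H.ι_mem k w) (Ne.symm hki) (Ne.symm hkj) hij one_ne_zero]

theorem xe_ι {i j : Fin n} (hij : i ≠ j) (w : H.W) :
    ρ (xe pt ω i j) (H.ι i w) = H.ι i (H.J w) := by
  have hbase : ∀ j, j ≠ H.o → ρ (xe pt ω H.o j) (H.val w) = H.val (H.J w) := fun j hj =>
    H.xe_indep (Ne.symm hj) H.o_ne (H.val_mem w)
  by_cases hi : i = H.o
  · subst hi; rw [ι_o, ι_o, hbase j hij.symm]
  have hs := H.conj_swap (Ne.symm hi) hij (ω := ω)
  rw [Equiv.swap_apply_right] at hs
  have hj' : Equiv.swap H.o i j ≠ H.o := fun e =>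
    hij.symm ((Equiv.swap H.o i).injective (e.trans (Equiv.swap_apply_right _ _).symm))
  rw [ι, ι, sw, if_neg hi, act_act, ← hbase _ hj', ← hs, act_act]
  congr 2
  simp only [← mul_assoc]
  rw [H.sq_pt (H.iso _ _ (Ne.symm hi) one_ne_zero), one_mul]

/-- The vector with the given coordinates. -/
def psi (c : Fin n → H.W) : V := ∏ i, H.ι i (c i)

theorem psi_add (c c' : Fin n → H.W) : H.psi (c + c') = H.psi c * H.psi c' := by
  simp only [psi, Pi.add_apply, ι_add, Finset.prod_mul_distrib]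

theorem psi_zero : H.psi 0 = 1 := Finset.prod_eq_one fun i _ => H.ι_zero i

theorem psi_single (i : Fin n) (w : H.W) : H.psi (Pi.single i w) = H.ι i w := by
  rw [psi, Finset.prod_eq_single i (fun j _ hj => by rw [Pi.single_eq_of_ne hj, ι_zero])
    (fun h => absurd (Finset.mem_univ i) h), Pi.single_eq_same]

theorem psi_surj (hodd : Odd n) (v : V) : ∃ c, H.psi c = v := by
  let S : Subgroup V :=
    { carrier := {v | ∃ c, H.psi c = v}
      one_mem' := ⟨0, H.psi_zero⟩
      mul_mem' := by rintro _ _ ⟨a, rfl⟩ ⟨b, rfl⟩; exact ⟨a + b, H.psi_add a b⟩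
      inv_mem' := by rintro x hx; rwa [H.rep.mod.inv_self] }
  have : (⊤ : Subgroup V) ≤ S := H.span hodd ▸ iSup_le fun i v hv => by
    obtain ⟨w, rfl⟩ := H.ι_surj i hv
    exact ⟨Pi.single i w, H.psi_single i w⟩
  exact this (Subgroup.mem_top v)

theorem psi_inj (hodd : Odd n) {c c' : Fin n → H.W} (h : H.psi c = H.psi c') : c = c' := by
  funext i
  obtain ⟨k, hk⟩ := exists_avoid ({i} : Finset (Fin n)) (by simpa using (by have := H.hn; omega : 1 < n))
  obtain ⟨l, hl⟩ := exists_avoid ({i, k} : Finset (Fin n))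
    (Nat.lt_of_le_of_lt Finset.card_le_two (by have := H.hn; omega))
  simp only [Finset.mem_insert, Finset.mem_singleton, not_or] at hk hl
  obtain ⟨hli, hlk⟩ := hl
  let P : V →* V := (EE ρ (xe pt ω i l)).comp (EE ρ (xe pt ω i k))
  have hfix : ∀ (m a : Fin n) (w : H.W), m ≠ i → m ≠ a → i ≠ a →
      EE ρ (xe pt ω i a) (H.ι m w) = 1 := by
    intro m a w hmi hma hia
    have h1 := H.ι_mem m w i a (Ne.symm hmi) (Ne.symm hma) hia
    rw [EE_apply, ← act_act, h1, h1, H.rep.mod.sq]
  have hid : ∀ (a : Fin n), i ≠ a → ∀ v ∈ Wgt ρ pt ω i, EE ρ (xe pt ω i a) v = v := by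
    intro a hia v hv
    have h1 := H.tr_wgt hodd hia hv
    rw [tr3, mul_assoc, mul_eq_one_iff_eq_inv, H.rep.mod.inv_self] at h1
    rw [EE_apply]; exact h1.symm
  have hP : ∀ (m : Fin n) (w : H.W), P (H.ι m w) = if m = i then H.ι m w else 1 := by
    intro m w
    show EE ρ (xe pt ω i l) (EE ρ (xe pt ω i k) (H.ι m w)) = _
    split_ifs with hm
    · subst hm
      rw [hid k (Ne.symm hk) _ (H.ι_mem _ w), hid l (Ne.symm hli) _ (H.ι_mem _ w)]
    · by_cases hmk : m = k
      · subst hmk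
        have hcm : ∀ g h : X, Commute g h → ∀ v, EE ρ g (EE ρ h v) = EE ρ h (EE ρ g v) := by
          intro g h hc v
          simp only [EE_apply, map_mul (ρ g), map_mul (ρ h), map_mul (ρ (g * g)), map_mul (ρ (h * h)),
            act_act]
          rw [hc.eq, (hc.mul_right hc).eq, (hc.mul_left hc).eq,
            ((hc.mul_left hc).mul_right (hc.mul_left hc)).eq]
          ac_rfl
        rw [hcm _ _ (H.xe_commute (Ne.symm hli) (Ne.symm hk)), hfix _ l w hm (Ne.symm hlk) (Ne.symm hli),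
          map_one]
      · rw [hfix m k w hm hmk (Ne.symm hk), map_one]
  have hval : ∀ c : Fin n → H.W, P (H.psi c) = H.ι i (c i) := fun c => by
    rw [psi, map_prod, Finset.prod_eq_single i (fun m _ hm => by rw [hP, if_neg hm])
      (fun h => absurd (Finset.mem_univ i) h), hP, if_pos rfl]
  exact H.ι_inj i (by rw [← hval, ← hval, h])

end Frame

end Cfsg.Agent.Sporadic96.TwoRad
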