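import Cfsg.Agent.Sporadic96.TwoRad.Radical

/-!
# Geometry of `SU_5(2)` for the complement
-/

set_option autoImplicit false

namespace Cfsg.Agent.Sporadic96.TwoRad

open Cfsg.Agent

variable {F : Type*} [Field F] [Fintype F]

/-- A point with support of size two. -/
def S2 (w : Fin 5 → F) : Prop :=
  ∃ i j : Fin 5, ∃ a c : F, i ≠ j ∧ a ≠ 0 ∧ c ≠ 0 ∧ w = c • pv i j a

omit [Fintype F] in
theorem s2_of {w : Fin 5 → F} {i j : Fin 5} (hij : i ≠ j) (hi : w i ≠ 0) (hj : w j ≠ 0)
    (h : ∀ k, k ≠ i → k ≠ j → w k = 0) : S2 w := by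
  refine ⟨i, j, (w i)⁻¹ * w j, w i, hij, mul_ne_zero (inv_ne_zero hi) hj, hi, ?_⟩
  funext k
  rw [Pi.smul_apply, smul_eq_mul, pv_apply]
  by_cases hki : k = i
  · subst hki; simp [hij]
  by_cases hkj : k = j
  · subst hkj; simp [hki, hi]
  simp [hki, hkj, h k hki hkj]

variable (hF : Fintype.card F = 4)

include hF

theorem s2_iso {w : Fin 5 → F} (h : S2 w) : Iso w := by
  obtain ⟨i, j, a, c, hij, ha, hc, rfl⟩ := h
  exact iso_smul hF (iso_pv hF hij ha) hc

theorem shape {u : Fin 5 → F} (hu : Iso u) :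
    S2 u ∨ ∃ p, u p = 0 ∧ ∀ i, i ≠ p → u i ≠ 0 := by
  classical
  have hev := card_supp_even hF hu
  set S := Finset.univ.filter fun k => u k ≠ 0 with hS
  have hle : S.card ≤ 5 := by simpa using Finset.card_le_univ S
  have hpos : S.card ≠ 0 := fun h => hu.1 (funext fun k => by
    by_contra hk
    exact (Finset.notMem_empty k) (Finset.card_eq_zero.1 h ▸ (Finset.mem_filter.2 ⟨Finset.mem_univ k, hk⟩ : k ∈ S)))
  obtain ⟨t, ht⟩ := hev
  rcases (show S.card = 2 ∨ S.card = 4 by omega) with h | h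
  · obtain ⟨i, j, hij, he⟩ := Finset.card_eq_two.1 h
    have hm : ∀ k, u k ≠ 0 ↔ k = i ∨ k = j := fun k => by
      have : k ∈ S ↔ k = i ∨ k = j := by rw [he]; simp
      simpa [hS] using this
    exact Or.inl (s2_of hij ((hm i).2 (Or.inl rfl)) ((hm j).2 (Or.inr rfl)) fun k h1 h2 =>
      not_not.1 fun hk => by rcases (hm k).1 hk with e | e <;> contradiction)
  · have h1 : Sᶜ.card = 1 := by rw [Finset.card_compl, h, Fintype.card_fin]
    obtain ⟨p, hp⟩ := Finset.card_eq_one.1 h1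
    have hm : ∀ k, u k = 0 ↔ k = p := fun k => by
      have : k ∈ Sᶜ ↔ k = p := by rw [hp]; simp
      simpa [hS] using this
    exact Or.inr ⟨p, (hm p).2 rfl, fun i hi h => hi ((hm i).1 h)⟩

theorem exists_zero {u : Fin 5 → F} (hu : Iso u) : ∃ o, u o = 0 := by
  rcases shape hF hu with ⟨i, j, a, c, hij, -, -, rfl⟩ | ⟨p, hp, -⟩
  · obtain ⟨o, ho⟩ := exists_avoid ({i, j} : Finset (Fin 5))
      (Nat.lt_of_le_of_lt Finset.card_le_two (by norm_num))
    simp only [Finset.mem_insert, Finset.mem_singleton, not_or] at ho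
    exact ⟨o, by simp [pv_apply, ho.1, ho.2]⟩
  · exact ⟨p, hp⟩

theorem tvv_pv_zero {i j : Fin 5} (hij : i ≠ j) {a : F} (ha : a ≠ 0) {u : Fin 5 → F} :
    (u i = 0 → tvv (pv i j a) u j = 0) ∧ (u j = 0 → tvv (pv i j a) u i = 0) ∧
      ∀ k, k ≠ i → k ≠ j → u k = 0 → tvv (pv i j a) u k = 0 := by
  refine ⟨fun h => ?_, fun h => ?_, fun k hki hkj h => ?_⟩ <;>
    rw [tvv, Pi.add_apply, Pi.smul_apply, smul_eq_mul, herm_pv hF, pv_apply]
  · rw [if_neg hij.symm, if_pos rfl, h, zero_add, zero_add]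
    linear_combination u j * cube_one hF ha + u j * two_zero hF
  · rw [if_neg hij, if_pos rfl, h, mul_zero, add_zero, add_zero, mul_one]
    exact add_self hF _
  · rw [if_neg hki, if_neg hkj, h]; ring

theorem s2_tvv {u v : Fin 5 → F} (hu : S2 u) (hv : S2 v) : S2 (tvv u v) := by
  have hiso := iso_tvv hF (s2_iso hF hu).2 (s2_iso hF hv)
  obtain ⟨i, j, a, c, hij, ha, hc, rfl⟩ := hu
  rw [tvv_smul_center hF _ _ hc] at hiso ⊢
  obtain ⟨k, l, b, d, hkl, hb, hd, rfl⟩ := hv
  refine (shape hF hiso).resolve_right ?_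
  rintro ⟨p, -, hp⟩
  have hz : ∀ z : Fin 5, z ≠ k → z ≠ l → tvv (pv i j a) (d • pv k l b) (Equiv.swap i j z) = 0 := by
    intro z h1 h2
    have h0 : (d • pv k l b : Fin 5 → F) z = 0 := by simp [pv_apply, h1, h2]
    obtain ⟨e1, e2, e3⟩ := tvv_pv_zero hF hij ha (u := d • pv k l b)
    by_cases hzi : z = i
    · subst hzi; rw [Equiv.swap_apply_left]; exact e1 h0
    by_cases hzj : z = j
    · subst hzj; rw [Equiv.swap_apply_right]; exact e2 h0
    rw [Equiv.swap_apply_of_ne_of_ne hzi hzj]; exact e3 z hzi hzj h0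
  obtain ⟨z, hz1⟩ := exists_avoid ({k, l, Equiv.swap i j p} : Finset (Fin 5))
    (Nat.lt_of_le_of_lt Finset.card_le_three (by norm_num))
  simp only [Finset.mem_insert, Finset.mem_singleton, not_or] at hz1
  exact hp _ (fun e => hz1.2.2 (by rw [← e, Equiv.swap_apply_self])) (hz z hz1.1 hz1.2.1)

/-- Two points of weight four without common zero are moved to monomial points by a third point. -/
theorem witness {u v : Fin 5 → F} {p q : Fin 5} (hup : u p = 0) (hu : ∀ i, i ≠ p → u i ≠ 0)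
    (hvq : v q = 0) (hv : ∀ i, i ≠ q → v i ≠ 0) (hpq : p ≠ q) (h : Unitary.herm 2 v u ≠ 0) :
    ∃ x, Iso x ∧ S2 (tvv x u) ∧ S2 (tvv x v) := by
  classical
  have h2 := two_zero hF
  set T : Finset (Fin 5) := {p, q}ᶜ with hT
  have hT3 : T.card = 3 := by
    rw [hT, Finset.card_compl, Finset.card_pair hpq, Fintype.card_fin]
  have hmemT : ∀ i, i ∈ T ↔ i ≠ p ∧ i ≠ q := fun i => by simp [hT]
  set r : Fin 5 → F := fun i => v i * u i ^ 2 with hr
  have hherm : ∀ y z : Fin 5 → F, Unitary.herm 2 y z = ∑ i, y i * z i ^ 2 := fun y z => by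
    conv_lhs => arg 2; rw [Unitary.eq_sum_eI y]
    rw [Unitary.herm_sum_left]
    simp only [Unitary.herm_smul_left, Unitary.herm_eI_left]
  have hsum : Unitary.herm 2 v u = ∑ i ∈ T, r i := by
    rw [hherm]
    refine (Finset.sum_subset (Finset.subset_univ T) fun i _ hi => ?_).symm
    rcases eq_or_ne i p with rfl | hip
    · simp [hup]
    rcases eq_or_ne i q with rfl | hiq
    · simp [hvq]
    exact absurd ((hmemT i).2 ⟨hip, hiq⟩) hi
  obtain ⟨a, b, c, hab, hac, hbc, hT'⟩ := Finset.card_eq_three.1 hT3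
  obtain ⟨ω, hω0, hω1, hω⟩ := exists_omega hF
  -- two of the ratios agree
  obtain ⟨a, b, c, hab, hac, hbc, hT', hrab⟩ : ∃ a b c : Fin 5, a ≠ b ∧ a ≠ c ∧ b ≠ c ∧
      T = {a, b, c} ∧ r a = r b := by
    by_contra hcon
    push Not at hcon
    have e1 := hcon a b c hab hac hbc hT'
    have e2 := hcon a c b hac hab hbc.symm (by rw [hT']; ext i; simp; tauto)
    have e3 := hcon b c a hbc hab.symm hac.symm (by rw [hT']; ext i; simp; tauto)
    have hne : ∀ i ∈ T, r i ≠ 0 := fun i hi =>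
      mul_ne_zero (hv i ((hmemT i).1 hi).2) (pow_ne_zero _ (hu i ((hmemT i).1 hi).1))
    apply h
    rw [hsum, hT', Finset.sum_insert (by simp [hab, hac]), Finset.sum_pair hbc]
    have k1 := hne a (by simp [hT'])
    have k2 := hne b (by simp [hT'])
    have k3 := hne c (by simp [hT'])
    rcases four hF hω0 hω1 (r a) with g1 | g1 | g1 | g1 <;>
    rcases four hF hω0 hω1 (r b) with g2 | g2 | g2 | g2 <;>
    rcases four hF hω0 hω1 (r c) with g3 | g3 | g3 | g3 <;>
    rw [g1, g2] at e1 <;> rw [g1, g3] at e2 <;> rw [g2, g3] at e3 <;>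
    first
      | exact absurd rfl e1 | exact absurd rfl e2 | exact absurd rfl e3
      | exact absurd g1 k1 | exact absurd g2 k2 | exact absurd g3 k3
      | (rw [g1, g2, g3, hω]; linear_combination (ω + 1) * h2)
  have ha : a ≠ p ∧ a ≠ q := (hmemT a).1 (by simp [hT'])
  have hb : b ≠ p ∧ b ≠ q := (hmemT b).1 (by simp [hT'])
  have hc : c ≠ p ∧ c ≠ q := (hmemT c).1 (by simp [hT'])
  have hall : ∀ i, i ≠ p → i ≠ q → i = a ∨ i = b ∨ i = c := fun i h1 h2 => by
    have := (hmemT i).2 ⟨h1, h2⟩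
    simpa [hT'] using this
  set ρ := r a with hρ
  have hρ0 : ρ ≠ 0 := mul_ne_zero (hv a ha.2) (pow_ne_zero _ (hu a ha.1))
  have hρ3 := cube_one hF hρ0
  set x : Fin 5 → F := fun i => if i = c then 0 else if i = p then ρ ^ 2 * v p else u i with hx
  have xc : x c = 0 := by simp [hx]
  have xp : x p = ρ ^ 2 * v p := by simp [hx, Ne.symm hc.1]
  have xo : ∀ i, i ≠ c → i ≠ p → x i = u i := fun i h1 h2 => by simp [hx, h1, h2]
  have xne : ∀ i, i ≠ c → x i ≠ 0 := fun i hi => by
    rcases eq_or_ne i p with rfl | hip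
    · rw [xp]; exact mul_ne_zero (pow_ne_zero _ hρ0) (hv i hpq)
    · rw [xo i hi hip]; exact hu i hip
  have hxiso : Iso x := by
    refine ⟨fun e => xne a hac (congrFun e a), ?_⟩
    rw [herm_self_card hF]
    have : (Finset.univ.filter fun k => x k ≠ 0) = {c}ᶜ := by
      ext k
      by_cases hk : k = c
      · subst hk; simp [xc]
      · simp [hk, xne k hk]
    rw [this, Finset.card_compl, Finset.card_singleton, Fintype.card_fin]
    push_cast
    linear_combination 2 * h2
  have hfive : ∀ f : Fin 5 → F, (∑ i, f i) = f p + (f q + (f a + (f b + f c))) := fun f => by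
    have e : (Finset.univ : Finset (Fin 5)) = insert p (insert q ({a, b, c} : Finset (Fin 5))) := by
      ext i
      simp only [Finset.mem_univ, Finset.mem_insert, Finset.mem_singleton, true_iff]
      by_cases h1 : i = p
      · exact Or.inl h1
      by_cases h2 : i = q
      · exact Or.inr (Or.inl h2)
      exact Or.inr (Or.inr (hall i h1 h2))
    rw [e, Finset.sum_insert (by simp [hpq, ha.1.symm, hb.1.symm, hc.1.symm]),
      Finset.sum_insert (by simp [ha.2.symm, hb.2.symm, hc.2.symm]),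
      Finset.sum_insert (by simp [hab, hac]), Finset.sum_pair hbc]
  have hux : Unitary.herm 2 u x = 1 := by
    rw [hherm, hfive, hup, xc, xo q (Ne.symm hc.2) hpq.symm, xo a hac ha.1, xo b hbc hb.1,
      norm_one hF (hu q hpq.symm), norm_one hF (hu a ha.1), norm_one hF (hu b hb.1)]
    linear_combination h2
  have hvx : Unitary.herm 2 v x = ρ := by
    rw [hherm, hfive, hvq, xc, xp, xo a hac ha.1, xo b hbc hb.1]
    have e1 : v a * u a ^ 2 = ρ := rfl
    have e2 : v b * u b ^ 2 = ρ := hrab.symm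
    have e3 : v p * (ρ ^ 2 * v p) ^ 2 = ρ := by
      linear_combination ρ ^ 4 * cube_one hF (hv p hpq) + ρ * hρ3
    rw [e1, e2, e3]
    linear_combination ρ * h2
  have hrel : ∀ i, i ≠ p → r i = ρ → v i + ρ * u i = 0 := fun i hi e => by
    linear_combination v i * (norm_one hF (hu i hi)) + v i * h2 - u i * e
  refine ⟨x, hxiso, s2_of (i := c) (j := p) hc.1 ?_ ?_ fun i hic hip => ?_,
    s2_of (i := c) (j := q) hc.2 ?_ ?_ fun i hic hiq => ?_⟩
  all_goals simp only [tvv, hux, hvx, Pi.add_apply, Pi.smul_apply, smul_eq_mul, one_mul]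
  · rw [xc, add_zero]; exact hu c hc.1
  · rw [hup, zero_add]; exact xne p (Ne.symm hc.1)
  · rw [xo i hic hip]; exact add_self hF _
  · rw [xc, mul_zero, add_zero]; exact hv c hc.2
  · rw [hvq, zero_add]; exact mul_ne_zero hρ0 (xne q (Ne.symm hc.2))
  · rcases eq_or_ne i p with rfl | hip
    · rw [xp]; linear_combination v i * hρ3 + v i * h2
    · rw [xo i hic hip]
      refine hrel i hip ?_
      rcases hall i hip hiq with e | e | e
      · rw [e]
      · rw [e]; exact hrab.symm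
      · exact absurd e hic

end Cfsg.Agent.Sporadic96.TwoRad
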