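import Cfsg.Agent.Lib.Unitary.Generation
import Cfsg.Agent.Lib.Unitary.Transvection
import Cfsg.Agent.Lib.FischerSpace.Basic

/-!
# Transvections of `SU_n(2)`: elementary geometry
-/

set_option autoImplicit false

namespace Cfsg.Agent.Sporadic96.TwoRad

open Cfsg.Agent

variable {F : Type*} [Field F] [Fintype F] {n : ℕ}

/-- A non-zero isotropic vector. -/
def Iso (u : Fin n → F) : Prop := u ≠ 0 ∧ Unitary.herm 2 u u = 0

/-- The transvection with centre `u`, on vectors. -/
def tvv (u x : Fin n → F) : Fin n → F := x + Unitary.herm 2 x u • u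

variable (hF : Fintype.card F = 4)

include hF

theorem hF2 : Fintype.card F = 2 ^ 2 := hF

theorem two_zero : (2 : F) = 0 := by
  obtain ⟨p, k, hp, hk, hchar, hpk⟩ := Unitary.exists_prime_pow (hF2 hF)
  obtain rfl : p = 2 := (Nat.prime_dvd_prime_iff_eq hp Nat.prime_two).1 (hpk ▸ dvd_pow_self p hk.ne')
  haveI := hchar
  exact CharTwo.two_eq_zero

theorem add_self (a : F) : a + a = 0 := by linear_combination a * two_zero hF

theorem neg_eq (a : F) : -a = a := by linear_combination (-a) * two_zero hF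

theorem vadd_self (x : Fin n → F) : x + x = 0 := funext fun _ => add_self hF _

theorem eq_of_add_eq_zero {a b : F} (h : a + b = 0) : a = b := by
  linear_combination h - b * two_zero hF

theorem cube_one {a : F} (ha : a ≠ 0) : a ^ 3 = 1 := by
  have := FiniteField.pow_card_sub_one_eq_one a ha
  rwa [hF] at this

theorem sq_sq (a : F) : (a ^ 2) ^ 2 = a := Unitary.pow_q_pow_q (hF2 hF) a

theorem norm_one {a : F} (ha : a ≠ 0) : a * a ^ 2 = 1 := by rw [← pow_succ']; exact cube_one hF ha

theorem exists_omega : ∃ ω : F, ω ≠ 0 ∧ ω ≠ 1 ∧ ω ^ 2 = ω + 1 := by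
  classical
  obtain ⟨ω, hω0, hω1⟩ : ∃ ω : F, ω ≠ 0 ∧ ω ≠ 1 := by
    by_contra hcon
    push Not at hcon
    have : (Finset.univ : Finset F) ⊆ {0, 1} := fun x _ => by
      by_cases hx : x = 0
      · simp [hx]
      · simp [hcon x hx]
    have := Finset.card_le_card this
    rw [Finset.card_univ, hF] at this
    exact absurd (this.trans Finset.card_le_two) (by norm_num)
  refine ⟨ω, hω0, hω1, ?_⟩
  have h : (ω - 1) * (ω * ω + ω + 1) = 0 := by linear_combination cube_one hF hω0
  have h' := (mul_eq_zero.1 h).resolve_left (sub_ne_zero.2 hω1)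
  linear_combination h' - (ω + 1) * two_zero hF

theorem four {ω : F} (h0 : ω ≠ 0) (h1 : ω ≠ 1) (x : F) :
    x = 0 ∨ x = 1 ∨ x = ω ∨ x = ω ^ 2 := by
  classical
  by_contra h
  push Not at h
  obtain ⟨a, b, c, d⟩ := h
  have e : ω ^ 2 ≠ 0 ∧ ω ^ 2 ≠ 1 ∧ ω ^ 2 ≠ ω := by
    refine ⟨pow_ne_zero _ h0, fun e => h1 ?_, fun e => h1 ?_⟩
    · have := cube_one hF h0
      rw [pow_succ, e, one_mul] at this
      exact this
    · rw [pow_two] at e
      exact mul_left_cancel₀ h0 (e.trans (mul_one ω).symm)
  have hsub : ({x, 0, 1, ω, ω ^ 2} : Finset F) ⊆ Finset.univ := Finset.subset_univ _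
  have := Finset.card_le_card hsub
  rw [Finset.card_univ, hF, Finset.card_insert_of_notMem (by simp [a, b, c, d]),
    Finset.card_insert_of_notMem (by simp [h0.symm, e.1.symm]),
    Finset.card_insert_of_notMem (by simp [h1.symm, e.2.1.symm]),
    Finset.card_insert_of_notMem (by simp [e.2.2.symm]), Finset.card_singleton] at this
  omega

theorem trace_norm (x : Fin n → F) : Unitary.herm 2 x x = 0 ∨ Unitary.herm 2 x x = 1 := by
  have h := Unitary.herm_self_fixed (hF2 hF) x
  have : Unitary.herm 2 x x * (Unitary.herm 2 x x - 1) = 0 := by linear_combination h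
  exact (mul_eq_zero.1 this).imp id sub_eq_zero.1

theorem herm_right_add (x y z : Fin n → F) :
    Unitary.herm 2 x (y + z) = Unitary.herm 2 x y + Unitary.herm 2 x z :=
  Unitary.herm_add_right (hF2 hF) x y z

theorem herm_right_smul (a : F) (x y : Fin n → F) :
    Unitary.herm 2 x (a • y) = a ^ 2 * Unitary.herm 2 x y :=
  Unitary.herm_smul_right (hF2 hF) a x y

theorem herm_swap (x y : Fin n → F) : Unitary.herm 2 y x = Unitary.herm 2 x y ^ 2 :=
  Unitary.herm_swap (hF2 hF) x y

theorem iso_smul {u : Fin n → F} (hu : Iso u) {a : F} (ha : a ≠ 0) : Iso (a • u) := by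
  refine ⟨smul_ne_zero ha hu.1, ?_⟩
  rw [Unitary.herm_smul_left, herm_right_smul hF, hu.2, mul_zero, mul_zero]

omit hF in
theorem tvv_def (u x : Fin n → F) : tvv u x = x + Unitary.herm 2 x u • u := rfl

theorem tvv_smul_center (u x : Fin n → F) {a : F} (ha : a ≠ 0) : tvv (a • u) x = tvv u x := by
  rw [tvv, tvv, herm_right_smul hF, smul_smul]
  congr 2
  rw [mul_right_comm, ← pow_succ, cube_one hF ha, one_mul]

/-- The transvection in `SU`. -/
noncomputable def tr1 (u : Fin n → F) (hu : Unitary.herm 2 u u = 0) : Cfsg.SU n F 2 :=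
  Unitary.tv (hF2 hF) hu (c := 1) (by rw [one_pow]; exact add_self hF 1)

theorem tr1_smul (u : Fin n → F) (hu : Unitary.herm 2 u u = 0) (x : Fin n → F) :
    tr1 hF u hu • x = tvv u x := by
  rw [tr1, Unitary.tv_smul, one_mul]
  rfl

theorem smul_tvv (g : Cfsg.SU n F 2) (u x : Fin n → F) : g • tvv u x = tvv (g • u) (g • x) := by
  rw [tvv, tvv, smul_add, smul_comm g, Unitary.herm_smul_SU g x u]

theorem iso_smul_SU (g : Cfsg.SU n F 2) {u : Fin n → F} (hu : Iso u) : Iso (g • u) := by
  refine ⟨fun e => hu.1 ?_, (Unitary.herm_smul_SU g u u).trans hu.2⟩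
  rw [← inv_smul_smul g u, e, smul_zero]

theorem tvv_tvv {u : Fin n → F} (hu : Unitary.herm 2 u u = 0) (x : Fin n → F) :
    tvv u (tvv u x) = x := by
  rw [tvv, tvv, Unitary.herm_add_left, Unitary.herm_smul_left, hu, mul_zero, add_zero, add_assoc,
    vadd_self hF, add_zero]

theorem herm_tvv {u : Fin n → F} (hu : Unitary.herm 2 u u = 0) (x y : Fin n → F) :
    Unitary.herm 2 (tvv u x) (tvv u y) = Unitary.herm 2 x y := by
  rw [← tr1_smul hF u hu x, ← tr1_smul hF u hu y, Unitary.herm_smul_SU]

theorem iso_tvv {u : Fin n → F} (hu : Unitary.herm 2 u u = 0) {x : Fin n → F} (hx : Iso x) :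
    Iso (tvv u x) := by rw [← tr1_smul hF u hu]; exact iso_smul_SU hF _ hx

/-- Two transvections with the same action have the same centre up to a scalar. -/
theorem center_unique {u v : Fin n → F} (hu : u ≠ 0) (h : ∀ x, tvv u x = tvv v x) :
    ∃ a : F, u = a • v := by
  obtain ⟨x, hx⟩ : ∃ x, Unitary.herm 2 x u ≠ 0 := by
    by_contra hcon
    push Not at hcon
    exact hu (Unitary.eq_zero_of_herm (hF2 hF) fun y => by rw [herm_swap hF, hcon y]; simp)
  refine ⟨(Unitary.herm 2 x u)⁻¹ * Unitary.herm 2 x v, ?_⟩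
  have h' := h x
  rw [tvv, tvv, add_right_inj] at h'
  rw [mul_smul, ← h', smul_smul, inv_mul_cancel₀ hx, one_smul]

theorem exists_move (h3 : 3 ≤ n) {u u' : Fin n → F} (hu : Iso u) (hu' : Iso u') :
    ∃ g : Cfsg.SU n F 2, g • u = u' := by
  obtain ⟨t, -, ht⟩ := Unitary.exists_move (hF2 hF) (S := ∅) (by simpa using h3)
    (by simp [Unitary.supp_empty]) (by simp [Unitary.supp_empty]) hu.2 hu'.2 hu.1 hu'.1
  exact ⟨t, ht⟩

theorem closure_tr1 (h : ¬ (n = 3 ∧ (2 : ℕ) = 2)) :
    Subgroup.closure {g : Cfsg.SU n F 2 | ∃ u, Iso u ∧ ∀ x : Fin n → F, g • x = tvv u x} = ⊤ := by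
  rw [eq_top_iff, ← Unitary.closure_transvections (hF2 hF) h, Subgroup.closure_le]
  rintro g ⟨v, c, hv, hg⟩
  by_cases hv0 : v = 0
  · have : g = 1 := Unitary.eq_of_smul_eq_SU fun x => by
      show ((g : Matrix.SpecialLinearGroup (Fin n) F) : Matrix (Fin n) (Fin n) F).mulVec x = _
      rw [hg, Unitary.unitaryTransvection_mulVec (hF2 hF), hv0, smul_zero, add_zero, one_smul]
    rw [this]; exact one_mem _
  have hact : ∀ x : Fin n → F, g • x = x + (c * Unitary.herm 2 x v) • v := fun x => by
    show ((g : Matrix.SpecialLinearGroup (Fin n) F) : Matrix (Fin n) (Fin n) F).mulVec x = _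
    rw [hg, Unitary.unitaryTransvection_mulVec (hF2 hF)]
  have hc := Unitary.trace_zero_of_preserves (hF2 hF) hv0 hv (fun x y => by
    rw [← hg]; exact g.2 x y)
  rcases eq_or_ne c 0 with rfl | hc0
  · have : g = 1 := Unitary.eq_of_smul_eq_SU fun x => by
      rw [hact, zero_mul, zero_smul, add_zero, one_smul]
    rw [this]; exact one_mem _
  have hc1 : c = 1 := by
    have : c * (c - 1) = 0 := by linear_combination hc - c * two_zero hF
    exact sub_eq_zero.1 ((mul_eq_zero.1 this).resolve_left hc0)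
  exact Subgroup.subset_closure ⟨v, ⟨hv0, hv⟩, fun x => by rw [hact, hc1, one_mul]; rfl⟩

/-- An orthonormal family of fewer than `n` vectors extends. -/
theorem exists_orth_one {k : ℕ} (f : Fin k → Fin n → F) (hk : k < n)
    (hf : ∀ i j, Unitary.herm 2 (f i) (f j) = if i = j then 1 else 0) :
    ∃ z, Unitary.herm 2 z z = 1 ∧ ∀ i, Unitary.herm 2 z (f i) = 0 := by
  classical
  let P : (Fin n → F) → (Fin n → F) := fun x => x + ∑ i, Unitary.herm 2 x (f i) • f i
  have hP : ∀ x j, Unitary.herm 2 (P x) (f j) = 0 := by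
    intro x j
    simp only [P]
    rw [Unitary.herm_add_left, Unitary.herm_sum_left]
    simp only [Unitary.herm_smul_left, hf, mul_ite, mul_one, mul_zero, Finset.sum_ite_eq',
      Finset.mem_univ, if_true]
    exact add_self hF _
  have hPdef : ∀ x, P x = x + ∑ i, Unitary.herm 2 x (f i) • f i := fun x => rfl
  clear_value P
  by_contra hcon
  push Not at hcon
  have hzero : ∀ x, Unitary.herm 2 (P x) (P x) = 0 := fun x =>
    (trace_norm hF (P x)).resolve_right fun e => (hcon (P x) e).elim fun j hj => hj (hP x j)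
  obtain ⟨ω, hω0, hω1, hω⟩ := exists_omega hF
  have hall : ∀ y, (∀ i, Unitary.herm 2 y (f i) = 0) → Unitary.herm 2 y y = 0 := fun y hy =>
    (trace_norm hF y).resolve_right fun e => (hcon y e).elim fun j hj => hj (hy j)
  have hbil : ∀ x y, Unitary.herm 2 (P x) (P y) = 0 := by
    intro x y
    have e : ∀ a : F, a * Unitary.herm 2 (P x) (P y) + (a * Unitary.herm 2 (P x) (P y)) ^ 2 = 0 := by
      intro a
      have h := hall (a • P x + P y) (fun i => by
        rw [Unitary.herm_add_left, Unitary.herm_smul_left, hP, hP, mul_zero, add_zero])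
      rw [Unitary.herm_add_left, herm_right_add hF, herm_right_add hF, Unitary.herm_smul_left,
        Unitary.herm_smul_left, herm_right_smul hF, herm_right_smul hF, hzero, hzero,
        herm_swap hF (P x) (P y)] at h
      linear_combination h
    have e1 := e 1
    have e2 := e ω
    rw [one_mul] at e1
    rw [mul_pow, hω] at e2
    set h := Unitary.herm 2 (P x) (P y)
    have : h ^ 2 = 0 := by linear_combination e2 - ω * e1
    exact pow_eq_zero_iff (n := 2) (by norm_num) |>.1 this
  have hspan : ∀ x, x ∈ Submodule.span F (Set.range f) := by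
    intro x
    have h0 : P x = 0 := Unitary.eq_zero_of_herm (hF2 hF) fun y => by
      have hy : y = P y + ∑ i, Unitary.herm 2 y (f i) • f i := by
        rw [hPdef, add_assoc, vadd_self hF, add_zero]
      rw [hy, herm_right_add hF, hbil, zero_add]
      have hgen : ∀ s : Finset (Fin k), Unitary.herm 2 (P x) (∑ i ∈ s, Unitary.herm 2 y (f i) • f i) = 0 := by
        intro s
        induction s using Finset.induction_on with
        | empty => simp [Unitary.herm_zero_right (hF2 hF)]
        | insert a s ha ih =>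
          rw [Finset.sum_insert ha, herm_right_add hF, herm_right_smul hF, hP, ih, mul_zero, add_zero]
      exact hgen _
    have hx : x = ∑ i, Unitary.herm 2 x (f i) • f i := by
      have h1 : x + (x + ∑ i, Unitary.herm 2 x (f i) • f i) = x + 0 := by rw [← hPdef, h0]
      rw [← add_assoc, vadd_self hF, zero_add, add_zero] at h1
      exact h1.symm
    rw [hx]
    exact Submodule.sum_mem _ fun i _ => Submodule.smul_mem _ _ (Submodule.subset_span ⟨i, rfl⟩)
  have htop : Submodule.span F (Set.range f) = ⊤ := eq_top_iff.2 fun x _ => hspan x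
  have h1 := finrank_range_le_card (R := F) f
  rw [Set.finrank, htop, finrank_top, Module.finrank_pi, Fintype.card_fin, Fintype.card_fin] at h1
  omega

end Cfsg.Agent.Sporadic96.TwoRad
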