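import Cfsg.Agent.Sporadic96.TwoRad.Geom

/-!
# The points commuting with some point of a given line generate `SU_n(2)` for `n ≥ 5`
-/

set_option autoImplicit false

namespace Cfsg.Agent.Sporadic96.TwoRad

open Cfsg.Agent

variable {F : Type*} [Field F] [Fintype F] {n : ℕ} (hF : Fintype.card F = 4)

include hF

theorem good_mem_one (hn : 5 ≤ n) {u u' : Fin n → F} (hu : Iso u) (hu' : Iso u')
    (h1 : Unitary.herm 2 u u' = 1) {S : Subgroup (Cfsg.SU n F 2)}
    (hS : ∀ (w : Fin n → F) (hw : Iso w), (Unitary.herm 2 w u = 0 ∨ Unitary.herm 2 w u' = 0 ∨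
      Unitary.herm 2 w (u' + u) = 0) → tr1 hF w hw.2 ∈ S)
    (p : Fin n → F) (hp : Iso p) : tr1 hF p hp.2 ∈ S := by
  classical
  set α := Unitary.herm 2 p u' with hα
  set β := Unitary.herm 2 p u with hβ
  by_cases hβ0 : β = 0
  · exact hS p hp (Or.inl hβ0)
  by_cases hα0 : α = 0
  · exact hS p hp (Or.inr (Or.inl hα0))
  by_cases hαβ : α + β = 0
  · exact hS p hp (Or.inr (Or.inr (by rw [herm_right_add hF, ← hα, ← hβ, hαβ])))
  have hu'u : Unitary.herm 2 u' u = 1 := by rw [herm_swap hF u u', h1, one_pow]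
  obtain ⟨w, hw⟩ : ∃ w, w = p + α • u + β • u' := ⟨_, rfl⟩
  have hwu : Unitary.herm 2 w u = 0 := by
    rw [hw, Unitary.herm_add_left, Unitary.herm_add_left, Unitary.herm_smul_left,
      Unitary.herm_smul_left, hu.2, hu'u, ← hβ, mul_zero, add_zero, mul_one, add_self hF]
  have hwu' : Unitary.herm 2 w u' = 0 := by
    rw [hw, Unitary.herm_add_left, Unitary.herm_add_left, Unitary.herm_smul_left,
      Unitary.herm_smul_left, hu'.2, h1, ← hα, mul_zero, add_zero, mul_one, add_self hF]
  have hpw : Unitary.herm 2 w w = Unitary.herm 2 w p := by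
    conv_lhs => arg 3; rw [hw]
    rw [herm_right_add hF, herm_right_add hF, herm_right_smul hF, herm_right_smul hF, hwu, hwu']
    ring
  have hww : Unitary.herm 2 w w = 1 := by
    refine (trace_norm hF w).resolve_left fun e => ?_
    rw [hpw, hw, Unitary.herm_add_left, Unitary.herm_add_left, Unitary.herm_smul_left,
      Unitary.herm_smul_left, hp.2, herm_swap hF p u, herm_swap hF p u', ← hα, ← hβ] at e
    have : α * β * (α + β) = 0 := by linear_combination e
    rcases mul_eq_zero.1 this with h | h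
    · rcases mul_eq_zero.1 h with h | h
      · exact hα0 h
      · exact hβ0 h
    · exact hαβ h
  obtain ⟨ω, hω0, hω1, hω⟩ := exists_omega hF
  have h2 := two_zero hF
  let f : Fin 3 → Fin n → F := ![u + ω • u', u + (ω + 1) • u', w]
  have huw : Unitary.herm 2 u w = 0 := by rw [herm_swap hF w u, hwu]; ring
  have hu'w : Unitary.herm 2 u' w = 0 := by rw [herm_swap hF w u', hwu']; ring
  have hf : ∀ i j, Unitary.herm 2 (f i) (f j) = if i = j then 1 else 0 := by
    intro i j
    fin_cases i <;> fin_cases j <;>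
      simp only [f, Matrix.cons_val_zero, Matrix.cons_val_one, Matrix.head_cons, Matrix.cons_val,
        Fin.zero_eta, Fin.mk_one, Fin.reduceFinMk, Fin.reduceEq, if_true, if_false, reduceIte,
        Unitary.herm_add_left, herm_right_add hF, Unitary.herm_smul_left, herm_right_smul hF, hu.2,
        hu'.2, h1, hu'u, hwu, hwu', huw, hu'w, hww, mul_zero, add_zero, zero_add, mul_one] <;>
      (ring_nf; try simp only [hω]; try ring_nf; try linear_combination (0:F) * h2)
    all_goals first
      | linear_combination (ω + 1) * h2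
      | linear_combination ω * h2
      | linear_combination hω + (ω + 1) * h2
      | linear_combination hω + ω * h2
      | linear_combination -hω + (ω + 1) * h2
      | linear_combination -hω + (ω + 2) * h2
      | linear_combination hω + (ω - 1) * h2
      | linear_combination (2 * ω + 1) * h2
  obtain ⟨z, hzz, hzf⟩ := exists_orth_one hF f (by omega) hf
  have hz0 : Unitary.herm 2 z (u + ω • u') = 0 := hzf 0
  have hz1 : Unitary.herm 2 z (u + (ω + 1) • u') = 0 := hzf 1
  have hzw : Unitary.herm 2 z w = 0 := hzf 2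
  rw [herm_right_add hF, herm_right_smul hF] at hz0 hz1
  have hzu' : Unitary.herm 2 z u' = 0 := by
    linear_combination hz0 + hz1 - (Unitary.herm 2 z u + (ω ^ 2 + ω) * Unitary.herm 2 z u') * h2
  have hzu : Unitary.herm 2 z u = 0 := by rw [hzu', mul_zero, add_zero] at hz0; exact hz0
  have hwz : Unitary.herm 2 w z = 0 := by rw [herm_swap hF z w, hzw]; ring
  set c := α + β with hc
  obtain ⟨w', hw'⟩ : ∃ w', w' = c ^ 2 • (w + z) := ⟨_, rfl⟩
  have hww' : Unitary.herm 2 w w' = c := by
    rw [hw', herm_right_smul hF, herm_right_add hF, hww, hwz, add_zero, mul_one, sq_sq hF]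
  have hw'0 : Unitary.herm 2 w' w' = 0 := by
    rw [hw', Unitary.herm_smul_left, herm_right_smul hF, Unitary.herm_add_left, herm_right_add hF,
      herm_right_add hF, hww, hwz, hzw, hzz, add_zero, zero_add, add_self hF, mul_zero, mul_zero]
  have hw'u : Unitary.herm 2 w' u = 0 := by
    rw [hw', Unitary.herm_smul_left, Unitary.herm_add_left, hwu, hzu, add_zero, mul_zero]
  have hw'u' : Unitary.herm 2 w' u' = 0 := by
    rw [hw', Unitary.herm_smul_left, Unitary.herm_add_left, hwu', hzu', add_zero, mul_zero]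
  have huw'' : Unitary.herm 2 u w' = 0 := by rw [herm_swap hF w' u, hw'u]; ring
  have hu'w'' : Unitary.herm 2 u' w' = 0 := by rw [herm_swap hF w' u', hw'u']; ring
  obtain ⟨q, hq⟩ : ∃ q, q = u + w' := ⟨_, rfl⟩
  have hqu : Unitary.herm 2 q u = 0 := by rw [hq, Unitary.herm_add_left, hu.2, hw'u, add_zero]
  have hqu' : Unitary.herm 2 q u' = 1 := by rw [hq, Unitary.herm_add_left, h1, hw'u', add_zero]
  have hqiso : Iso q := by
    refine ⟨fun e => one_ne_zero (by rw [← hqu', e]; simp), ?_⟩
    rw [hq, Unitary.herm_add_left, herm_right_add hF, herm_right_add hF, hu.2, hw'0, huw'', hw'u]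
    ring
  have hpq : Unitary.herm 2 p q = α := by
    have hpw' : Unitary.herm 2 p w' = c := by
      rw [← hww', hw, Unitary.herm_add_left, Unitary.herm_add_left, Unitary.herm_smul_left,
        Unitary.herm_smul_left, huw'', hu'w'', mul_zero, mul_zero, add_zero, add_zero]
    rw [hq, herm_right_add hF, hpw', ← hβ, hc]
    linear_combination β * h2
  have hp'u' : Unitary.herm 2 (tvv q p) u' = 0 := by
    rw [tvv, hpq, Unitary.herm_add_left, Unitary.herm_smul_left, hqu', ← hα, mul_one, add_self hF]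
  have hp' := iso_tvv hF hqiso.2 hp
  have e : tr1 hF p hp.2 = tr1 hF q hqiso.2 * tr1 hF (tvv q p) hp'.2 * tr1 hF q hqiso.2 := by
    refine Unitary.eq_of_smul_eq_SU fun x => ?_
    simp only [mul_smul, tr1_smul hF]
    have hs := smul_tvv hF (tr1 hF q hqiso.2) (tvv q p) (tvv q x)
    simp only [tr1_smul hF] at hs
    rw [hs, tvv_tvv hF hqiso.2, tvv_tvv hF hqiso.2]
  rw [e]
  exact mul_mem (mul_mem (hS q hqiso (Or.inl hqu)) (hS _ hp' (Or.inr (Or.inl hp'u'))))
    (hS q hqiso (Or.inl hqu))

theorem good_gen (hn : 5 ≤ n) {u u' : Fin n → F} (hu : Iso u) (hu' : Iso u')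
    (h : Unitary.herm 2 u u' ≠ 0) {S : Subgroup (Cfsg.SU n F 2)}
    (hS : ∀ (w : Fin n → F) (hw : Iso w), (Unitary.herm 2 w u = 0 ∨ Unitary.herm 2 w u' = 0 ∨
      Unitary.herm 2 w (tvv u u') = 0) → tr1 hF w hw.2 ∈ S) : S = ⊤ := by
  rw [eq_top_iff, ← closure_tr1 hF (n := n) (by omega), Subgroup.closure_le]
  rintro g ⟨p, hp, hg⟩
  have : g = tr1 hF p hp.2 := Unitary.eq_of_smul_eq_SU fun x => by rw [hg, tr1_smul]
  rw [this]
  set a := Unitary.herm 2 u u' with ha
  have ha3 := cube_one hF h
  refine good_mem_one hF hn hu (iso_smul hF hu' h) ?_ (fun w hw hor => hS w hw ?_) p hp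
  · rw [herm_right_smul hF, ← pow_succ, ha3]
  · rcases hor with e | e | e
    · exact Or.inl e
    · rw [herm_right_smul hF] at e
      exact Or.inr (Or.inl ((mul_eq_zero.1 e).resolve_left (pow_ne_zero _ h)))
    · refine Or.inr (Or.inr ?_)
      have he : a • tvv u u' = a • u' + u := by
        rw [tvv, smul_add, smul_smul, herm_swap hF u u', ← ha, ← pow_succ', ha3, one_smul]
      rw [← he, herm_right_smul hF] at e
      exact (mul_eq_zero.1 e).resolve_left (pow_ne_zero _ h)

end Cfsg.Agent.Sporadic96.TwoRad
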