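import Cfsg.Agent.Sporadic96.TwoRad.Coord

/-!
# The matrices of the transvections on the module
-/

set_option autoImplicit false

namespace Cfsg.Agent.Sporadic96.TwoRad

open Cfsg.Agent Cfsg.Agent.Sporadic96.TwoModule

variable {F : Type*} [Field F] [Fintype F] {n : ℕ}
variable {X V : Type*} [Group X] [CommGroup V]

/-- The matrix of an element of `SU`. -/
abbrev mat (g : Cfsg.SU n F 2) : Matrix (Fin n) (Fin n) F := ((g : Matrix.SpecialLinearGroup (Fin n) F) : Matrix (Fin n) (Fin n) F)

theorem mat_smul (g : Cfsg.SU n F 2) (v : Fin n → F) : g • v = (mat g).mulVec v := rfl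

theorem mat_apply (g : Cfsg.SU n F 2) (j k : Fin n) : mat g j k = (g • (Unitary.eI k : Fin n → F)) j := by
  rw [mat_smul, Unitary.eI, Matrix.mulVec_single_one]
  rfl

section lm

variable {W : Type*} [AddCommGroup W] [Module F W]

/-- A matrix acting on coordinates. -/
def lm (M : Matrix (Fin n) (Fin n) F) (c : Fin n → W) : Fin n → W := fun j => ∑ i, M j i • c i

omit [Fintype F] in
theorem lm_add (M : Matrix (Fin n) (Fin n) F) (c c' : Fin n → W) :
    lm M (c + c') = lm M c + lm M c' := by
  funext j; simp [lm, smul_add, Finset.sum_add_distrib]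

omit [Fintype F] in
theorem add_lm (M N : Matrix (Fin n) (Fin n) F) (c : Fin n → W) :
    lm (M + N) c = lm M c + lm N c := by
  funext j; simp [lm, add_smul, Finset.sum_add_distrib]

omit [Fintype F] in
theorem one_lm (c : Fin n → W) : lm (1 : Matrix (Fin n) (Fin n) F) c = c := by
  funext j; simp [lm, Matrix.one_apply]

omit [Fintype F] in
theorem zero_lm (c : Fin n → W) : lm (0 : Matrix (Fin n) (Fin n) F) c = 0 := by
  funext j; simp [lm]

omit [Fintype F] in
theorem mul_lm (M N : Matrix (Fin n) (Fin n) F) (c : Fin n → W) :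
    lm (M * N) c = lm M (lm N c) := by
  funext j
  simp only [lm, Matrix.mul_apply, Finset.sum_smul, Finset.smul_sum, mul_smul]
  exact Finset.sum_comm

end lm

namespace Frame

variable {ρ : X →* MulAut V} {pt : (Fin n → F) → X} {ω : F} (H : Frame ρ pt ω) (hodd : Odd n)

include H

theorem psi_map {x : X} (σ : Equiv.Perm (Fin n)) (f : Fin n → H.W → H.W)
    (h : ∀ k w, ρ x (H.ι k w) = H.ι (σ k) (f k w)) (c : Fin n → H.W) :
    ρ x (H.psi c) = H.psi (fun j => f (σ.symm j) (c (σ.symm j))) := by
  rw [psi, psi, map_prod]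
  simp only [h]
  exact Fintype.prod_equiv σ _ _ fun k => by simp

theorem psi_swap {i j : Fin n} (hij : i ≠ j) (c : Fin n → H.W) :
    ρ (pt (pv i j 1)) (H.psi c) = H.psi (c ∘ Equiv.swap i j) := by
  rw [H.psi_map (Equiv.swap i j) (fun _ w => w) (H.swap_ι hij), Equiv.symm_swap]
  rfl

variable [Module F H.W] (hJ : ∀ w : H.W, ω • w = H.J w)

include hJ

theorem omega_sq (w : H.W) : ω ^ 2 • w = H.J (H.J w) := by rw [pow_two, mul_smul, hJ, hJ]

theorem xe_psi {i j : Fin n} (hij : i ≠ j) (c : Fin n → H.W) :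
    ρ (xe pt ω i j) (H.psi c) =
      H.psi (fun m => (if m = i then ω else if m = j then ω ^ 2 else 1) • c m) := by
  refine H.psi_map (Equiv.refl _) (fun m w => (if m = i then ω else if m = j then ω ^ 2 else 1) • w)
    (fun k w => ?_) c
  rw [Equiv.refl_apply]
  by_cases hki : k = i
  · subst hki; rw [if_pos rfl, hJ, H.xe_ι hij]
  by_cases hkj : k = j
  · subst hkj
    rw [if_neg hki, if_pos rfl, H.omega_sq hJ, H.xe_symm (Ne.symm hij), ← H.xe_sq (Ne.symm hij),
      ← act_act, H.xe_ι (Ne.symm hij), H.xe_ι (Ne.symm hij)]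
  rw [if_neg hki, if_neg hkj, one_smul]
  exact H.ι_mem k w i j (Ne.symm hki) (Ne.symm hkj) hij

/-- A linear map equal to an antilinear one vanishes. -/
theorem split (f g : H.W → H.W) (hf : ∀ w, f (ω • w) = ω • f w) (hg : ∀ w, g (ω • w) = ω ^ 2 • g w)
    (h : ∀ w, f w + g w = 0) (w : H.W) : f w = 0 ∧ g w = 0 := by
  have h1 := h (ω • w)
  rw [hf, hg, eq_neg_of_add_eq_zero_right (h w), smul_neg, ← sub_eq_add_neg, ← sub_smul,
    show ω - ω ^ 2 = (-1 : F) by linear_combination -H.ω2, neg_one_smul, neg_eq_zero] at h1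
  exact ⟨h1, by rw [eq_neg_of_add_eq_zero_right (h w), h1, neg_zero]⟩

include hodd

/-- The action of the point of weight four. -/
theorem exists_e :
    ∃ e : H.W →+ H.W, (∀ (a : F) w, e (a • w) = a ^ 2 • e w) ∧ (∀ w, e (e w) = 0) ∧
      ∀ k w, ρ (pt p4) (H.ι k w) = H.psi (fun j =>
        ((if j = k then (1 : F) else 0) + if j.val < 4 ∧ k.val < 4 then 1 else 0) • w +
        ((if j.val = 4 ∧ k.val < 4 then (1 : F) else 0) +
          if j.val < 4 ∧ k.val = 4 then 1 else 0) • e w) := by
  classical
  have hn := H.hn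
  have h2 := two_zero H.hF
  let q : Fin n := ⟨4, by omega⟩
  let o3 : Fin n := ⟨3, by omega⟩
  let o2 : Fin n := ⟨2, by omega⟩
  let o1 : Fin n := ⟨1, by omega⟩
  have hp := iso_p4 H.hF (n := n) hn
  have hpq : (p4 : Fin n → F) q = 0 := by simp [p4, q]
  have hchar : ∀ w : H.W, w + w = 0 := H.char_two
  have hp0 : ∀ k : Fin n, k.val < 4 → (p4 : Fin n → F) k = 1 := fun k hk => by simp [p4, hk]
  have hpn : ∀ k : Fin n, ¬ k.val < 4 → (p4 : Fin n → F) k = 0 := fun k hk => by simp [p4, hk]
  -- coordinates of `[v, p]`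
  choose cd hcd using fun v : V => H.psi_surj hodd v
  have cd_mul : ∀ u v, cd (u * v) = cd u + cd v := fun u v =>
    H.psi_inj hodd (by rw [hcd, psi_add, hcd, hcd])
  have cd_psi : ∀ c, cd (H.psi c) = c := fun c => H.psi_inj hodd (hcd _)
  set P := pt (p4 : Fin n → F) with hP
  let m : Fin n → H.W →+ (Fin n → H.W) := fun k => AddMonoidHom.mk'
    (fun w => cd (A ρ P (H.ι k w))) (fun w w' => by rw [ι_add, map_mul, cd_mul])
  have hm : ∀ k w, H.psi (m k w) = A ρ P (H.ι k w) := fun k w => hcd _
  have hmR : ∀ k w, H.psi (m k w) ∈ R ρ P := fun k w => by rw [hm]; exact A_mem _ _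
  -- elements commuting with `p`
  have hAc : ∀ g : X, Commute g P → ∀ v, A ρ P (ρ g v) = ρ g (A ρ P v) := by
    intro g hg v
    rw [A_apply, A_apply, map_mul, act_act, act_act, hg.eq]
  -- transpositions of the first four coordinates
  have hsc : ∀ i j : Fin n, i ≠ j → i.val < 4 → j.val < 4 → Commute (pt (pv i j 1)) P := by
    intro i j hij hi hj
    rw [hP, H.rep.comm _ _ (H.iso i j hij one_ne_zero) hp, herm_swap H.hF, herm_pv H.hF, hp0 i hi,
      hp0 j hj, one_pow, mul_one, add_self H.hF, zero_pow two_ne_zero]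
  have hinv : ∀ k w, ∀ i j : Fin n, i.val < 4 → j.val < 4 → m k w i = m k w j := by
    intro k w i j hi hj
    by_cases hij : i = j
    · rw [hij]
    have h1 := H.rep.mod.quad' (H.mem hp) (H.mem (H.iso i j hij one_ne_zero)) (hsc i j hij hi hj).symm
      (hmR k w)
    rw [H.psi_swap hij] at h1
    have := congrFun (H.psi_inj hodd h1) i
    simpa using this.symm
  have hmk : ∀ k : Fin n, k.val < 4 → ∀ w, m k w = m H.o w := by
    intro k hk w
    by_cases hko : k = H.o
    · rw [hko]
    refine H.psi_inj hodd ?_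
    have ho : (H.o : Fin n).val < 4 := by simp [Frame.o]
    rw [hm, hm, show H.ι k w = ρ (pt (pv H.o k 1)) (H.ι H.o w) by
      rw [H.swap_ι (Ne.symm hko), Equiv.swap_apply_left], hAc _ (hsc _ k (Ne.symm hko) ho hk)]
    exact H.rep.mod.quad' (H.mem hp) (H.mem (H.iso _ _ (Ne.symm hko) one_ne_zero))
      (hsc _ k (Ne.symm hko) ho hk).symm (A_mem _ _)
  -- coordinates beyond the fifth
  have hbig : ∀ k : Fin n, k.val ≤ 4 → ∀ w, ∀ i : Fin n, 5 ≤ i.val → m k w i = 0 := by
    intro k hk w i hi
    obtain ⟨j, hj5, hji⟩ : ∃ j : Fin n, 5 ≤ j.val ∧ j ≠ i := by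
      obtain ⟨r, hr⟩ := hodd
      by_cases hi5 : i.val = 5
      · refine ⟨⟨6, by omega⟩, by simp, fun e => ?_⟩
        rw [← e] at hi5; simp at hi5
      · exact ⟨⟨5, by omega⟩, by simp, fun e => hi5 (by rw [← e])⟩
    have hij := hji.symm
    have hc : Commute (xe pt ω i j) P := by
      refine mul_inv_eq_iff_eq_mul.1 ?_
      rw [hP, H.xe_conj hij hp]
      congr 1
      funext l
      simp only [dg]
      split_ifs with h1 h2'
      · subst h1; rw [hpn l (by omega), mul_zero]
      · subst h2'; rw [hpn l (by omega), mul_zero]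
      · rfl
    have hki : k ≠ i := fun e => by rw [e] at hk; omega
    have hkj : k ≠ j := fun e => by rw [e] at hk; omega
    have h1 : ρ (xe pt ω i j) (H.psi (m k w)) = H.psi (m k w) := by
      rw [hm, ← hAc _ hc, H.ι_mem k w i j hki.symm hkj.symm hij]
    rw [H.xe_psi hJ hij] at h1
    have h3 := congrFun (H.psi_inj hodd h1) i
    simp only [if_true] at h3
    have h4 : (ω + 1) • m k w i = 0 := by rw [add_smul, one_smul, h3, hchar]
    rw [← H.ω2] at h4
    exact (smul_eq_zero.1 h4).resolve_left (pow_ne_zero _ H.ω0)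
  -- the equivariance under `τ`
  have hne : ∀ a b : Fin n, a.val ≠ b.val → a ≠ b := fun a b h e => h (congrArg Fin.val e)
  set τ := xe pt ω H.o q * xe pt ω o1 q * (xe pt ω o2 q * xe pt ω o3 q) with hτ
  have d0 : H.o ≠ o1 := hne _ _ (by simp [Frame.o, o1])
  have d1 : H.o ≠ o2 := hne _ _ (by simp [Frame.o, o2])
  have d2 : H.o ≠ o3 := hne _ _ (by simp [Frame.o, o3])
  have d3 : o1 ≠ o2 := hne _ _ (by simp [o1, o2])
  have d4 : o1 ≠ o3 := hne _ _ (by simp [o1, o3])
  have d5 : o2 ≠ o3 := hne _ _ (by simp [o2, o3])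
  have d6 : H.o ≠ q := hne _ _ (by simp [Frame.o, q])
  have d7 : o1 ≠ q := hne _ _ (by simp [o1, q])
  have d8 : o2 ≠ q := hne _ _ (by simp [o2, q])
  have d9 : o3 ≠ q := hne _ _ (by simp [o3, q])
  have hfour : ∀ l : Fin n, l.val < 4 → l = H.o ∨ l = o1 ∨ l = o2 ∨ l = o3 := fun l hl => by
    simp only [Fin.ext_iff, Frame.o, o1, o2, o3]
    omega
  have hτP : Commute τ P := H.tau_commute d0 d1 d2 d3 d4 d5 d6 d7 d8 d9 hp (fun l h1 h2 h3 h4 =>
    hpn l fun h => by rcases hfour l h with e | e | e | e <;> contradiction)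
  set μ : Fin n → F := fun l => if l.val < 4 then ω else if l = q then ω ^ 2 else 1 with hμ
  have hτpsi : ∀ c, ρ τ (H.psi c) = H.psi (fun l => μ l • c l) := by
    intro c
    simp only [hτ, ← act_act, H.xe_psi hJ d9, H.xe_psi hJ d8, H.xe_psi hJ d7, H.xe_psi hJ d6,
      smul_smul]
    congr 1
    funext l
    congr 1
    by_cases hl : l.val < 4
    · rcases hfour l hl with rfl | rfl | rfl | rfl <;>
        simp [hμ, hl, d0, d0.symm, d1, d1.symm, d2, d2.symm, d3, d3.symm, d4, d4.symm, d5, d5.symm,
          d6, d7, d8, d9]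
    · have hl0 : ∀ z : Fin n, z.val < 4 → l ≠ z := fun z hz e => hl (e ▸ hz)
      simp only [hμ, if_neg hl, if_neg (hl0 H.o (by simp [Frame.o])), if_neg (hl0 o1 (by simp [o1])),
        if_neg (hl0 o2 (by simp [o2])), if_neg (hl0 o3 (by simp [o3]))]
      split_ifs
      · linear_combination ω ^ 2 * (ω ^ 3 + 1) * H.ω3
      · ring
  have hτι : ∀ k w, ρ τ (H.ι k w) = H.ι k (μ k • w) := fun k w => by
    rw [← psi_single, hτpsi, ← psi_single]
    congr 1
    funext l
    by_cases hlk : l = k
    · subst hlk; simp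
    · simp [hlk]
  have hequiv : ∀ k w l, m k (μ k • w) l = μ l • m k w l := by
    intro k w l
    have : H.psi (m k (μ k • w)) = H.psi (fun l => μ l • m k w l) := by
      rw [hm, ← hτι, hAc τ hτP, ← hm, hτpsi]
    exact congrFun (H.psi_inj hodd this) l
  have hμo : μ H.o = ω := by simp [hμ, Frame.o]
  have hμq : μ q = ω ^ 2 := by simp [hμ, q]
  let c : H.W →+ H.W := (Pi.evalAddMonoidHom _ H.o).comp (m H.o)
  let e : H.W →+ H.W := (Pi.evalAddMonoidHom _ q).comp (m H.o)
  let c' : H.W →+ H.W := (Pi.evalAddMonoidHom _ H.o).comp (m q)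
  let e' : H.W →+ H.W := (Pi.evalAddMonoidHom _ q).comp (m q)
  have hc : ∀ w, c (ω • w) = ω • c w := fun w => by
    have := hequiv H.o w H.o; rwa [hμo] at this
  have he : ∀ w, e (ω • w) = ω ^ 2 • e w := fun w => by
    have := hequiv H.o w q; rwa [hμo, hμq] at this
  have hω4 : ω ^ 2 * ω ^ 2 = ω := by rw [← pow_two]; exact sq_sq H.hF ω
  have hc' : ∀ w, c' (ω • w) = ω ^ 2 • c' w := fun w => by
    have h0 : ∀ z, c' (ω ^ 2 • z) = ω • c' z := fun z => by
      have := hequiv q z H.o; rwa [hμo, hμq] at this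
    rw [show ω • w = ω ^ 2 • ω ^ 2 • w by rw [smul_smul, hω4], h0, h0, smul_smul, ← pow_two]
  have he' : ∀ w, e' (ω • w) = ω • e' w := fun w => by
    have h0 : ∀ z, e' (ω ^ 2 • z) = ω ^ 2 • e' z := fun z => by
      have := hequiv q z q; rwa [hμq] at this
    rw [show ω • w = ω ^ 2 • ω ^ 2 • w by rw [smul_smul, hω4], h0, h0, smul_smul, hω4]
  -- the action in coordinates
  let S : (Fin n → H.W) → H.W := fun x => x H.o + x o1 + x o2 + x o3
  let Pp : (Fin n → H.W) → Fin n → H.W := fun x l => x l +
    if l.val < 4 then c (S x) + c' (x q) else if l = q then e (S x) + e' (x q) else 0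
  have hmval : ∀ k : Fin n, k.val < 4 → ∀ w l,
      m k w l = if l.val < 4 then c w else if l = q then e w else 0 := by
    intro k hk w l
    rw [hmk k hk]
    split_ifs with h1 h2'
    · exact hinv _ w l H.o h1 (by simp [Frame.o])
    · rw [h2']; rfl
    · refine hbig _ (by simp [Frame.o]) w l ?_
      by_contra h5
      exact h2' (Fin.ext (show l.val = 4 by omega))
  have hmq : ∀ w l, m q w l = if l.val < 4 then c' w else if l = q then e' w else 0 := by
    intro w l
    split_ifs with h1 h2'
    · exact hinv _ w l H.o h1 (by simp [Frame.o])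
    · rw [h2']; rfl
    · refine hbig _ (by simp [q]) w l ?_
      by_contra h5
      exact h2' (Fin.ext (show l.val = 4 by omega))
  have hPι : ∀ k w, ρ P (H.ι k w) = H.psi (m k w + Pi.single k w) := fun k w => by
    rw [psi_add, hm, psi_single, A_apply, mul_assoc, H.rep.mod.sq, mul_one]
  have hS : ∀ k w, S (Pi.single k w) = if k.val < 4 then w else 0 := by
    intro k w
    by_cases hk : k.val < 4
    · rcases hfour k hk with rfl | rfl | rfl | rfl <;>
        simp [S, hk, d0, d0.symm, d1, d1.symm, d2, d2.symm, d3, d3.symm, d4, d4.symm, d5, d5.symm]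
    · have hk0 : ∀ z : Fin n, z.val < 4 → z ≠ k := fun z hz e => hk (e ▸ hz)
      simp [S, hk, hk0 H.o (by simp [Frame.o]), hk0 o1 (by simp [o1]), hk0 o2 (by simp [o2]),
        hk0 o3 (by simp [o3])]
  have hbad : ∀ k : Fin n, 5 ≤ k.val → ∀ w, ρ P (H.ι k w) = H.ι k w := by
    intro k hk w
    -- `x k o` commutes with `p` up to the four coordinates
    have hA : m k w = 0 := by
      obtain ⟨j, hj5, hjk⟩ : ∃ j : Fin n, 5 ≤ j.val ∧ j ≠ k := by
        obtain ⟨r, hr⟩ := hodd
        by_cases hk5 : k.val = 5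
        · refine ⟨⟨6, by omega⟩, by simp, fun e => ?_⟩
          rw [← e] at hk5; simp at hk5
        · exact ⟨⟨5, by omega⟩, by simp, fun e => hk5 (by rw [← e])⟩
      have hcp : ∀ i j : Fin n, i ≠ j → 4 ≤ i.val → 4 ≤ j.val → Commute (xe pt ω i j) P := by
        intro i j hij hi hj
        refine mul_inv_eq_iff_eq_mul.1 ?_
        rw [hP, H.xe_conj hij hp]
        congr 1
        funext l
        simp only [dg]
        split_ifs with h1 h2'
        · subst h1; rw [hpn l (by omega), mul_zero]
        · subst h2'; rw [hpn l (by omega), mul_zero]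
        · rfl
      have hq4 : 4 ≤ q.val := le_refl 4
      have hkq : k ≠ q := hne _ _ (by simp [q]; omega)
      have hjq : j ≠ q := hne _ _ (by simp [q]; omega)
      have heq : ∀ i : Fin n, i ≠ k → 4 ≤ i.val → ∀ w, m k (ω • w) = fun l =>
          (if l = k then ω else if l = i then ω ^ 2 else 1) • m k w l := by
        intro i hik hi w
        refine H.psi_inj hodd ?_
        rw [hm, ← H.xe_psi hJ (Ne.symm hik), hm, ← hAc _ (hcp k i (Ne.symm hik) (by omega) hi),
          H.xe_ι (Ne.symm hik), hJ]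
      have hz : ∀ i, i ≠ k → m k w i = 0 := by
        intro i hik
        have hq' : ∀ z, m k (ω • z) i = (if i = q then ω ^ 2 else 1) • m k z i := fun z => by
          have := congrFun (heq q hkq.symm le_rfl z) i
          simpa only [if_neg hik] using this
        by_cases hiq : i = q
        · have b := congrFun (heq j hjk (by omega) w) i
          have hij : i ≠ j := fun h => hjq (h.symm.trans hiq)
          rw [hq', if_pos hiq] at b
          simp only [if_neg hik, if_neg hij, one_smul] at b
          have h4 : (ω ^ 2 + 1) • m k w i = 0 := by rw [add_smul, one_smul, b, hchar]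
          exact (smul_eq_zero.1 h4).resolve_left fun h =>
            H.ω0 (by linear_combination h - H.ω2 - h2)
        · have a : m k (ω • w) i = m k w i := by rw [hq', if_neg hiq, one_smul]
          have a2 : m k (ω • ω • w) i = m k w i := by rw [hq', if_neg hiq, one_smul, a]
          have e : ω • ω • w = ω • w + w := by rw [hJ, hJ]; exact H.J_sq hodd w
          rw [e, map_add, Pi.add_apply, a] at a2
          rw [← a2, hchar]
      set z := H.psi (m k w) with hz'
      have hzι : z = H.ι k (m k w k) := by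
        rw [hz', psi, Finset.prod_eq_single k (fun i _ hi => by rw [hz i hi, ι_zero])
          (fun h => absurd (Finset.mem_univ k) h)]
      have hfix : ρ (pt (pv H.o o1 ω)) z = z := by
        rw [hzι]
        exact H.wgt_fix_pts (H.ι_mem k _) (hne _ _ (by simp [Frame.o]; omega))
          (hne _ _ (by simp [o1]; omega)) d0 H.ω0
      have h1 : z = 1 := H.rep.mod.inj_R (H.mem hp) (H.mem (H.iso _ _ d0 H.ω0)) (by
        rw [H.rep.comm _ _ hp (H.iso _ _ d0 H.ω0), herm_pv H.hF, hp0 _ (by simp [Frame.o]),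
          hp0 _ (by simp [o1]), mul_one, H.ω2]
        intro h; exact H.ω0 (by linear_combination h - h2)) (hmR _ _) hfix
      rw [hz', ← H.psi_zero] at h1
      exact H.psi_inj hodd h1
    rw [hPι, hA, zero_add, psi_single]
  have hPp_add : ∀ x y, Pp (x + y) = Pp x + Pp y := by
    intro x y
    funext l
    simp only [Pp, S, Pi.add_apply, map_add]
    split_ifs <;> abel
  have hPp : ∀ x, ρ P (H.psi x) = H.psi (Pp x) := by
    let G1 : (Fin n → H.W) →+ (Fin n → H.W) := AddMonoidHom.mk' (fun x => cd (ρ P (H.psi x)))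
      fun x y => by rw [psi_add, map_mul, cd_mul]
    let G2 : (Fin n → H.W) →+ (Fin n → H.W) := AddMonoidHom.mk' Pp hPp_add
    have hG : G1 = G2 := by
      refine AddMonoidHom.functions_ext _ G1 G2 fun k w => ?_
      show cd (ρ P (H.psi (Pi.single k w))) = Pp (Pi.single k w)
      rw [psi_single]
      by_cases hk : k.val < 4
      · rw [hPι, cd_psi]
        funext l
        have hkq : q ≠ k := hne _ _ (by simp [q]; omega)
        simp only [Pp, Pi.add_apply, hS, if_pos hk, Pi.single_eq_of_ne hkq, map_zero, add_zero,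
          hmval k hk]
        rw [add_comm]
      by_cases hk4 : k = q
      · subst hk4
        rw [hPι, cd_psi]
        funext l
        simp only [Pp, Pi.add_apply, hS, if_neg hk, Pi.single_eq_same, map_zero, zero_add, hmq]
        rw [add_comm]
      · have h5 : 5 ≤ k.val := by
          by_contra h5
          exact hk4 (Fin.ext (show k.val = 4 by omega))
        rw [hbad k h5, ← psi_single, cd_psi]
        funext l
        simp only [Pp, hS, if_neg hk, Pi.single_eq_of_ne (Ne.symm hk4), map_zero, add_zero]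
        split_ifs <;> simp
    intro x
    rw [← hcd (ρ P (H.psi x))]
    exact congrArg H.psi (DFunLike.congr_fun hG x)
  -- the braid relation with `(3 4)`
  have hnc : ¬ Commute P (pt (pv o3 q 1)) := by
    rw [hP, H.rep.comm _ _ hp (H.iso _ _ d9 one_ne_zero), herm_pv H.hF, hp0 o3 (by simp [o3]), hpq,
      mul_zero, add_zero]
    exact one_ne_zero
  have hbr : ∀ x, Pp (Pp x ∘ Equiv.swap o3 q) = Pp (x ∘ Equiv.swap o3 q) ∘ Equiv.swap o3 q := by
    intro x
    refine H.psi_inj hodd ?_
    rw [← hPp, ← H.psi_swap d9, ← hPp, ← H.psi_swap d9, ← hPp, ← H.psi_swap d9, act_act, act_act,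
      act_act, act_act]
    have := FischerSpace.braid H.rep.mod.set (H.mem hp) (H.mem (H.iso _ _ d9 one_ne_zero)) hnc
    first | rw [this] | (simp only [← mul_assoc] at this ⊢; rw [this])
  have so : Equiv.swap o3 q H.o = H.o := Equiv.swap_apply_of_ne_of_ne d2 d6
  have s1 : Equiv.swap o3 q o1 = o1 := Equiv.swap_apply_of_ne_of_ne d4 d7
  have s2 : Equiv.swap o3 q o2 = o2 := Equiv.swap_apply_of_ne_of_ne d5 d8
  have v0 : (H.o : Fin n).val < 4 := by simp [Frame.o]
  have v1 : o1.val < 4 := by simp [o1]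
  have v2 : o2.val < 4 := by simp [o2]
  have v3 : o3.val < 4 := by simp [o3]
  have vq : ¬ q.val < 4 := by simp [q]
  have P0 : ∀ x (l : Fin n), l.val < 4 → Pp x l = x l + (c (S x) + c' (x q)) := fun x l hl => by
    simp only [Pp, if_pos hl]
  have P4 : ∀ x, Pp x q = x q + (e (S x) + e' (x q)) := fun x => by simp only [Pp, if_neg vq, if_true]
  have hneg : ∀ w : H.W, -w = w := fun w => neg_eq_of_add_eq_zero_left (hchar w)
  have cancel2 : ∀ a b : H.W, a + (a + b) = b := fun a b => by rw [← add_assoc, hchar, zero_add]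
  -- first equation
  have A0 : ∀ w, c w + (c (c w) + (c (e w) + c' (c w))) = 0 ∧
      e w + (e (c w) + (e (e w) + e' (c w))) = 0 := by
    intro w
    have e0 := congrFun (hbr (Pi.single H.o w)) H.o
    have e4 := congrFun (hbr (Pi.single H.o w)) q
    simp only [Function.comp_apply, so, s1, s2, Equiv.swap_apply_left, Equiv.swap_apply_right, P0 _ _ v0,
      P0 _ _ v1, P0 _ _ v2, P0 _ _ v3, P4, S, Pi.single_eq_same, Pi.single_eq_of_ne d0.symm,
      Pi.single_eq_of_ne d1.symm, Pi.single_eq_of_ne d2.symm, Pi.single_eq_of_ne d6.symm, map_zero,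
      zero_add, add_zero] at e0 e4
    have hs : w + c w + c w + c w + e w = w + c w + e w := by
      rw [add_assoc (w + c w) (c w) (c w), hchar, add_zero]
    rw [hs, map_add, map_add] at e0 e4
    constructor
    · have := congrArg (fun z => (w + c w) + z) e0
      rw [cancel2, hchar] at this
      rw [← this]; abel
    · have := congrArg (fun z => c w + z) e4
      rw [cancel2, hchar] at this
      rw [← this]; abel
  -- second equation
  have A4 : ∀ w, c w + (c' w + (c (c' w) + (c (e' w) + (c w + c' (c' w))))) = 0 ∧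
      w + (e' w + (c' w + (e w + c w))) = 0 ∧
      w + (c w + (c' w + (e w + (e (c' w) + (e (e' w) + e' (c' w)))))) = 0 := by
    intro w
    have e0 := congrFun (hbr (Pi.single q w)) H.o
    have e3 := congrFun (hbr (Pi.single q w)) o3
    have e4 := congrFun (hbr (Pi.single q w)) q
    simp only [Function.comp_apply, so, s1, s2, Equiv.swap_apply_left, Equiv.swap_apply_right, P0 _ _ v0,
      P0 _ _ v1, P0 _ _ v2, P0 _ _ v3, P4, S, Pi.single_eq_same, Pi.single_eq_of_ne d6,
      Pi.single_eq_of_ne d7, Pi.single_eq_of_ne d8, Pi.single_eq_of_ne d9, map_zero,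
      zero_add, add_zero] at e0 e3 e4
    have hs : c' w + c' w + c' w + (w + e' w) = c' w + (w + e' w) := by rw [hchar, zero_add]
    rw [hs, map_add, map_add] at e0 e3 e4
    refine ⟨?_, ?_, ?_⟩
    · have := congrArg (fun z => c w + z) e0
      rw [hchar] at this
      rw [← this]; abel
    · have h03 := congrArg₂ (· + ·) e0 e3
      generalize hX : c (c' w) + (c w + c (e' w)) + c' (c' w) = Y at h03
      have := congrArg (fun z => c w + e w + z) h03
      rw [hchar] at this
      rw [← this]
      calc w + (e' w + (c' w + (e w + c w))) = (w + e' w + c' w + e w + c w) + (Y + Y) := by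
            rw [hchar]; abel
        _ = _ := by abel
    · have := congrArg (fun z => w + c w + z) e4
      rw [hchar] at this
      rw [← this]; abel
  -- separating the linear and the antilinear parts
  have hω2c : ∀ z, c (ω ^ 2 • z) = ω ^ 2 • c z := fun z => by
    rw [pow_two, mul_smul, hc, hc, ← mul_smul]
  have hω2c' : ∀ z, c' (ω ^ 2 • z) = ω • c' z := fun z => by
    rw [pow_two, mul_smul, hc', hc', smul_smul, hω4]
  have hω2e : ∀ z, e (ω ^ 2 • z) = ω • e z := fun z => by
    rw [pow_two, mul_smul, he, he, smul_smul, hω4]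
  have hω2e' : ∀ z, e' (ω ^ 2 • z) = ω ^ 2 • e' z := fun z => by
    rw [pow_two, mul_smul, he', he', ← mul_smul]
  have B1 : ∀ w, c w + c (c w) = 0 := fun w => (H.split hJ (fun w => c w + c (c w))
    (fun w => c (e w) + c' (c w)) (fun w => by simp only [hc, smul_add])
    (fun w => by simp only [hc, he, hc', hω2c, smul_add])
    (fun w => by rw [← (A0 w).1]; abel) w).1
  have B2 : ∀ w, e (e w) + e' (c w) = 0 := fun w => (H.split hJ (fun w => e (e w) + e' (c w))
    (fun w => e w + e (c w)) (fun w => by simp only [hc, he, he', hω2e, smul_add])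
    (fun w => by simp only [hc, he, smul_add])
    (fun w => by rw [← (A0 w).2]; abel) w).1
  have B3 : ∀ w, (w + (e' w + c w) = 0) ∧ c' w + e w = 0 := fun w => H.split hJ
    (fun w => w + (e' w + c w)) (fun w => c' w + e w) (fun w => by simp only [hc, he', smul_add])
    (fun w => by simp only [hc', he, smul_add]) (fun w => by rw [← (A4 w).2.1]; abel) w
  have hE' : ∀ w, e' w = w + c w := fun w => by
    have h := congrArg (fun z => w + c w + z) (B3 w).1
    simp only [add_zero] at h
    rw [← h]
    calc e' w = (w + w) + ((c w + c w) + e' w) := by rw [hchar, hchar, zero_add, zero_add]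
      _ = _ := by abel
  have hC' : ∀ w, c' w = e w := fun w => by rw [eq_neg_of_add_eq_zero_left (B3 w).2, hneg]
  have hee : ∀ w, e (e w) = 0 := fun w => by
    have h := B2 w
    rwa [hE', B1, add_zero] at h
  have B4 : ∀ w, w + c w = 0 := fun w => by
    have h := (H.split hJ (fun w => w + c w + e (c' w))
      (fun w => c' w + e w + e (e' w) + e' (c' w))
      (fun w => by simp only [hc, hc', hω2e, smul_add])
      (fun w => by simp only [hc', he, he', hω2e, hω2e', smul_add])
      (fun w => by rw [← (A4 w).2.2]; abel) w).1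
    rwa [hC', hee, add_zero] at h
  have hc1 : ∀ w, c w = w := fun w => by rw [eq_neg_of_add_eq_zero_right (B4 w), hneg]
  have he'0 : ∀ w, e' w = 0 := fun w => by rw [hE', B4]
  refine ⟨e, fun a w => ?_, hee, fun k w => ?_⟩
  · rcases four H.hF H.ω0 H.ω1 a with rfl | rfl | rfl | rfl
    · simp
    · simp
    · exact he w
    · rw [hω2e, sq_sq H.hF]
  · rw [← psi_single, hPp]
    congr 1
    funext l
    simp only [Pp, hS, hc1, hC', he'0]
    have hlk : Pi.single (M := fun _ : Fin n => H.W) k w l = if l = k then w else 0 :=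
      Pi.single_apply k w l
    have hkq : Pi.single (M := fun _ : Fin n => H.W) k w q = if k.val = 4 then w else 0 := by
      rw [Pi.single_apply]
      simp only [Fin.ext_iff, q, eq_comm]
    have hlq : l = q ↔ l.val = 4 := by simp [Fin.ext_iff, q]
    rw [hlk, hkq]
    simp only [hlq]
    have hne4 : k.val < 4 → ¬ k.val = 4 := fun h => by omega
    have hl4 : l.val < 4 → ¬ l.val = 4 := fun h => by omega
    have hsplit : ((if l = k then (1 : F) else 0) + if l.val < 4 ∧ k.val < 4 then 1 else 0) • w =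
        (if l = k then w else 0) + if l.val < 4 ∧ k.val < 4 then w else 0 := by
      rw [add_smul, ite_smul, ite_smul, one_smul, zero_smul]
    rw [hsplit, add_smul, ite_smul, ite_smul, one_smul, zero_smul, add_assoc]
    congr 1
    by_cases hk : k.val < 4 <;> by_cases hk4 : k.val = 4 <;> by_cases hl : l.val < 4 <;>
      by_cases hl4' : l.val = 4 <;> first | omega | simp [hk, hk4, hl, hl4']

end Frame

end Cfsg.Agent.Sporadic96.TwoRad
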