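import Cfsg.Agent.Sporadic96.TwoRad.Weights

/-!
# All isotropic points come from the monomial ones and one of weight four
-/

set_option autoImplicit false

namespace Cfsg.Agent.Sporadic96.TwoRad

open Cfsg.Agent

variable {F : Type*} [Field F] [Fintype F] {n : ℕ}

/-- The vector with ones in the first four places. -/
def p4 : Fin n → F := fun k => if k.val < 4 then 1 else 0

variable (hF : Fintype.card F = 4)

include hF

/-- The norm of a vector is the size of its support. -/
theorem herm_self_card [DecidableEq F] (u : Fin n → F) :
    Unitary.herm 2 u u = ((Finset.univ.filter fun k => u k ≠ 0).card : F) := by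
  have hu : u = ∑ k, u k • (Unitary.eI k : Fin n → F) := Unitary.eq_sum_eI u
  conv_lhs => arg 2; rw [hu]
  rw [Unitary.herm_sum_left, Finset.card_filter, Nat.cast_sum]
  refine Finset.sum_congr rfl fun k _ => ?_
  rw [Unitary.herm_smul_left, Unitary.herm_eI_left]
  by_cases h : u k = 0
  · simp [h]
  · rw [if_pos h, Nat.cast_one, norm_one hF h]

theorem card_supp_even [DecidableEq F] {u : Fin n → F} (hu : Iso u) :
    Even (Finset.univ.filter fun k => u k ≠ 0).card := by
  rcases Nat.even_or_odd (Finset.univ.filter fun k => u k ≠ 0).card with h | ⟨m, hm⟩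
  · exact h
  · exfalso
    have h := herm_self_card hF u
    rw [hu.2, hm, Nat.cast_add, Nat.cast_mul, Nat.cast_two, two_zero hF, zero_mul, zero_add,
      Nat.cast_one] at h
    exact zero_ne_one h

theorem iso_p4 (hn : 5 ≤ n) : Iso (p4 : Fin n → F) := by
  classical
  refine ⟨fun e => one_ne_zero (α := F) ?_, ?_⟩
  · have := congrFun e ⟨0, by omega⟩
    simpa [p4] using this
  · rw [herm_self_card hF]
    have : (Finset.univ.filter fun k : Fin n => (p4 : Fin n → F) k ≠ 0) =
        (Finset.range 4).attachFin (fun m hm => by rw [Finset.mem_range] at hm; omega) := by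
      ext k; simp [p4, Finset.mem_attachFin]
    rw [this, Finset.card_attachFin, Finset.card_range]
    push_cast
    linear_combination 2 * two_zero hF

theorem reach {ω : F} (hω0 : ω ≠ 0) (hω1 : ω ≠ 1) (hω : ω ^ 2 = ω + 1) (hn : 5 ≤ n) (hodd : Odd n)
    (P : (Fin n → F) → Prop) (hsmul : ∀ u, Iso u → ∀ a : F, a ≠ 0 → P u → P (a • u))
    (h2 : ∀ i j, i ≠ j → ∀ a : F, a ≠ 0 → P (pv i j a)) (hp : P p4)
    (hcl : ∀ u v, Iso u → Iso v → P u → P v → P (tvv u v)) {u : Fin n → F} (hu : Iso u) : P u := by
  classical
  have hswap : ∀ i j, ∀ v, Iso v → P v → P (v ∘ Equiv.swap i j) := by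
    intro i j v hv hPv
    by_cases hij : i = j
    · subst hij; simpa using hPv
    · rw [← tvv_swap hF hij]
      exact hcl _ _ (iso_pv hF hij one_ne_zero) hv (h2 i j hij 1 one_ne_zero) hPv
  have hperm : ∀ σ : Equiv.Perm (Fin n), ∀ v, Iso v → P v → P (v ∘ σ) ∧ Iso (v ∘ σ) := by
    intro σ
    induction σ using Equiv.Perm.swap_induction_on with
    | one => intro v hv hPv; exact ⟨hPv, hv⟩
    | swap_mul f i j hij ih =>
      intro v hv hPv
      have e : v ∘ ⇑(Equiv.swap i j * f) = (v ∘ Equiv.swap i j) ∘ f := rfl
      rw [e]
      refine ih _ ?_ (hswap i j v hv hPv)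
      rw [← tvv_swap hF hij]
      exact iso_tvv hF (iso_pv hF hij one_ne_zero).2 hv
  set T : Finset (Fin n) := Finset.univ.filter fun k => k.val < 4 with hT
  set o : Fin n := ⟨4, by omega⟩ with ho
  have hscale : ∀ v, Iso v → P v → v o = 0 → ∀ k, k ≠ o → ∀ c : F, c ≠ 0 →
      P (Function.update v k (c * v k)) ∧ Iso (Function.update v k (c * v k)) := by
    intro v hv hPv hvo k hk
    have step : ∀ v, Iso v → P v → v o = 0 →
        P (Function.update v k (ω * v k)) ∧ Iso (Function.update v k (ω * v k)) := by
      intro v hv hPv hvo
      have hi1 := iso_pv hF hk (a := (1 : F)) one_ne_zero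
      have hi2 := iso_pv hF hk hω0
      have e : Function.update v k (ω * v k) = tvv (pv k o 1) (tvv (pv k o ω) v) := by
        rw [tvv_dg hF hω hk]
        funext m
        by_cases hmk : m = k
        · subst hmk; simp [dg]
        · by_cases hmo : m = o
          · subst hmo; simp [dg, Ne.symm hk, hvo]
          · simp [dg, hmk, hmo]
      rw [e]
      exact ⟨hcl _ _ hi1 (iso_tvv hF hi2.2 hv) (h2 _ _ hk _ one_ne_zero)
        (hcl _ _ hi2 hv (h2 _ _ hk _ hω0) hPv), iso_tvv hF hi1.2 (iso_tvv hF hi2.2 hv)⟩
    intro c hc
    rcases four hF hω0 hω1 c with rfl | rfl | rfl | rfl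
    · exact absurd rfl hc
    · rw [one_mul, Function.update_eq_self]; exact ⟨hPv, hv⟩
    · exact step v hv hPv hvo
    · obtain ⟨hP', hI'⟩ := step v hv hPv hvo
      have := step _ hI' hP' (by rw [Function.update_of_ne (Ne.symm hk)]; exact hvo)
      rwa [Function.update_self, Function.update_idem, ← mul_assoc, ← pow_two] at this
  have hcard4 : T.card = 4 := by
    have : T = (Finset.range 4).attachFin (fun m hm => by rw [Finset.mem_range] at hm; omega) := by
      ext k; simp [hT, Finset.mem_attachFin]
    rw [this, Finset.card_attachFin, Finset.card_range]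
  have four_case : ∀ v : Fin n → F, (Finset.univ.filter fun k => v k ≠ 0).card = 4 → P v := by
    intro v hv
    set S := Finset.univ.filter fun k => v k ≠ 0 with hS
    have hcard : Fintype.card {x // x ∈ T} = Fintype.card {x // x ∈ S} := by
      rw [Fintype.card_coe, Fintype.card_coe, hcard4, hv]
    let e := Fintype.equivOfCardEq hcard
    set σ := Equiv.extendSubtype e with hσ
    have hiff : ∀ k, v (σ k) ≠ 0 ↔ k ∈ T := by
      intro k
      have hmem : σ k ∈ S ↔ v (σ k) ≠ 0 := by simp [hS]
      rw [← hmem]
      refine ⟨fun h => ?_, fun h => Equiv.extendSubtype_mem e k h⟩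
      by_contra hk
      exact Equiv.extendSubtype_not_mem e k hk h
    have hall : ∀ s : Finset (Fin n), s ⊆ T →
        P (fun k => if k ∈ s then v (σ k) else (p4 : Fin n → F) k) ∧
          Iso (fun k => if k ∈ s then v (σ k) else (p4 : Fin n → F) k) := by
      intro s
      induction s using Finset.induction_on with
      | empty => intro _; simp only [Finset.notMem_empty, if_false]; exact ⟨hp, iso_p4 hF hn⟩
      | insert k s hks ih =>
        intro hsub
        rw [Finset.insert_subset_iff] at hsub
        obtain ⟨hP', hI'⟩ := ih hsub.2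
        have hko : k ≠ o := by
          have h := hsub.1
          simp only [hT, Finset.mem_filter] at h
          intro e; rw [e, ho] at h; exact lt_irrefl _ h.2
        have hos : o ∉ s := fun h => by
          have := hsub.2 h
          simp [hT, ho] at this
        have := hscale _ hI' hP' (by simp only [if_neg hos]; simp [p4, ho]) k hko (v (σ k)) ((hiff k).2 hsub.1)
        convert this using 2 <;>
        · funext m
          by_cases hmk : m = k
          · subst hmk
            have hlt : m.val < 4 := by simpa [hT] using hsub.1
            simp [hks, p4, hlt]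
          · simp [hmk]
    obtain ⟨hP', hI'⟩ := hall T (subset_refl _)
    have e2 : (fun k => if k ∈ T then v (σ k) else (p4 : Fin n → F) k) = v ∘ σ := by
      funext k
      by_cases hk : k ∈ T
      · simp [hk]
      · have h1 : v (σ k) = 0 := not_not.1 fun h => hk ((hiff k).1 h)
        have h3 : ¬ k.val < 4 := by simpa [hT] using hk
        simp [hk, h1, p4, h3]
    rw [e2] at hP' hI'
    have := (hperm σ.symm _ hI' hP').1
    simpa [Function.comp_assoc] using this
  induction hm : (Finset.univ.filter fun k => u k ≠ 0).card using Nat.strong_induction_on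
    generalizing u with
  | _ m ih =>
    set S := Finset.univ.filter fun k => u k ≠ 0 with hS
    have hev := card_supp_even hF hu
    rw [← hS, hm] at hev
    have hmem : ∀ k, k ∈ S ↔ u k ≠ 0 := fun k => by simp [hS]
    rcases Nat.lt_or_ge m 6 with h6 | h6
    · obtain ⟨t, rfl⟩ := hev
      have : t = 0 ∨ t = 1 ∨ t = 2 := by omega
      rcases this with rfl | rfl | rfl
      · exfalso
        refine hu.1 (funext fun k => ?_)
        by_contra hk
        exact (Finset.notMem_empty k) ((Finset.card_eq_zero.1 (by simpa using hm)) ▸ (hmem k).2 hk)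
      · obtain ⟨i, j, hij, hSij⟩ := Finset.card_eq_two.1 (by simpa using hm)
        have hi : u i ≠ 0 := (hmem i).1 (by simp [hSij])
        have hj : u j ≠ 0 := (hmem j).1 (by simp [hSij])
        have hne : u j * (u i)⁻¹ ≠ 0 := mul_ne_zero hj (inv_ne_zero hi)
        have e : u = u i • pv i j (u j * (u i)⁻¹) := by
          funext k
          rw [Pi.smul_apply, smul_eq_mul, pv_apply]
          by_cases hki : k = i
          · subst hki; simp [hij]
          by_cases hkj : k = j
          · subst hkj
            simp only [if_neg hki, if_true, zero_add]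
            field_simp
          · have h0 : u k = 0 := not_not.1 fun h => by
              have := (hmem k).2 h
              simp [hSij, hki, hkj] at this
            simp [hki, hkj, h0]
        rw [e]
        exact hsmul _ (iso_pv hF hij hne) _ hi (h2 i j hij _ hne)
      · exact four_case u (by simpa [hS] using hm)
    · obtain ⟨r, hr⟩ : ∃ r, r ∉ S := by
        refine exists_avoid S ?_
        have := Finset.card_le_univ S
        rw [Fintype.card_fin, hm] at this
        rcases lt_or_eq_of_le this with h | h
        · rw [hm]; exact h
        · exact absurd hev (h ▸ Nat.not_even_iff_odd.2 hodd)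
      obtain ⟨A, hAS, hA3⟩ := Finset.exists_subset_card_eq (s := S) (n := 3) (by omega)
      have hr0 : u r = 0 := not_not.1 fun h => hr ((hmem r).2 h)
      have hrA : r ∉ A := fun h => hr (hAS h)
      set q : Fin n → F := fun k => if k ∈ A then u k else if k = r then 1 else 0 with hq
      have hqS : (Finset.univ.filter fun k => q k ≠ 0) = insert r A := by
        ext k
        by_cases hkA : k ∈ A
        · simp [hq, hkA, (hmem k).1 (hAS hkA)]
        · by_cases hkr : k = r <;> simp [hq, hkA, hkr, hrA]
      have hPq : P q := four_case q (by rw [hqS, Finset.card_insert_of_notMem hrA, hA3])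
      have hqiso : Iso q := by
        refine ⟨fun e => one_ne_zero (α := F) (by simpa [hq, hrA] using congrFun e r), ?_⟩
        rw [herm_self_card hF, hqS, Finset.card_insert_of_notMem hrA, hA3]
        push_cast
        linear_combination 2 * two_zero hF
      have huq : Unitary.herm 2 u q = 1 := by
        have : Unitary.herm 2 u q = ∑ k, q k ^ 2 * u k := by
          conv_lhs => arg 3; rw [Unitary.eq_sum_eI q]
          have hgen : ∀ s : Finset (Fin n), Unitary.herm 2 u (∑ k ∈ s, q k • (Unitary.eI k : Fin n → F))
              = ∑ k ∈ s, q k ^ 2 * u k := by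
            intro s
            induction s using Finset.induction_on with
            | empty => simp [Unitary.herm_zero_right (hF2 hF)]
            | insert a s ha ih => rw [Finset.sum_insert ha, Finset.sum_insert ha, herm_right_add hF,
                herm_right_smul hF, Unitary.herm_eI_right (hF2 hF), ih]
          exact hgen _
        rw [this]
        have e : ∀ k, q k ^ 2 * u k = if k ∈ A then 1 else 0 := fun k => by
          by_cases hkA : k ∈ A
          · simp only [hq, if_pos hkA]
            rw [mul_comm]; exact norm_one hF ((hmem k).1 (hAS hkA))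
          · by_cases hkr : k = r <;> simp [hq, hkA, hkr, hrA, hr0]
        simp only [e, Finset.sum_boole, Finset.filter_mem_eq_inter, Finset.univ_inter, hA3]
        push_cast
        linear_combination two_zero hF
      obtain ⟨u', hu'⟩ : ∃ u', u' = tvv q u := ⟨_, rfl⟩
      have hu'iso : Iso u' := hu' ▸ iso_tvv hF hqiso.2 hu
      have hu'S : (Finset.univ.filter fun k => u' k ≠ 0) = insert r (S \ A) := by
        ext k
        rw [hu', tvv, huq, one_smul]
        by_cases hkA : k ∈ A
        · have hkr : k ≠ r := fun e => hrA (e ▸ hkA)
          simp [hq, hkA, hkr, add_self hF]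
        · by_cases hkr : k = r
          · simp [hq, hkr, hrA, hr0]
          · simp [hq, hkA, hkr, hmem]
      have hlt : (Finset.univ.filter fun k => u' k ≠ 0).card < m := by
        rw [hu'S]
        refine lt_of_le_of_lt (Finset.card_insert_le _ _) ?_
        rw [Finset.card_sdiff_of_subset hAS, hA3, hm]
        omega
      have := hcl q u' hqiso hu'iso hPq (ih _ hlt hu'iso rfl)
      rwa [hu', tvv_tvv hF hqiso.2] at this

end Cfsg.Agent.Sporadic96.TwoRad
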