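import Cfsg.Agent.Sporadic96.TwoRad.Reach

/-!
# The module is the direct product of the weight spaces
-/

set_option autoImplicit false

namespace Cfsg.Agent.Sporadic96.TwoRad

open Cfsg.Agent Cfsg.Agent.Sporadic96.TwoModule

variable {F : Type*} [Field F] [Fintype F] {n : ℕ}
variable {X V : Type*} [Group X] [CommGroup V]

/-- The trace of an element of order three. -/
def tr3 (ρ : X →* MulAut V) (g : X) (v : V) : V := v * ρ g v * ρ (g * g) v

/-- The nine element identity. -/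
theorem nine (hsq : ∀ v : V, v * v = 1) (ρ : X →* MulAut V) {x y w : X} (hxy : Commute x y)
    (hx : x ^ 3 = 1) (hy : y ^ 3 = 1) (hw : w = x * x * y) {u : V} (h1 : tr3 ρ x u = 1)
    (h2 : tr3 ρ (y * x) u = 1) : u = tr3 ρ y u * tr3 ρ w u := by
  have hx3 : x * (x * x) = 1 := by rw [← hx]; simp [pow_succ, mul_assoc]
  have e1 : y * y * (x * x) = (y * x) * (y * x) := by
    rw [mul_assoc y y, show y * (x * x) = (x * x) * y from (hxy.symm.mul_right hxy.symm).eq,
      ← mul_assoc y (x * x) y, show y * (x * x) = y * x * x by rw [mul_assoc]]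
    calc y * x * x * y = y * x * (x * y) := by simp only [mul_assoc]
      _ = y * x * (y * x) := by rw [hxy.eq]
  have e2 : w * w = x * (y * y) := by
    rw [hw]
    calc x * x * y * (x * x * y) = x * x * (y * (x * x)) * y := by simp only [mul_assoc]
      _ = x * x * ((x * x) * y) * y := by rw [(hxy.symm.mul_right hxy.symm).eq]
      _ = (x * (x * x)) * x * (y * y) := by simp only [mul_assoc]
      _ = x * (y * y) := by rw [hx3, one_mul]
  have c1 : y * x = x * y := hxy.symm.eq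
  have c2 : (y * y) * x = x * (y * y) := (hxy.symm.mul_left hxy.symm).eq
  have c3 : y * (x * x) = x * x * y := (hxy.symm.mul_right hxy.symm).eq
  have c4 : (y * y) * (x * x) = x * x * (y * y) :=
    ((hxy.symm.mul_left hxy.symm).mul_right (hxy.symm.mul_left hxy.symm)).eq
  obtain ⟨A, hA⟩ : ∃ A, A = ρ y u := ⟨_, rfl⟩
  obtain ⟨B, hB⟩ : ∃ B, B = ρ (y * y) u := ⟨_, rfl⟩
  obtain ⟨C, hC⟩ : ∃ C, C = ρ (x * y) u := ⟨_, rfl⟩
  obtain ⟨D, hD⟩ : ∃ D, D = ρ (x * (y * y)) u := ⟨_, rfl⟩
  obtain ⟨E, hE⟩ : ∃ E, E = ρ (x * x * y) u := ⟨_, rfl⟩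
  obtain ⟨K, hK⟩ : ∃ K, K = ρ (x * x * (y * y)) u := ⟨_, rfl⟩
  have hz : u * C * K = 1 := by
    rw [← h2, tr3, hC, hK, ← e1, c4, c1]
  have hy1 : A * C * E = 1 := by
    have := congrArg (ρ y) h1
    rw [map_one, tr3, map_mul, map_mul, act_act, act_act, c1, c3, ← hA, ← hC, ← hE] at this
    exact this
  have hy2 : B * D * K = 1 := by
    have := congrArg (ρ (y * y)) h1
    rw [map_one, tr3, map_mul, map_mul, act_act, act_act, c2, c4, ← hB, ← hD, ← hK] at this
    exact this
  rw [tr3, tr3, e2, hw, ← hA, ← hB, ← hE, ← hD]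
  calc u = u * (u * C * K) * ((A * C * E) * (B * D * K)) * 1 := by rw [hz, hy1, hy2]; simp
    _ = (u * A * B * (u * E * D)) * ((C * C) * (K * K)) := by ac_rfl
    _ = u * A * B * (u * E * D) := by rw [hsq, hsq, mul_one, mul_one]

namespace Frame

variable {ρ : X →* MulAut V} {pt : (Fin n → F) → X} {ω : F} (H : Frame ρ pt ω)

include H

theorem fix_tr3 {g : X} (hg : g ^ 3 = 1) (v : V) : ρ g (tr3 ρ g v) = tr3 ρ g v := by
  rw [tr3, map_mul, map_mul, act_act, act_act,
    show g * (g * g) = 1 by rw [← hg]; simp [pow_succ, mul_assoc], act_one]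
  ac_rfl

theorem fix_xe_of_commute {g : X} {h : X} (hc : Commute g h) {v : V} (hv : ρ h v = v) :
    ρ h (ρ g v) = ρ g v := by
  rw [act_act, ← hc.eq, ← act_act, hv]

theorem fix_tr3_of_commute {g h : X} (hc : Commute g h) {v : V} (hv : ρ h v = v) :
    ρ h (tr3 ρ g v) = tr3 ρ g v := by
  rw [tr3, map_mul, map_mul, hv, H.fix_xe_of_commute hc hv, H.fix_xe_of_commute (hc.mul_left hc) hv]

/-- `τ` fixes the vectors with the same support. -/
theorem tau_commute {i j k l o : Fin n} (hij : i ≠ j) (hik : i ≠ k)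
    (hil : i ≠ l) (hjk : j ≠ k) (hjl : j ≠ l) (hkl : k ≠ l) (hio : i ≠ o) (hjo : j ≠ o) (hko : k ≠ o)
    (hlo : l ≠ o) {w : Fin n → F} (hw : Iso w)
    (hs : ∀ m, m ≠ i → m ≠ j → m ≠ k → m ≠ l → w m = 0) :
    Commute (xe pt ω i o * xe pt ω j o * (xe pt ω k o * xe pt ω l o)) (pt w) := by
  have hwo : w o = 0 := hs o hio.symm hjo.symm hko.symm hlo.symm
  have e : dg ω i o (dg ω j o (dg ω k o (dg ω l o w))) = ω • w := by
    funext m
    simp only [dg, Pi.smul_apply, smul_eq_mul]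
    by_cases hmo : m = o
    · subst hmo
      simp [hio.symm, hjo.symm, hko.symm, hlo.symm, hwo]
    by_cases hmi : m = i
    · subst hmi; simp [hio, hij, hik, hil]
    by_cases hmj : m = j
    · subst hmj; simp [hjo, hij.symm, hjk, hjl]
    by_cases hmk : m = k
    · subst hmk; simp [hko, hik.symm, hjk.symm, hkl]
    by_cases hml : m = l
    · subst hml; simp [hlo, hil.symm, hjl.symm, hkl.symm]
    simp [hmo, hmi, hmj, hmk, hml, hs m hmi hmj hmk hml]
  have hd : ∀ (s : Fin n) (hs' : s ≠ o) (z : Fin n → F), Iso z → Iso (dg ω s o z) :=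
    fun s hs' z hz => by
      rw [← tvv_dg H.hF H.ω2 hs']
      exact iso_tvv H.hF (H.iso s o hs' one_ne_zero).2 (iso_tvv H.hF (H.iso s o hs' H.ω0).2 hz)
  refine mul_inv_eq_iff_eq_mul.1 ?_
  calc (xe pt ω i o * xe pt ω j o * (xe pt ω k o * xe pt ω l o)) * pt w *
      (xe pt ω i o * xe pt ω j o * (xe pt ω k o * xe pt ω l o))⁻¹ = xe pt ω i o * (xe pt ω j o * (xe pt ω k o * (xe pt ω l o * pt w *
        (xe pt ω l o)⁻¹) * (xe pt ω k o)⁻¹) * (xe pt ω j o)⁻¹) * (xe pt ω i o)⁻¹ := by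
        group
    _ = pt (dg ω i o (dg ω j o (dg ω k o (dg ω l o w)))) := by
        rw [H.xe_conj hlo hw, H.xe_conj hko (hd l hlo w hw),
          H.xe_conj hjo (hd k hko _ (hd l hlo w hw)),
          H.xe_conj hio (hd j hjo _ (hd k hko _ (hd l hlo w hw)))]
    _ = pt w := by rw [e, H.rep.smul w hw ω H.ω0]

/-- Only the identity is fixed by `τ` in `[V, p]`. -/
theorem tau_free {u : Fin n → F} (hu : Iso u) {i j k l o : Fin n} (hij : i ≠ j) (hik : i ≠ k)
    (hil : i ≠ l) (hjk : j ≠ k) (hjl : j ≠ l) (hkl : k ≠ l) (hio : i ≠ o) (hjo : j ≠ o) (hko : k ≠ o)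
    (hlo : l ≠ o) (hui : u i = 1) (huj : u j = 1)
    (hsupp : ∀ m, m ≠ i → m ≠ j → m ≠ k → m ≠ l → u m = 0)
    {v : V} (hv : v ∈ R ρ (pt u))
    (hτ : ρ (xe pt ω i o * xe pt ω j o * (xe pt ω k o * xe pt ω l o)) v = v) : v = 1 := by
  set τ := xe pt ω i o * xe pt ω j o * (xe pt ω k o * xe pt ω l o) with hτdef
  have h2 := two_zero H.hF
  obtain ⟨a, ha⟩ : ∃ a : Fin n → F, a = pv i j ω := ⟨_, rfl⟩
  have hai : Iso a := ha ▸ H.iso i j hij H.ω0
  have hsa : ∀ m, m ≠ i → m ≠ j → m ≠ k → m ≠ l → a m = 0 := fun m h1 h2 _ _ => by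
    simp [ha, pv_apply, h1, h2]
  have hnc : ¬ Commute (pt u) (pt a) := by
    rw [H.rep.comm _ _ hu hai, ha, herm_pv H.hF, hui, huj, H.ω2]
    intro h
    exact H.ω0 (by linear_combination h - h2)
  suffices hA : A ρ (pt a) v = 1 by
    rw [A_apply, mul_eq_one_iff_eq_inv, H.rep.mod.inv_self] at hA
    exact H.rep.mod.inj_R (H.mem hu) (H.mem hai) hnc hv hA
  set w := A ρ (pt a) v with hw
  have hwR : w ∈ R ρ (pt a) := A_mem _ _
  have hwτ : ρ τ w = w := by
    rw [hw, A_apply, map_mul, hτ, H.fix_xe_of_commute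
      (H.tau_commute hij hik hil hjk hjl hkl hio hjo hko hlo hai hsa).symm hτ]
  have hkl' : ∀ m, m = k ∨ m = l → ρ (xe pt ω m o) w = w := by
    intro m hm
    have hmo : m ≠ o := by rcases hm with rfl | rfl <;> assumption
    have hm0 : a m = 0 := by
      rcases hm with rfl | rfl
      · simp [ha, pv_apply, hik.symm, hjk.symm]
      · simp [ha, pv_apply, hil.symm, hjl.symm]
    have hao : a o = 0 := by simp [ha, pv_apply, hio.symm, hjo.symm]
    have hfix : ∀ c : F, c ≠ 0 → ρ (pt (pv m o c)) w = w := fun c hc =>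
      H.rep.mod.quad' (H.mem hai) (H.mem (H.iso m o hmo hc)) (by
        rw [H.rep.comm _ _ hai (H.iso m o hmo hc), herm_pv H.hF, hm0, hao, mul_zero, add_zero]) hwR
    rw [xe, ← act_act, hfix ω H.ω0, hfix 1 one_ne_zero]
  have hz : ρ (xe pt ω i o * xe pt ω j o) w = w := by
    rw [hτdef, ← act_act (xe pt ω i o * xe pt ω j o), ← act_act (xe pt ω k o), hkl' l (Or.inr rfl),
      hkl' k (Or.inl rfl)] at hwτ
    exact hwτ
  have hz' : ρ (xe pt ω o j * xe pt ω o i) w = w := by
    have : xe pt ω o j * xe pt ω o i = (xe pt ω i o * xe pt ω j o)⁻¹ := by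
      rw [H.xe_symm hjo, H.xe_symm hio, mul_inv_rev]
    conv_lhs => rw [this, ← hz, act_act, inv_mul_cancel, act_one]
  have hfix := ((H.tri hio.symm hij hjo.symm).2 w hz').1
  refine H.rep.mod.inj_R (H.mem hai) (H.mem (H.iso o i hio.symm one_ne_zero)) ?_ hwR hfix
  rw [H.rep.comm _ _ hai (H.iso o i hio.symm one_ne_zero), ha, herm_pv H.hF, pv_apply, pv_apply]
  simp [hio.symm, hjo.symm, hij]

/-- Only the identity is fixed by all torus elements. -/
theorem fix_all (hodd : Odd n) {v : V} (hv : ∀ k l, k ≠ l → ρ (xe pt ω k l) v = v) : v = 1 := by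
  have hn := H.hn
  have hmono : ∀ i j, i ≠ j → ∀ a : F, a ≠ 0 → ρ (pt (pv i j a)) v = v := by
    intro i j hij a ha
    obtain ⟨m, hm⟩ := exists_avoid ({i, j} : Finset (Fin n))
      (Nat.lt_of_le_of_lt Finset.card_le_two (by omega))
    simp only [Finset.mem_insert, Finset.mem_singleton, not_or] at hm
    exact H.fix_pts hij (Ne.symm hm.2) (Ne.symm hm.1) (hv i j hij) (hv i m (Ne.symm hm.1)) ha
  refine H.rep.fix_one v fun u hu => reach H.hF H.ω0 H.ω1 H.ω2 hn hodd (fun u => ρ (pt u) v = v)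
    (fun u hu a ha h => by show ρ (pt (a • u)) v = v; rw [H.rep.smul u hu a ha]; exact h) hmono ?_
    (fun a b ha hb h1 h2 => by
      show ρ (pt (tvv a b)) v = v
      rw [← H.rep.conj a b ha hb, ← act_act, ← act_act, h1, h2, h1]) hu
  -- the point of weight four
  have hp := iso_p4 H.hF (n := n) hn
  let i : Fin n := ⟨0, by omega⟩
  let j : Fin n := ⟨1, by omega⟩
  let k : Fin n := ⟨2, by omega⟩
  let l : Fin n := ⟨3, by omega⟩
  let o : Fin n := ⟨4, by omega⟩
  have hne : ∀ a b : Fin n, a.val ≠ b.val → a ≠ b := fun a b h e => h (congrArg Fin.val e)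
  have hsupp : ∀ m, m ≠ i → m ≠ j → m ≠ k → m ≠ l → (p4 : Fin n → F) m = 0 := fun m h1 h2 h3 h4 => by
    have : ¬ m.val < 4 := fun h => by
      rcases (show m.val = 0 ∨ m.val = 1 ∨ m.val = 2 ∨ m.val = 3 by omega) with e | e | e | e
      · exact h1 (Fin.ext e)
      · exact h2 (Fin.ext e)
      · exact h3 (Fin.ext e)
      · exact h4 (Fin.ext e)
    simp [p4, this]
  have hw : A ρ (pt p4) v = 1 := by
    refine H.tau_free hp (i := i) (j := j) (k := k) (l := l) (o := o) (hne _ _ (by simp [i, j, k, l, o]))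
      (hne _ _ (by simp [i, j, k, l, o])) (hne _ _ (by simp [i, j, k, l, o])) (hne _ _ (by simp [i, j, k, l, o])) (hne _ _ (by simp [i, j, k, l, o]))
      (hne _ _ (by simp [i, j, k, l, o])) (hne _ _ (by simp [i, j, k, l, o])) (hne _ _ (by simp [i, j, k, l, o])) (hne _ _ (by simp [i, j, k, l, o]))
      (hne _ _ (by simp [i, j, k, l, o])) (by simp [p4, i]) (by simp [p4, j]) hsupp
      (A_mem _ _) ?_
    · have hd : ∀ m : Fin n, m.val < 4 → ρ (xe pt ω m o) v = v := fun m hm =>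
        hv m o (hne _ _ (by show m.val ≠ 4; omega))
      have hτv : ρ (xe pt ω i o * xe pt ω j o * (xe pt ω k o * xe pt ω l o)) v = v := by
        simp only [← act_act]
        rw [hd l (by simp [l]), hd k (by simp [k]), hd j (by simp [j]), hd i (by simp [i])]
      rw [A_apply, map_mul, hτv, H.fix_xe_of_commute ?_ hτv]
      exact (H.tau_commute (hne _ _ (by simp [i, j])) (hne _ _ (by simp [i, k])) (hne _ _ (by simp [i, l]))
        (hne _ _ (by simp [j, k])) (hne _ _ (by simp [j, l])) (hne _ _ (by simp [k, l]))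
        (hne _ _ (by simp [i, o])) (hne _ _ (by simp [j, o])) (hne _ _ (by simp [k, o]))
        (hne _ _ (by simp [l, o])) hp hsupp).symm
  rw [A_apply, mul_eq_one_iff_eq_inv, H.rep.mod.inv_self] at hw
  exact hw

/-- The commutator space of a monomial point lies in two weight spaces. -/
theorem R_le {i j : Fin n} (hij : i ≠ j) {c : F} (hc : c ≠ 0) :
    R ρ (pt (pv i j c)) ≤ Wgt ρ pt ω i ⊔ Wgt ρ pt ω j := by
  intro u hu
  obtain ⟨k, hk⟩ := exists_avoid ({i, j} : Finset (Fin n))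
    (Nat.lt_of_le_of_lt Finset.card_le_two (by have := H.hn; omega))
  simp only [Finset.mem_insert, Finset.mem_singleton, not_or] at hk
  obtain ⟨hki, hkj⟩ := hk
  set x := xe pt ω i j with hx
  set y := xe pt ω i k with hy
  have hcI := H.iso i j hij hc
  -- `u` has trace one on the line and on `y x`
  have h1 : tr3 ρ x u = 1 := by
    have hnc : ¬ Commute (pt (pv i j c)) (pt (pv i j (c * ω))) := by
      rw [H.rep.comm _ _ hcI (H.iso i j hij (mul_ne_zero hc H.ω0)), herm_pv H.hF, pv_apply, pv_apply]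
      simp only [if_true, if_neg hij, if_neg hij.symm, add_zero, zero_add]
      intro h
      have h3 := cube_one H.hF hc
      have : (1 : F) + ω ^ 2 = 0 := by linear_combination h - ω ^ 2 * h3
      rw [H.ω2] at this
      exact H.ω0 (by linear_combination this - two_zero H.hF)
    have h := H.rep.mod.tr_R (H.mem hcI) (H.mem (H.iso i j hij (mul_ne_zero hc H.ω0))) hnc hu
    rw [Mod.tr, H.rotate hij hc] at h
    rw [tr3]
    convert h using 3
    rw [hx, H.xe_sq hij, ← H.rotate hij hc, mul_inv_rev, H.inv_pt hcI,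
      H.inv_pt (H.iso i j hij (mul_ne_zero hc H.ω0))]
  have hzc : Commute (y * x) (pt (pv i j c)) := by
    have e : dg ω i k (dg ω i j (pv i j c)) = ω ^ 2 • pv i j c := by
      funext m
      simp only [dg, Pi.smul_apply, smul_eq_mul, pv_apply]
      by_cases hmi : m = i
      · subst hmi; simp [hij]; ring
      by_cases hmj : m = j
      · subst hmj; simp [hij.symm, Ne.symm hkj]
      · by_cases hmk : m = k
        · subst hmk; simp [hki, hkj]
        · simp [hmi, hmj, hmk]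
    refine mul_inv_eq_iff_eq_mul.1 ?_
    rw [mul_inv_rev, show y * x * pt (pv i j c) * (x⁻¹ * y⁻¹) = y * (x * pt (pv i j c) * x⁻¹) * y⁻¹ by
      group, hx, H.xe_conj hij hcI, hy, H.xe_conj (Ne.symm hki) (by
        rw [← tvv_dg H.hF H.ω2 hij]
        exact iso_tvv H.hF (H.iso i j hij one_ne_zero).2 (iso_tvv H.hF (H.iso i j hij H.ω0).2 hcI)),
      e, H.rep.smul _ hcI _ (pow_ne_zero _ H.ω0)]
  have hxy : Commute x y := H.xe_commute hij (Ne.symm hki)
  have x3 := H.xe_cube hij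
  have y3 := H.xe_cube (Ne.symm hki)
  have h2 : tr3 ρ (y * x) u = 1 := by
    set T := tr3 ρ (y * x) u with hT
    have hfix : ρ (y * x) T = T := H.fix_tr3 (by rw [hxy.symm.mul_pow, x3, y3, one_mul]) u
    have hTR : T ∈ R ρ (pt (pv i j c)) := by
      have hmem : ∀ g : X, Commute g (pt (pv i j c)) → ρ g u ∈ R ρ (pt (pv i j c)) := fun g hg => by
        have := Mod.conjR (ρ := ρ) g hu
        rwa [hg.eq, mul_inv_cancel_right] at this
      exact mul_mem (mul_mem hu (hmem _ hzc)) (hmem _ (hzc.mul_left hzc))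
    obtain ⟨-, hfj⟩ := (H.tri hij (Ne.symm hkj) (Ne.symm hki)).2 T hfix
    refine H.rep.mod.inj_R (H.mem hcI) (H.mem (H.iso j k (Ne.symm hkj) one_ne_zero)) ?_ hTR hfj
    rw [H.rep.comm _ _ hcI (H.iso j k (Ne.symm hkj) one_ne_zero), herm_pv H.hF, pv_apply, pv_apply]
    simp [hij.symm, hki, hkj, hc]
  have hw : xe pt ω j k = x * x * y := by
    rw [hx, H.xe_sq hij, eq_inv_mul_iff_mul_eq]
    exact H.cocycle hij (Ne.symm hkj) (Ne.symm hki)
  rw [nine H.rep.mod.sq ρ hxy x3 y3 hw h1 h2]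
  -- the two traces are weight vectors
  have key : ∀ (i' j' : Fin n) (g : X), i' ≠ j' → i' ≠ k → j' ≠ k → g = xe pt ω i' k →
      (∀ l m, l ≠ i' → l ≠ j' → m ≠ i' → m ≠ j' → l ≠ m → ρ (xe pt ω l m) u = u) →
      tr3 ρ g u ∈ Wgt ρ pt ω j' := by
    intro i' j' g hij' hik' hjk' hg hfix l m hl hm hlm
    have hg3 : g ^ 3 = 1 := hg ▸ H.xe_cube hik'
    set T := tr3 ρ g u with hT
    have hgT : ρ g T = T := H.fix_tr3 hg3 u
    -- torus elements through `i'`
    have hthru : ∀ s, s ≠ j' → s ≠ i' → ρ (xe pt ω i' s) T = T := by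
      intro s hs hs'
      by_cases hsk : s = k
      · rw [hsk, ← hg]; exact hgT
      rw [← H.cocycle hik' (Ne.symm hsk) (Ne.symm hs'), ← act_act,
        H.fix_tr3_of_commute (hg ▸ H.xe_commute hik' (Ne.symm hsk))
          (hfix k s (Ne.symm hik') (Ne.symm hjk') hs' hs (Ne.symm hsk)), ← hg, hgT]
    by_cases hli : l = i'
    · subst hli; exact hthru m hm (Ne.symm hlm)
    by_cases hmi : m = i'
    · subst hmi
      rw [H.xe_symm (Ne.symm hlm)]
      conv_lhs => rw [← hthru l hl hlm, act_act, inv_mul_cancel, act_one]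
    exact H.fix_tr3_of_commute (hg ▸ H.xe_commute hik' hlm) (hfix l m hli hl hmi hm hlm)
  have hout : ∀ l m, l ≠ i → l ≠ j → m ≠ i → m ≠ j → l ≠ m → ρ (xe pt ω l m) u = u := by
    intro l m hli hlj hmi hmj hlm
    have hf : ∀ a : F, a ≠ 0 → ρ (pt (pv l m a)) u = u := fun a ha =>
      H.rep.mod.quad' (H.mem hcI) (H.mem (H.iso l m hlm ha)) (by
        rw [H.rep.comm _ _ hcI (H.iso l m hlm ha), herm_pv H.hF, pv_apply, pv_apply]
        simp [hli, hlj, hmi, hmj]) hu
    rw [xe, ← act_act, hf ω H.ω0, hf 1 one_ne_zero]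
  rw [sup_comm]
  exact mul_mem (Subgroup.mem_sup_left (key i j y hij (Ne.symm hki) (Ne.symm hkj) hy hout))
    (Subgroup.mem_sup_right (key j i _ hij.symm (Ne.symm hkj) (Ne.symm hki) rfl
      fun l m h1 h2 h3 h4 h5 => hout l m h2 h1 h4 h3 h5))

theorem span (hodd : Odd n) : (⨆ i, Wgt ρ pt ω i) = (⊤ : Subgroup V) := by
  set S := ⨆ i, Wgt ρ pt ω i with hS
  have hn := H.hn
  let o : Fin n := ⟨0, by omega⟩
  rw [eq_top_iff]
  intro u _
  have hstep : ∀ s : Finset (Fin n), o ∉ s →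
      ∃ w, u * w ∈ S ∧ ∀ j ∈ s, ρ (xe pt ω o j) w = w := by
    intro s
    induction s using Finset.induction_on with
    | empty => intro _; exact ⟨u, by rw [H.rep.mod.sq]; exact one_mem _, fun j hj => absurd hj (Finset.notMem_empty j)⟩
    | insert j s hjs ih =>
      intro ho
      simp only [Finset.mem_insert, not_or] at ho
      obtain ⟨w, hw, hfix⟩ := ih ho.2
      set x := xe pt ω o j with hx
      refine ⟨tr3 ρ x w, ?_, fun m hm => ?_⟩
      · have h1 : ρ x w * ρ (x * x) w ∈ S := by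
          have := H.rep.mod.one_add_x_mem (pt (pv o j 1)) (pt (pv o j ω)) (ρ x w)
          change ρ x (ρ x w) * ρ x w ∈ _ at this
          rw [act_act, mul_comm] at this
          refine (sup_le ?_ ?_ : R ρ (pt (pv o j 1)) ⊔ R ρ (pt (pv o j ω)) ≤ S) this
          · exact (H.R_le ho.1 one_ne_zero).trans (sup_le (le_iSup _ o) (le_iSup _ j))
          · exact (H.R_le ho.1 H.ω0).trans (sup_le (le_iSup _ o) (le_iSup _ j))
        have := mul_mem hw h1
        rwa [mul_assoc, ← mul_assoc w, ← tr3] at this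
      · rcases Finset.mem_insert.1 hm with rfl | hm
        · exact H.fix_tr3 (H.xe_cube ho.1) w
        · exact H.fix_tr3_of_commute (H.xe_commute ho.1 fun (e : o = m) => ho.2 (by rw [e]; exact hm)) (hfix m hm)
  obtain ⟨w, hw, hfix⟩ := hstep (Finset.univ.erase o) (Finset.notMem_erase _ _)
  have hw1 : w = 1 := H.fix_all hodd fun k l hkl => by
    have ho : ∀ m, m ≠ o → ρ (xe pt ω o m) w = w := fun m hm => hfix m (by simp [hm])
    by_cases hko : k = o
    · subst hko; exact ho l hkl.symm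
    by_cases hlo : l = o
    · subst hlo
      rw [H.xe_symm hkl.symm]
      conv_lhs => rw [← ho k hkl, act_act, inv_mul_cancel, act_one]
    have hk := ho k hko
    rw [← H.cocycle hko (Ne.symm hlo) hkl, ← act_act, ho l hlo, H.xe_symm (Ne.symm hko)]
    conv_lhs => rw [← hk, act_act, inv_mul_cancel, act_one]
  rwa [hw1, mul_one] at hw

end Frame

end Cfsg.Agent.Sporadic96.TwoRad
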