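import Cfsg.Agent.Sporadic96.TwoRad.Rep

/-!
# Weight spaces of the monomial torus
-/

set_option autoImplicit false

namespace Cfsg.Agent.Sporadic96.TwoRad

open Cfsg.Agent Cfsg.Agent.Sporadic96.TwoModule

variable {F : Type*} [Field F] [Fintype F] {n : ℕ}

/-- The vector `e_i + a e_j`. -/
def pv (i j : Fin n) (a : F) : Fin n → F := Unitary.eI i + a • Unitary.eI j

/-- The map `diag` with `ω` at `i` and `ω²` at `j`. -/
def dg (ω : F) (i j : Fin n) (w : Fin n → F) : Fin n → F :=
  fun k => if k = i then ω * w k else if k = j then ω ^ 2 * w k else w k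

omit [Fintype F] in
theorem pv_apply (i j k : Fin n) (a : F) :
    pv i j a k = (if k = i then 1 else 0) + (if k = j then a else 0) := by
  simp [pv, Unitary.eI, Pi.single_apply]

theorem exists_avoid (s : Finset (Fin n)) (h : s.card < n) : ∃ m, m ∉ s := by
  by_contra hcon
  push Not at hcon
  have := Finset.card_le_card (fun m _ => hcon m : (Finset.univ : Finset (Fin n)) ⊆ s)
  rw [Finset.card_univ, Fintype.card_fin] at this
  omega

section geometry

variable (hF : Fintype.card F = 4)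

include hF

theorem herm_pv (w : Fin n → F) (i j : Fin n) (a : F) :
    Unitary.herm 2 w (pv i j a) = w i + a ^ 2 * w j := by
  rw [pv, herm_right_add hF, herm_right_smul hF, Unitary.herm_eI_right (hF2 hF),
    Unitary.herm_eI_right (hF2 hF)]

theorem iso_pv {i j : Fin n} (hij : i ≠ j) {a : F} (ha : a ≠ 0) : Iso (pv i j a) := by
  refine ⟨fun e => one_ne_zero (α := F) ?_, ?_⟩
  · have := congrFun e i
    simpa [pv_apply, hij] using this
  · rw [herm_pv hF, pv_apply, pv_apply]
    simp only [if_true, if_neg hij, if_neg hij.symm, add_zero, zero_add]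
    linear_combination cube_one hF ha + two_zero hF

theorem tvv_swap {i j : Fin n} (hij : i ≠ j) (w : Fin n → F) :
    tvv (pv i j 1) w = w ∘ Equiv.swap i j := by
  funext k
  rw [tvv, herm_pv hF, Pi.add_apply, Pi.smul_apply, smul_eq_mul, pv_apply, Function.comp_apply]
  by_cases hki : k = i
  · subst hki
    rw [Equiv.swap_apply_left, if_pos rfl, if_neg hij]
    linear_combination w k * two_zero hF
  by_cases hkj : k = j
  · subst hkj
    rw [Equiv.swap_apply_right, if_pos rfl, if_neg hij.symm]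
    linear_combination w k * two_zero hF
  · rw [Equiv.swap_apply_of_ne_of_ne hki hkj, if_neg hki, if_neg hkj]
    ring

theorem tvv_dg {ω : F} (hω : ω ^ 2 = ω + 1) {i j : Fin n} (hij : i ≠ j) (w : Fin n → F) :
    tvv (pv i j 1) (tvv (pv i j ω) w) = dg ω i j w := by
  have h2 := two_zero hF
  funext k
  rw [tvv_swap hF hij, Function.comp_apply, tvv, herm_pv hF, Pi.add_apply, Pi.smul_apply, smul_eq_mul,
    pv_apply, dg]
  by_cases hki : k = i
  · subst hki
    rw [Equiv.swap_apply_left, if_pos rfl, if_neg hij.symm, if_pos rfl, hω]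
    linear_combination (w j + ω * w j) * h2 + ω * w j * hω - w j * (ω + 1) * hω + w j * (ω ^ 2 - ω - 1) * h2
  by_cases hkj : k = j
  · subst hkj
    rw [Equiv.swap_apply_right, if_pos rfl, if_neg hij, if_neg hki, if_pos rfl]
    linear_combination w i * h2
  · rw [Equiv.swap_apply_of_ne_of_ne hki hkj, if_neg hki, if_neg hkj, if_neg hki, if_neg hkj]
    ring

end geometry

variable {X V : Type*} [Group X] [CommGroup V]

/-- The torus element on the coordinates `i`, `j`. -/
def xe (pt : (Fin n → F) → X) (ω : F) (i j : Fin n) : X := pt (pv i j 1) * pt (pv i j ω)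

/-- The weight space of `i`. -/
def Wgt (ρ : X →* MulAut V) (pt : (Fin n → F) → X) (ω : F) (i : Fin n) : Subgroup V where
  carrier := {v | ∀ k l, k ≠ i → l ≠ i → k ≠ l → ρ (xe pt ω k l) v = v}
  one_mem' k l _ _ _ := map_one _
  mul_mem' ha hb k l h1 h2 h3 := by rw [map_mul, ha k l h1 h2 h3, hb k l h1 h2 h3]
  inv_mem' ha k l h1 h2 h3 := by rw [map_inv, ha k l h1 h2 h3]

/-- The complement of the fixed vectors of an element of order three. -/
def EE (ρ : X →* MulAut V) (g : X) : V →* V := (ρ g).toMonoidHom * (ρ (g * g)).toMonoidHom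

theorem EE_apply (ρ : X →* MulAut V) (g : X) (v : V) : EE ρ g v = ρ g v * ρ (g * g) v := rfl

/-- Hypotheses for the constructions. -/
structure Frame (ρ : X →* MulAut V) (pt : (Fin n → F) → X) (ω : F) : Prop where
  rep : Rep ρ pt
  ω0 : ω ≠ 0
  ω1 : ω ≠ 1
  ω2 : ω ^ 2 = ω + 1
  hn : 5 ≤ n

namespace Frame

variable {ρ : X →* MulAut V} {pt : (Fin n → F) → X} {ω : F} (H : Frame ρ pt ω)

include H

theorem hF : Fintype.card F = 4 := H.rep.hF

theorem ω3 : ω ^ 3 = 1 := cube_one H.hF H.ω0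

theorem mem {u : Fin n → F} (hu : Iso u) : pt u ∈ pt '' {u | Iso u} := ⟨u, hu, rfl⟩

theorem sq_pt {u : Fin n → F} (hu : Iso u) : pt u * pt u = 1 :=
  FischerSpace.mul_self H.rep.mod.set (H.mem hu)

theorem inv_pt {u : Fin n → F} (hu : Iso u) : (pt u)⁻¹ = pt u :=
  FischerSpace.inv_eq H.rep.mod.set (H.mem hu)

theorem conj_inv {u v : Fin n → F} (hu : Iso u) (hv : Iso v) :
    pt u * pt v * (pt u)⁻¹ = pt (tvv u v) := by rw [H.inv_pt hu]; exact H.rep.conj u v hu hv

theorem iso (i j : Fin n) (hij : i ≠ j) {a : F} (ha : a ≠ 0) : Iso (pv i j a) := iso_pv H.hF hij ha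

theorem pt_symm {i j : Fin n} (hij : i ≠ j) {a : F} (ha : a ≠ 0) :
    pt (pv j i a) = pt (pv i j (a ^ 2)) := by
  rw [← H.rep.smul _ (H.iso i j hij (pow_ne_zero _ ha)) a ha]
  congr 1
  rw [pv, pv, smul_add, smul_smul, ← pow_succ', cube_one H.hF ha, one_smul, add_comm]

theorem nc {i j : Fin n} (hij : i ≠ j) :
    ¬ Commute (pt (pv i j 1)) (pt (pv i j ω)) := by
  rw [H.rep.comm _ _ (H.iso i j hij one_ne_zero) (H.iso i j hij H.ω0), herm_pv H.hF, pv_apply,
    pv_apply, if_pos rfl, if_neg hij, if_neg hij.symm, if_pos rfl, H.ω2]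
  intro h
  exact H.ω0 (by linear_combination h - two_zero H.hF)

theorem third {i j : Fin n} (hij : i ≠ j) :
    pt (pv i j 1) * pt (pv i j ω) * pt (pv i j 1) = pt (pv i j (ω ^ 2)) := by
  rw [H.rep.conj _ _ (H.iso i j hij one_ne_zero) (H.iso i j hij H.ω0), tvv_swap H.hF hij,
    ← H.pt_symm hij H.ω0]
  congr 1
  funext k
  simp only [Function.comp_apply, pv_apply, Equiv.swap_apply_def]
  split_ifs <;> simp_all

theorem xe_conj {i j : Fin n} (hij : i ≠ j) {w : Fin n → F} (hw : Iso w) :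
    xe pt ω i j * pt w * (xe pt ω i j)⁻¹ = pt (dg ω i j w) := by
  have h1 := H.iso i j hij one_ne_zero
  have h2 := H.iso i j hij H.ω0
  rw [xe, mul_inv_rev, ← tvv_dg H.hF H.ω2 hij, ← H.conj_inv h1 (iso_tvv H.hF h2.2 hw),
    ← H.conj_inv h2 hw]
  simp only [mul_assoc]

theorem xe_cube {i j : Fin n} (hij : i ≠ j) : xe pt ω i j ^ 3 = 1 :=
  FischerSpace.cube_eq_one H.rep.mod.set (H.mem (H.iso i j hij one_ne_zero))
    (H.mem (H.iso i j hij H.ω0)) (H.nc hij)

theorem xe_symm {i j : Fin n} (hij : i ≠ j) : xe pt ω j i = (xe pt ω i j)⁻¹ := by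
  rw [xe, xe, mul_inv_rev, H.inv_pt (H.iso i j hij H.ω0), H.inv_pt (H.iso i j hij one_ne_zero),
    H.pt_symm hij one_ne_zero, one_pow, H.pt_symm hij H.ω0, ← H.third hij, ← mul_assoc, ← mul_assoc,
    H.sq_pt (H.iso i j hij one_ne_zero), one_mul]

theorem xe_sq {i j : Fin n} (hij : i ≠ j) : xe pt ω i j * xe pt ω i j = (xe pt ω i j)⁻¹ :=
  eq_inv_of_mul_eq_one_left (by rw [← H.xe_cube hij, pow_succ, pow_two])

/-- The ordered pairs of points of a line all give the same torus element. -/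
theorem rotate {i j : Fin n} (hij : i ≠ j) {a : F} (ha : a ≠ 0) :
    pt (pv i j a) * pt (pv i j (a * ω)) = xe pt ω i j := by
  have h1 := H.sq_pt (H.iso i j hij one_ne_zero)
  have h2 := H.sq_pt (H.iso i j hij H.ω0)
  have hb := FischerSpace.braid H.rep.mod.set (H.mem (H.iso i j hij one_ne_zero))
    (H.mem (H.iso i j hij H.ω0)) (H.nc hij)
  rcases four H.hF H.ω0 H.ω1 a with rfl | rfl | rfl | rfl
  · exact absurd rfl ha
  · rw [one_mul]; rfl
  · rw [← pow_two, ← H.third hij, hb, ← mul_assoc, ← mul_assoc, h2, one_mul]; rfl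
  · rw [← pow_succ, H.ω3, ← H.third hij, mul_assoc, h1, mul_one]; rfl

theorem xe_commute {i j k l : Fin n} (hij : i ≠ j) (hkl : k ≠ l) :
    Commute (xe pt ω i j) (xe pt ω k l) := by
  set μ : Fin n → F := fun m => if m = i then ω else if m = j then ω ^ 2 else 1 with hμ
  have hμ0 : ∀ m, μ m ≠ 0 := fun m => by
    simp only [hμ]; split_ifs <;> simp [H.ω0]
  have hdg : ∀ a : F, dg ω i j (pv k l a) = μ k • pv k l (a * (μ l * (μ k)⁻¹)) := fun a => by
    funext m
    have e : dg ω i j (pv k l a) m = μ m * pv k l a m := by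
      simp only [dg, hμ]; split_ifs <;> simp
    rw [e, Pi.smul_apply, smul_eq_mul, pv_apply, pv_apply]
    by_cases hmk : m = k
    · subst hmk; simp [hkl]
    by_cases hml : m = l
    · subst hml
      simp only [if_neg hmk, if_true, zero_add]
      field_simp [hμ0 k]
    · simp [hmk, hml]
  have hc : μ l * (μ k)⁻¹ ≠ 0 := mul_ne_zero (hμ0 l) (inv_ne_zero (hμ0 k))
  show xe pt ω i j * xe pt ω k l = xe pt ω k l * xe pt ω i j
  rw [← mul_inv_eq_iff_eq_mul]
  conv_lhs => arg 1; arg 2; unfold xe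
  rw [show xe pt ω i j * (pt (pv k l 1) * pt (pv k l ω)) * (xe pt ω i j)⁻¹
      = (xe pt ω i j * pt (pv k l 1) * (xe pt ω i j)⁻¹) *
        (xe pt ω i j * pt (pv k l ω) * (xe pt ω i j)⁻¹) by group,
    H.xe_conj hij (H.iso k l hkl one_ne_zero), H.xe_conj hij (H.iso k l hkl H.ω0), hdg, hdg,
    H.rep.smul _ (H.iso k l hkl (mul_ne_zero one_ne_zero hc)) _ (hμ0 k),
    H.rep.smul _ (H.iso k l hkl (mul_ne_zero H.ω0 hc)) _ (hμ0 k), one_mul, mul_comm ω,
    H.rotate hkl hc]

/-- The relations in an affine plane. -/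
theorem tri {i j k : Fin n} (hij : i ≠ j) (hjk : j ≠ k) (hik : i ≠ k) :
    xe pt ω i j * xe pt ω j k = xe pt ω i k ∧
      ∀ v, ρ (xe pt ω i k * xe pt ω i j) v = v →
        ρ (pt (pv i j 1)) v = v ∧ ρ (pt (pv j k 1)) v = v := by
  have hd := H.iso i j hij one_ne_zero
  have hf := H.iso i j hij H.ω0
  have ha := H.iso j k hjk one_ne_zero
  have hn' : ∀ w : Fin n → F, Iso w → w i ≠ 0 → w j ≠ 0 → w k = 0 →
      ¬ Commute (pt (pv j k 1)) (pt w) := fun w hw _ hwj hwk => by
    rw [H.rep.comm _ _ ha hw, herm_swap H.hF, herm_pv H.hF, hwk, mul_zero, add_zero]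
    exact pow_ne_zero _ hwj
  have c1 := hn' _ hd (by simp [pv_apply, hij]) (by simp [pv_apply, hij.symm])
    (by simp [pv_apply, hik.symm, hjk.symm])
  have c2 := hn' _ hf (by simp [pv_apply, hij]) (by simp [pv_apply, hij.symm, H.ω0])
    (by simp [pv_apply, hik.symm, hjk.symm])
  have c3 : ¬ Commute (pt (pv j k 1)) (pt (pv i j 1) * pt (pv i j ω) * pt (pv i j 1)) := by
    rw [H.third hij]
    exact hn' _ (H.iso i j hij (pow_ne_zero _ H.ω0)) (by simp [pv_apply, hij])
      (by simp [pv_apply, hij.symm, H.ω0]) (by simp [pv_apply, hik.symm, hjk.symm])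
  obtain ⟨R54, -, hfix⟩ := H.rep.mod.plane (H.mem hd) (H.mem hf) (H.nc hij) (H.mem ha) c1 c2 c3
  set d := pt (pv i j 1) with hd'
  set a := pt (pv j k 1) with ha'
  have hsw : ∀ (s t : Fin n) (c : F) (σ τ : Fin n), s ≠ t →
      Equiv.swap σ τ s ≠ Equiv.swap σ τ t := fun s t c σ τ h e => h (Equiv.injective _ e)
  have hcomp : ∀ (s t : Fin n) (c : F) (σ : Equiv.Perm (Fin n)),
      pv s t c ∘ σ = pv (σ.symm s) (σ.symm t) c := fun s t c σ => by
    funext m
    simp only [Function.comp_apply, pv_apply, Equiv.eq_symm_apply]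
  have hax : a * xe pt ω i j * a = xe pt ω i k := by
    calc a * xe pt ω i j * a = (a * d * a) * (a * pt (pv i j ω) * a) := by
          simp only [xe, ← hd', mul_assoc]
          rw [← mul_assoc a a, H.sq_pt ha, one_mul]
      _ = xe pt ω i k := by
        rw [hd', ha', H.rep.conj _ _ ha hd, H.rep.conj _ _ ha hf, tvv_swap H.hF hjk,
          tvv_swap H.hF hjk, hcomp, hcomp, Equiv.symm_swap, Equiv.swap_apply_left,
          Equiv.swap_apply_of_ne_of_ne hij hik]
        rfl
  have hdx : d * xe pt ω i k * d = xe pt ω j k := by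
    calc d * xe pt ω i k * d = (d * pt (pv i k 1) * d) * (d * pt (pv i k ω) * d) := by
          simp only [xe, mul_assoc]
          rw [← mul_assoc d d, H.sq_pt hd, one_mul]
      _ = xe pt ω j k := by
        rw [hd', H.rep.conj _ _ hd (H.iso i k hik one_ne_zero),
          H.rep.conj _ _ hd (H.iso i k hik H.ω0), tvv_swap H.hF hij,
          tvv_swap H.hF hij, hcomp, hcomp, Equiv.symm_swap, Equiv.swap_apply_left,
          Equiv.swap_apply_of_ne_of_ne hik.symm hjk.symm]
        rfl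
  set x := xe pt ω i j with hxdef
  have hx' : d * pt (pv i j ω) = x := rfl
  rw [hx'] at hfix R54
  set p := d * a with hpdef
  set z := p⁻¹ * x⁻¹ * p * x with hzdef
  have hdd : d * d = 1 := H.sq_pt hd
  have ea : a = d * p := by rw [hpdef, ← mul_assoc, hdd, one_mul]
  have ea' : a = p⁻¹ * d := by
    rw [hpdef, mul_inv_rev, H.inv_pt hd, H.inv_pt ha, mul_assoc, hdd, mul_one]
  have hxd : d * x * d = x⁻¹ := R54.hdx
  have axa : xe pt ω i k = z * x⁻¹ := by
    calc xe pt ω i k = a * x * a := hax.symm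
      _ = p⁻¹ * (d * x * d) * p := by
        rw [show a * x * a = (p⁻¹ * d) * x * (d * p) by rw [← ea, ← ea']]; simp only [mul_assoc]
      _ = z * x⁻¹ := by rw [hxd, hzdef]; group
  have hzx : Commute z x := R54.hzx
  have hzd : Commute d z := R54.d_z
  have hxj : xe pt ω j k = z * x := by
    calc xe pt ω j k = d * (z * x⁻¹) * d := by rw [← hdx, axa]
      _ = z * (d * x⁻¹ * d) := by rw [← mul_assoc d, hzd.eq]; simp only [mul_assoc]
      _ = z * x := by
        rw [← hxd]; simp only [mul_assoc]; rw [← mul_assoc d d, hdd, one_mul, mul_one]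
  refine ⟨?_, fun v hv => hfix v ?_⟩
  · rw [hxj, axa, ← mul_assoc, ← hzx.eq, mul_assoc, hxdef, H.xe_sq hij]
  · rwa [axa, inv_mul_cancel_right] at hv

theorem cocycle {i j k : Fin n} (hij : i ≠ j) (hjk : j ≠ k) (hik : i ≠ k) :
    xe pt ω i j * xe pt ω j k = xe pt ω i k := (H.tri hij hjk hik).1

/-- A vector fixed by two torus elements through `i` is fixed by the monomial points. -/
theorem fix_pts {i j k : Fin n} (hij : i ≠ j) (hjk : j ≠ k) (hik : i ≠ k) {v : V}
    (h1 : ρ (xe pt ω i j) v = v) (h2 : ρ (xe pt ω i k) v = v) {a : F} (ha : a ≠ 0) :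
    ρ (pt (pv i j a)) v = v := by
  have hd : ρ (pt (pv i j 1)) v = v := ((H.tri hij hjk hik).2 v (by rw [← act_act, h1, h2])).1
  have hf : ρ (pt (pv i j ω)) v = v := by
    have : pt (pv i j ω) = pt (pv i j 1) * xe pt ω i j := by
      rw [xe, ← mul_assoc, H.sq_pt (H.iso i j hij one_ne_zero), one_mul]
    rw [this, ← act_act, h1, hd]
  rcases four H.hF H.ω0 H.ω1 a with rfl | rfl | rfl | rfl
  · exact absurd rfl ha
  · exact hd
  · exact hf
  · rw [← H.third hij, ← act_act, ← act_act, hd, hf, hd]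

theorem wgt_fix_pts {i k l : Fin n} {v : V} (hv : v ∈ Wgt ρ pt ω i) (hk : k ≠ i) (hl : l ≠ i)
    (hkl : k ≠ l) {a : F} (ha : a ≠ 0) : ρ (pt (pv k l a)) v = v := by
  obtain ⟨m, hm⟩ := exists_avoid ({i, k, l} : Finset (Fin n))
    (Nat.lt_of_le_of_lt Finset.card_le_three (by have := H.hn; omega))
  simp only [Finset.mem_insert, Finset.mem_singleton, not_or] at hm
  exact H.fix_pts hkl (Ne.symm hm.2.2) (Ne.symm hm.2.1) (hv k l hk hl hkl)
    (hv k m hk hm.1 (Ne.symm hm.2.1)) ha

end Frame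

end Cfsg.Agent.Sporadic96.TwoRad
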